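import Groth.Prelude.Def_EGA41
import Mathlib.LinearAlgebra.Basis.Basic
import Mathlib.LinearAlgebra.Basis.Bilinear
import Mathlib.Algebra.Algebra.Bilinear
import Mathlib.LinearAlgebra.Finsupp.LinearCombination
import Mathlib.Algebra.TrivSqZeroExt.Basic
import Mathlib.RingTheory.Derivation.Basic
import Mathlib.Algebra.CharP.Lemmas
import Mathlib.RingTheory.Kaehler.Basic

/-!
# p-bases (EGA 0_IV 21.1–21.2): the universal property

If `x` is a `p`-basis of `B` over `A`, then `B = A[B^p][X_i]/(X_i^p - x_i^p)`: ring homomorphisms out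
of `B` are determined by a ring homomorphism `φ` on `A[B^p]` and elements `z_i` with
`z_i ^ p = φ (x_i ^ p)`.
-/

set_option autoImplicit false
universe u

namespace Groth.Agent.Lib.Helper31.PBasis

open EGA41

variable (p : ℕ) {A B : Type u} [CommRing A] [CommRing B] [Algebra A B] {ι : Type u} (x : ι → B)

/-- `x i ^ p` as an element of `A[B^p]`. -/
def xp (A : Type u) [CommRing A] [Algebra A B] (i : ι) : pPowerSubalgebra p A B :=
  ⟨x i ^ p, Algebra.subset_adjoin ⟨x i, rfl⟩⟩

theorem pMonomial_zero {E : Type u} [CommRing E] (z : ι → E) : pMonomial z 0 = 1 := by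
  simp [pMonomial]

theorem pMonomial_add {E : Type u} [CommRing E] (z : ι → E) (e f : ι →₀ ℕ) :
    pMonomial z (e + f) = pMonomial z e * pMonomial z f := by
  unfold pMonomial
  exact Finsupp.prod_add_index' (fun _ => pow_zero _) (fun _ _ _ => pow_add _ _ _)

theorem map_pMonomial {E F : Type u} [CommRing E] [CommRing F] (v : E →+* F) (z : ι → E)
    (e : ι →₀ ℕ) : v (pMonomial z e) = pMonomial (fun i => v (z i)) e := by
  unfold pMonomial
  rw [map_finsuppProd]
  simp

/-- remainder exponent -/
noncomputable def rem (g : ι →₀ ℕ) : ι →₀ ℕ := g.mapRange (· % p) (Nat.zero_mod p)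

/-- quotient exponent -/
noncomputable def quo (g : ι →₀ ℕ) : ι →₀ ℕ := g.mapRange (· / p) (Nat.zero_div p)

theorem rem_lt (hp : 0 < p) (g : ι →₀ ℕ) (i : ι) : rem p g i < p := by
  simp [rem, Nat.mod_lt _ hp]

theorem pMonomial_decomp {E : Type u} [CommRing E] (z : ι → E) (g : ι →₀ ℕ) :
    pMonomial z g = pMonomial (fun i => z i ^ p) (quo p g) * pMonomial z (rem p g) := by
  have h1 : g = p • quo p g + rem p g := by
    ext i
    simp [quo, rem, Nat.div_add_mod]
  conv_lhs => rw [h1]
  rw [pMonomial_add]
  congr 1
  unfold pMonomial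
  rw [Finsupp.prod_of_support_subset (p • quo p g) (s := (quo p g).support)
    Finsupp.support_smul _ (fun _ _ => pow_zero _)]
  rw [Finsupp.prod]
  refine Finset.prod_congr rfl (fun i _ => ?_)
  simp [pow_mul]

variable {p x}

/-- the basis of `B` over `A[B^p]` attached to a `p`-basis -/
noncomputable def basis (hx : IsPBasis p A x) :
    Module.Basis {e : ι →₀ ℕ // ∀ i, e i < p} (pPowerSubalgebra p A B) B :=
  Module.Basis.mk
    (show LinearIndependent (pPowerSubalgebra p A B)
      (fun e : {e : ι →₀ ℕ // ∀ i, e i < p} => pMonomial x e.1) from hx.1)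
    (show ⊤ ≤ Submodule.span (pPowerSubalgebra p A B)
      (Set.range fun e : {e : ι →₀ ℕ // ∀ i, e i < p} => pMonomial x e.1) from le_of_eq hx.2.symm)

theorem basis_apply (hx : IsPBasis p A x) (e : {e : ι →₀ ℕ // ∀ i, e i < p}) :
    basis hx e = pMonomial x e.1 := by
  unfold basis
  rw [Module.Basis.mk_apply]

/-- Existence part of the universal property of a `p`-basis. -/
theorem exists_ringHom (hp : 0 < p) (hx : IsPBasis p A x) {E : Type u} [CommRing E]
    (φ : pPowerSubalgebra p A B →+* E) (z : ι → E) (hz : ∀ i, z i ^ p = φ (xp p x A i)) :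
    ∃ v : B →+* E, (∀ a, v (algebraMap (pPowerSubalgebra p A B) B a) = φ a) ∧
      ∀ i, v (x i) = z i := by
  let _ : Algebra (pPowerSubalgebra p A B) E := φ.toAlgebra
  let vl : B →ₗ[pPowerSubalgebra p A B] E :=
    (basis hx).constr (pPowerSubalgebra p A B) (fun e => pMonomial z e.1)
  have hvl : ∀ e : {e : ι →₀ ℕ // ∀ i, e i < p}, vl (pMonomial x e.1) = pMonomial z e.1 := by
    intro e
    rw [← basis_apply hx e]
    exact (basis hx).constr_basis _ _ e
  have hmon : ∀ g : ι →₀ ℕ, vl (pMonomial x g) = pMonomial z g := by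
    intro g
    rw [pMonomial_decomp p x g, pMonomial_decomp p z g]
    have h1 : pMonomial (fun i => x i ^ p) (quo p g) =
        algebraMap _ B (pMonomial (fun i => xp p x A i) (quo p g)) := by
      rw [map_pMonomial]; rfl
    rw [h1, ← Algebra.smul_def, map_smul, hvl ⟨rem p g, rem_lt p hp g⟩, Algebra.smul_def]
    congr 1
    change φ _ = _
    rw [map_pMonomial]
    simp only [hz]
  have hmul : ∀ b b', vl (b * b') = vl b * vl b' := by
    have h2 : (LinearMap.mul (pPowerSubalgebra p A B) B).compr₂ vl =
        (LinearMap.mul (pPowerSubalgebra p A B) E).compl₁₂ vl vl := by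
      refine (basis hx).ext fun e => (basis hx).ext fun f => ?_
      simp only [basis_apply, LinearMap.compr₂_apply, LinearMap.mul_apply', LinearMap.compl₁₂_apply,
        ← pMonomial_add, hmon]
    intro b b'
    exact congr($h2 b b')
  have hone : vl 1 = 1 := by rw [← pMonomial_zero x, hmon, pMonomial_zero]
  refine ⟨(AlgHom.ofLinearMap vl hone hmul : B →ₐ[pPowerSubalgebra p A B] E).toRingHom, ?_, ?_⟩
  · intro a
    exact (AlgHom.ofLinearMap vl hone hmul).commutes a
  · intro i
    have h3 := hmon (Finsupp.single i 1)
    simpa [pMonomial] using h3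

/-- Uniqueness part of the universal property of a `p`-basis. -/
theorem ringHom_ext (hx : IsPBasis p A x) {E : Type u} [CommRing E] (v v' : B →+* E)
    (h1 : ∀ a : pPowerSubalgebra p A B, v (algebraMap _ B a) = v' (algebraMap _ B a))
    (h2 : ∀ i, v (x i) = v' (x i)) : v = v' := by
  let _ : Algebra (pPowerSubalgebra p A B) E := (v.comp (algebraMap _ B)).toAlgebra
  let vl : B →ₗ[pPowerSubalgebra p A B] E :=
    { toFun := v, map_add' := map_add v, map_smul' := fun a b => by
        rw [Algebra.smul_def, map_mul]; rfl }
  let vl' : B →ₗ[pPowerSubalgebra p A B] E :=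
    { toFun := v', map_add' := map_add v', map_smul' := fun a b => by
        rw [Algebra.smul_def, map_mul, ← h1]; rfl }
  have : vl = vl' := by
    refine (basis hx).ext fun e => ?_
    change v (basis hx e) = v' (basis hx e)
    rw [basis_apply, map_pMonomial, map_pMonomial]
    simp only [h2]
  ext b
  exact congr($this b)

section Derivation

variable {L : Type u} [AddCommGroup L] [Module B L] [Module Bᵐᵒᵖ L] [IsCentralScalar B L]

/-- the ring hom `B → B ⊕ L` attached to an additive derivation -/
def ringHomOfDerivation (D : Derivation ℤ B L) : B →+* TrivSqZeroExt B L where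
  toFun b := TrivSqZeroExt.inl b + TrivSqZeroExt.inr (D b)
  map_one' := by simp
  map_mul' := by
    intro b b'
    apply TrivSqZeroExt.ext
    · simp
    · simp only [TrivSqZeroExt.snd_add, TrivSqZeroExt.snd_inl, TrivSqZeroExt.snd_inr, zero_add,
        TrivSqZeroExt.snd_mul, TrivSqZeroExt.fst_add, TrivSqZeroExt.fst_inl, TrivSqZeroExt.fst_inr,
        add_zero, Derivation.leibniz, op_smul_eq_smul]
  map_zero' := by simp
  map_add' := by
    intro b b'
    apply TrivSqZeroExt.ext <;> simp

theorem derivation_ext_aux (hx : IsPBasis p A x) (D D' : Derivation ℤ B L)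
    (h1 : ∀ a : pPowerSubalgebra p A B, D (a : B) = D' (a : B))
    (h2 : ∀ i, D (x i) = D' (x i)) : D = D' := by
  have h3 : ringHomOfDerivation D = ringHomOfDerivation D' := by
    refine ringHom_ext hx _ _ (fun a => ?_) (fun i => ?_)
    · change TrivSqZeroExt.inl (a : B) + TrivSqZeroExt.inr (D (a : B)) =
        TrivSqZeroExt.inl (a : B) + TrivSqZeroExt.inr (D' (a : B))
      rw [h1]
    · change TrivSqZeroExt.inl (x i) + TrivSqZeroExt.inr (D (x i)) =
        TrivSqZeroExt.inl (x i) + TrivSqZeroExt.inr (D' (x i))
      rw [h2]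
  ext b
  have h4 := congr(($h3 b).snd)
  simpa [ringHomOfDerivation] using h4

theorem exists_derivation_aux (hp : p.Prime) [CharP B p] (hx : IsPBasis p A x)
    (D₀ : pPowerSubalgebra p A B → L) (hadd : ∀ a b, D₀ (a + b) = D₀ a + D₀ b)
    (hmul : ∀ a b : pPowerSubalgebra p A B, D₀ (a * b) = (a : B) • D₀ b + (b : B) • D₀ a)
    (hxp : ∀ i, D₀ (xp p x A i) = 0) (y : ι → L) :
    ∃ D' : Derivation ℤ B L, (∀ a : pPowerSubalgebra p A B, D' (a : B) = D₀ a) ∧
      ∀ i, D' (x i) = y i := by
  have h0 : D₀ 0 = 0 := by
    have := hadd 0 0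
    simpa using this
  have h1 : D₀ 1 = 0 := by
    have := hmul 1 1
    simpa using this
  let φ : pPowerSubalgebra p A B →+* TrivSqZeroExt B L :=
    { toFun := fun a => TrivSqZeroExt.inl (a : B) + TrivSqZeroExt.inr (D₀ a)
      map_one' := by simp [h1]
      map_mul' := by
        intro a b
        apply TrivSqZeroExt.ext
        · simp
        · simp only [TrivSqZeroExt.snd_add, TrivSqZeroExt.snd_inl, TrivSqZeroExt.snd_inr, zero_add,
            TrivSqZeroExt.snd_mul, TrivSqZeroExt.fst_add, TrivSqZeroExt.fst_inl,
            TrivSqZeroExt.fst_inr, add_zero, op_smul_eq_smul, hmul]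
      map_zero' := by simp [h0]
      map_add' := by
        intro a b
        apply TrivSqZeroExt.ext
        · simp
        · simp [hadd] }
  have hpL : ∀ l : L, p • l = 0 := by
    intro l
    rw [← Nat.cast_smul_eq_nsmul B, CharP.cast_eq_zero, zero_smul]
  obtain ⟨v, hv1, hv2⟩ := exists_ringHom hp.pos hx φ
    (fun i => TrivSqZeroExt.inl (x i) + TrivSqZeroExt.inr (y i)) (by
      intro i
      apply TrivSqZeroExt.ext
      · simp [φ, xp]
      · rw [TrivSqZeroExt.snd_pow, hpL]
        simp [φ, hxp])
  have hfst : ∀ b, (v b).fst = b := by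
    have h2 : (TrivSqZeroExt.fstHom ℤ B L).toRingHom.comp v = RingHom.id B := by
      refine ringHom_ext hx _ _ (fun a => ?_) (fun i => ?_)
      · change (v (algebraMap _ B a)).fst = _
        rw [hv1]; simp [φ]
      · change (v (x i)).fst = _
        rw [hv2]; simp
    intro b
    exact congr($h2 b)
  refine ⟨{ toLinearMap := (AddMonoidHom.mk' (fun b => (v b).snd)
      (fun a b => by simp)).toIntLinearMap
            map_one_eq_zero' := by
              change (v 1).snd = 0
              simp
            leibniz' := by
              intro a b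
              change (v (a * b)).snd = a • (v b).snd + b • (v a).snd
              rw [map_mul, TrivSqZeroExt.snd_mul, hfst, hfst, op_smul_eq_smul] }, ?_, ?_⟩
  · intro a
    change (v (algebraMap _ B a)).snd = _
    rw [hv1]; simp [φ]
  · intro i
    change (v (x i)).snd = _
    rw [hv2]; simp

end Derivation

/-- Derivations out of `B` are determined by their values on `A[B^p]` and on a `p`-basis. -/
theorem derivation_ext (hx : IsPBasis p A x) {L : Type u} [AddCommGroup L] [Module B L]
    (D D' : Derivation ℤ B L)
    (h1 : ∀ a : pPowerSubalgebra p A B, D (a : B) = D' (a : B))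
    (h2 : ∀ i, D (x i) = D' (x i)) : D = D' := by
  let _ : Module Bᵐᵒᵖ L := Module.compHom L ((RingHom.id B).fromOpposite mul_comm)
  have _ : IsCentralScalar B L := ⟨fun _ _ => rfl⟩
  exact derivation_ext_aux hx D D' h1 h2

/-- Existence of derivations with prescribed values on a `p`-basis. -/
theorem exists_derivation (hp : p.Prime) [CharP B p] (hx : IsPBasis p A x)
    {L : Type u} [AddCommGroup L] [Module B L]
    (D₀ : pPowerSubalgebra p A B → L) (hadd : ∀ a b, D₀ (a + b) = D₀ a + D₀ b)
    (hmul : ∀ a b : pPowerSubalgebra p A B, D₀ (a * b) = (a : B) • D₀ b + (b : B) • D₀ a)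
    (hxp : ∀ i, D₀ (xp p x A i) = 0) (y : ι → L) :
    ∃ D' : Derivation ℤ B L, (∀ a : pPowerSubalgebra p A B, D' (a : B) = D₀ a) ∧
      ∀ i, D' (x i) = y i := by
  let _ : Module Bᵐᵒᵖ L := Module.compHom L ((RingHom.id B).fromOpposite mul_comm)
  have _ : IsCentralScalar B L := ⟨fun _ _ => rfl⟩
  exact exists_derivation_aux hp hx D₀ hadd hmul hxp y

section AlgDerivation

variable {L : Type u} [AddCommGroup L] [Module B L] [Module A L] [IsScalarTower A B L]

omit [IsScalarTower A B L] in
/-- An `A`-derivation of a ring of characteristic `p` vanishes on `A[B^p]`. -/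
theorem algDerivation_eq_zero [CharP B p] (D : Derivation A B L) (a : pPowerSubalgebra p A B) :
    D (a : B) = 0 := by
  have hpL : ∀ l : L, p • l = 0 := by
    intro l
    rw [← Nat.cast_smul_eq_nsmul B, CharP.cast_eq_zero, zero_smul]
  obtain ⟨a, ha⟩ := a
  change D a = 0
  induction ha using Algebra.adjoin_induction with
  | mem b hb =>
    obtain ⟨c, rfl⟩ := hb
    change D (c ^ p) = 0
    rw [Derivation.leibniz_pow, hpL]
  | algebraMap r => exact D.map_algebraMap r
  | add b c _ _ hb hc => rw [map_add, hb, hc, add_zero]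
  | mul b c _ _ hb hc => rw [Derivation.leibniz, hb, hc, smul_zero, smul_zero, add_zero]

/-- `A`-derivations out of `B` are determined by their values on a `p`-basis. -/
theorem algDerivation_ext [CharP B p] (hx : IsPBasis p A x) (D D' : Derivation A B L)
    (h : ∀ i, D (x i) = D' (x i)) : D = D' := by
  have h1 : D.restrictScalars ℤ = D'.restrictScalars ℤ :=
    derivation_ext hx _ _ (fun a => by
      rw [Derivation.restrictScalars_apply, Derivation.restrictScalars_apply,
        algDerivation_eq_zero, algDerivation_eq_zero]) h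
  ext b
  exact congr($h1 b)

/-- Existence of `A`-derivations with prescribed values on a `p`-basis. -/
theorem exists_algDerivation (hp : p.Prime) [CharP B p] (hx : IsPBasis p A x) (y : ι → L) :
    ∃ D : Derivation A B L, ∀ i, D (x i) = y i := by
  obtain ⟨D', hD'1, hD'2⟩ := exists_derivation hp hx (L := L) (fun _ => 0) (by simp) (by simp)
    (by simp) y
  refine ⟨{ toLinearMap :=
              { toFun := D'
                map_add' := map_add D'
                map_smul' := by
                  intro a b
                  rw [Algebra.smul_def, Derivation.leibniz,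
                    hD'1 ⟨algebraMap A B a, Subalgebra.algebraMap_mem _ a⟩, smul_zero, add_zero,
                    algebraMap_smul, RingHom.id_apply] }
            map_one_eq_zero' := D'.map_one_eq_zero
            leibniz' := D'.leibniz }, hD'2⟩

end AlgDerivation

/-- The differentials of a `p`-basis form a basis of `Ω[B⁄A]`. -/
theorem exists_kaehler_basis (hp : p.Prime) [CharP B p] (hx : IsPBasis p A x) :
    ∃ b : Module.Basis ι B (Ω[B⁄A]), ∀ i, b i = KaehlerDifferential.D A B (x i) := by
  classical
  obtain ⟨Dfin, hDfin⟩ := exists_algDerivation (L := ι →₀ B) hp hx (fun i => Finsupp.single i 1)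
  let e : Ω[B⁄A] ≃ₗ[B] (ι →₀ B) :=
    { Dfin.liftKaehlerDifferential with
      invFun := Finsupp.linearCombination B (fun i => KaehlerDifferential.D A B (x i))
      left_inv := by
        intro ω
        have h1 : ((Finsupp.linearCombination B (fun i => KaehlerDifferential.D A B (x i))).comp
            Dfin.liftKaehlerDifferential) = LinearMap.id := by
          apply Derivation.liftKaehlerDifferential_unique
          apply algDerivation_ext hx
          intro i
          simp [hDfin]
        exact congr($h1 ω)
      right_inv := by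
        intro f
        have h1 : Dfin.liftKaehlerDifferential.comp
            (Finsupp.linearCombination B (fun i => KaehlerDifferential.D A B (x i))) =
              LinearMap.id := by
          apply Finsupp.lhom_ext'
          intro i
          ext
          simp [hDfin]
        exact congr($h1 f) }
  refine ⟨Module.Basis.ofRepr e, fun i => ?_⟩
  change e.symm (Finsupp.single i 1) = _
  change Finsupp.linearCombination B (fun i => KaehlerDifferential.D A B (x i))
    (Finsupp.single i 1) = _
  simp

section Equiv

variable (hinj : Function.Injective (algebraMap A B))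
  (hpow : ∀ b : B, b ^ p ∈ Set.range (algebraMap A B))

include hpow in
theorem mem_range_of_mem_pPowerSubalgebra (a : pPowerSubalgebra p A B) :
    (a : B) ∈ Set.range (algebraMap A B) := by
  have h1 : pPowerSubalgebra p A B ≤ ⊥ := by
    unfold pPowerSubalgebra
    rw [Algebra.adjoin_le_iff]
    rintro _ ⟨b, rfl⟩
    obtain ⟨a, ha⟩ := hpow b
    exact Algebra.mem_bot.mpr ⟨a, ha⟩
  exact Algebra.mem_bot.mp (h1 a.2)

/-- When `A → B` is injective with image containing `B^p`, `A[B^p]` is a copy of `A`. -/
noncomputable def equivOfPow : A ≃+* pPowerSubalgebra p A B :=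
  RingEquiv.ofBijective (algebraMap A (pPowerSubalgebra p A B))
    ⟨fun a b h => hinj (congr(($h : B))), fun a => by
      obtain ⟨a', ha'⟩ := mem_range_of_mem_pPowerSubalgebra hpow a
      exact ⟨a', Subtype.ext ha'⟩⟩

theorem equivOfPow_apply (a : A) : ((equivOfPow hinj hpow a : pPowerSubalgebra p A B) : B) =
    algebraMap A B a := rfl

theorem algebraMap_equivOfPow_symm (a : pPowerSubalgebra p A B) :
    algebraMap A B ((equivOfPow hinj hpow).symm a) = (a : B) := by
  rw [← equivOfPow_apply hinj hpow, RingEquiv.apply_symm_apply]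

end Equiv

end Groth.Agent.Lib.Helper31.PBasis
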