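import Groth.Agent.Lib.Helper31.FibCritF
import Groth.Agent.Lib.Helper35.FiberStalk
import Groth.Agent.Lib.Helper35.StalkChart
import Groth.Prelude.Def_MoreMor
import Groth.Agent.Lib.QCoh.Helper74_FlatOver

/-!
# Fibrewise flatness criterion, part G (helper31): from schemes to rings

* `fibFlatAt_iff_of_models`: the fibre condition `FibFlatAt` can be tested on any models of the local
  rings and of their quotients by the maximal ideal of the base point.
* `map_maximalIdeal_stalkMap`: `m_s O_{Z,z}` on affine charts.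
* `fiberMap_stalkMap_flat_iff`: flatness of the stalk map of `MoreMor.fiberMap f g s` at a point of
  the fibre is `FibFlatAt` on affine charts.
-/

set_option autoImplicit false
set_option maxHeartbeats 1000000
open TensorProduct
namespace Groth.Agent.Lib.Helper31.FibCrit
universe u


/-- **Model-independence of the fibre condition.** If `S`, `T` are any models of the localizations
`B_q`, `C_r` and `σ : S → S'`, `τ : T → T'` are surjections with kernels `pS`, `pT`, then a ring map
`ψ : S' → T'` compatible with `B → C` is flat iff `FibFlatAt A B C r` holds. -/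
theorem fibFlatAt_iff_of_models {A B C : Type u} [CommRing A] [CommRing B] [CommRing C]
    [Algebra A B] [Algebra B C] [Algebra A C] [IsScalarTower A B C] (r : Ideal C) [r.IsPrime]
    {S T S' T' : Type u} [CommRing S] [CommRing T] [CommRing S'] [CommRing T']
    [Algebra B S] [Algebra C T] [IsLocalization.AtPrime S (r.under B)] [IsLocalization.AtPrime T r]
    (σ : S →+* S') (τ : T →+* T') (ψ : S' →+* T')
    (hσ : Function.Surjective σ) (hτ : Function.Surjective τ)
    (kσ : RingHom.ker σ = (r.under A).map ((algebraMap B S).comp (algebraMap A B)))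
    (kτ : RingHom.ker τ = (r.under A).map ((algebraMap C T).comp (algebraMap A C)))
    (hcomm : (ψ.comp σ).comp (algebraMap B S) = (τ.comp (algebraMap C T)).comp (algebraMap B C)) :
    ψ.Flat ↔ FibFlatAt A B C r := by
  let q : Ideal B := r.under B
  let p : Ideal A := r.under A
  letI aST := Localization.AtPrime.algebraOfLiesOver q r
  let S₀ := Localization.AtPrime q
  let T₀ := Localization.AtPrime r
  have t1 : IsScalarTower A S₀ T₀ := inferInstance
  have t2 : IsScalarTower B S₀ T₀ := inferInstance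
  let eS : S₀ ≃ₐ[B] S := IsLocalization.algEquiv q.primeCompl S₀ S
  let eT : T₀ ≃ₐ[C] T := IsLocalization.algEquiv r.primeCompl T₀ T
  let I : Ideal S₀ := p.map (algebraMap A S₀)
  let J : Ideal T₀ := p.map (algebraMap A T₀)
  let σ₀ : S₀ →+* S' := σ.comp eS.toRingEquiv.toRingHom
  let τ₀ : T₀ →+* T' := τ.comp eT.toRingEquiv.toRingHom
  have hσ₀ : Function.Surjective σ₀ := hσ.comp eS.surjective
  have hτ₀ : Function.Surjective τ₀ := hτ.comp eT.surjective
  have kσ₀ : RingHom.ker σ₀ = I := by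
    show RingHom.ker (σ.comp eS.toRingEquiv.toRingHom) = _
    rw [← RingHom.comap_ker, kσ]
    have hK : Ideal.map ((algebraMap B S).comp (algebraMap A B)) (Ideal.under A r) =
        I.map (eS.toRingEquiv.toRingHom) := by
      show _ = Ideal.map _ (Ideal.map (algebraMap A S₀) p)
      rw [Ideal.map_map]
      congr 1
      ext a
      simp only [RingHom.coe_comp, Function.comp_apply, RingEquiv.toRingHom_eq_coe,
        AlgEquiv.toRingEquiv_toRingHom, RingHom.coe_coe]
      rw [IsScalarTower.algebraMap_apply A B S₀, eS.commutes]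
    rw [hK]
    exact Ideal.comap_map_of_bijective _ eS.bijective
  have kτ₀ : RingHom.ker τ₀ = J := by
    show RingHom.ker (τ.comp eT.toRingEquiv.toRingHom) = _
    rw [← RingHom.comap_ker, kτ]
    have hK : Ideal.map ((algebraMap C T).comp (algebraMap A C)) (Ideal.under A r) =
        J.map (eT.toRingEquiv.toRingHom) := by
      show _ = Ideal.map _ (Ideal.map (algebraMap A T₀) p)
      rw [Ideal.map_map]
      congr 1
      ext a
      simp only [RingHom.coe_comp, Function.comp_apply, RingEquiv.toRingHom_eq_coe,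
        AlgEquiv.toRingEquiv_toRingHom, RingHom.coe_coe]
      rw [IsScalarTower.algebraMap_apply A C T₀, eT.commutes]
    rw [hK]
    exact Ideal.comap_map_of_bijective _ eT.bijective
  let cS : S₀ ⧸ I ≃+* S' :=
    (Ideal.quotEquivOfEq kσ₀.symm).trans (RingHom.quotientKerEquivOfSurjective hσ₀)
  let cT : T₀ ⧸ J ≃+* T' :=
    (Ideal.quotEquivOfEq kτ₀.symm).trans (RingHom.quotientKerEquivOfSurjective hτ₀)
  have hψ : I ≤ J.comap (algebraMap S₀ T₀) := map_le_comap_map A S₀ T₀ p
  have hsq : ψ.comp cS.toRingHom = cT.toRingHom.comp (Ideal.quotientMap J (algebraMap S₀ T₀) hψ) := by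
    apply Ideal.Quotient.ringHom_ext
    apply IsLocalization.ringHom_ext q.primeCompl
    ext b
    have h1 : cS (Ideal.Quotient.mk I (algebraMap B S₀ b)) = σ (algebraMap B S b) := by
      show σ₀ (algebraMap B S₀ b) = _
      show σ (eS (algebraMap B S₀ b)) = _
      rw [eS.commutes]
    have h2 : cT (Ideal.Quotient.mk J (algebraMap S₀ T₀ (algebraMap B S₀ b))) =
        τ (algebraMap C T (algebraMap B C b)) := by
      show τ₀ (algebraMap S₀ T₀ (algebraMap B S₀ b)) = _
      show τ (eT (algebraMap S₀ T₀ (algebraMap B S₀ b))) = _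
      rw [← IsScalarTower.algebraMap_apply B S₀ T₀, IsScalarTower.algebraMap_apply B C T₀,
        eT.commutes]
    simp only [RingHom.coe_comp, Function.comp_apply, RingEquiv.toRingHom_eq_coe, RingHom.coe_coe,
      Ideal.quotientMap_mk]
    rw [h1, h2]
    exact congr($hcomm b)
  show ψ.Flat ↔ (Ideal.quotientMap J (algebraMap S₀ T₀) hψ).Flat
  constructor
  · intro h
    have : Ideal.quotientMap J (algebraMap S₀ T₀) hψ =
        cT.symm.toRingHom.comp (ψ.comp cS.toRingHom) := by
      rw [hsq]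
      ext x
      simp
    rw [this]
    exact RingHom.Flat.comp (RingHom.Flat.comp (.of_bijective cS.bijective) h)
      (.of_bijective cT.symm.bijective)
  · intro h
    have : ψ = (cT.toRingHom.comp (Ideal.quotientMap J (algebraMap S₀ T₀) hψ)).comp
        cS.symm.toRingHom := by
      rw [← hsq]
      ext x
      simp
    rw [this]
    exact RingHom.Flat.comp (.of_bijective cS.symm.bijective)
      (RingHom.Flat.comp h (.of_bijective cT.bijective))


open AlgebraicGeometry CategoryTheory Limits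


/-- the extension of the maximal ideal of the base point to a stalk, on charts. -/
theorem map_maximalIdeal_stalkMap {Z S : Scheme.{u}} (h : Z ⟶ S) (z : Z) {W : S.Opens}
    (hW : IsAffineOpen W) {U : Z.Opens} (hU : IsAffineOpen U) (hUW : U ≤ h ⁻¹ᵁ W) (hz : z ∈ U) :
    (IsLocalRing.maximalIdeal (S.presheaf.stalk (h z))).map (h.stalkMap z).hom =
      ((hU.primeIdealOf ⟨z, hz⟩).asIdeal.comap (h.appLE W U hUW).hom).map
        ((Z.presheaf.germ U z hz).hom.comp (h.appLE W U hUW).hom) := by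
  letI := S.presheaf.algebra_section_stalk ⟨h z, hUW hz⟩
  haveI := hW.isLocalization_stalk ⟨h z, hUW hz⟩
  have h1 : (hU.primeIdealOf ⟨z, hz⟩).asIdeal.comap (h.appLE W U hUW).hom =
      (hW.primeIdealOf ⟨h z, hUW hz⟩).asIdeal :=
    congr($(IsAffineOpen.comap_primeIdealOf_appLE W hW U hU hUW hz).1)
  rw [h1, ← IsLocalization.AtPrime.map_eq_maximalIdeal (hW.primeIdealOf ⟨h z, hUW hz⟩).asIdeal
    (S.presheaf.stalk (h z)), Ideal.map_map]
  congr 1
  ext a
  exact (Groth.Agent.Lib.QCoh.germ_appLE_apply h hUW z hz a).symm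

theorem stalkMap_germ_congr {Z Y : Scheme.{u}} (F G : Z ⟶ Y) (h : F = G) (z : Z) (U : Y.Opens)
    (hz : F z ∈ U) (b : Γ(Y, U)) :
    F.stalkMap z (Y.presheaf.germ U (F z) hz b) =
      G.stalkMap z (Y.presheaf.germ U (G z) (h ▸ hz) b) := by
  subst h; rfl

theorem fibFlatAt_congr {A B C : Type u} [CommRing A] [CommRing B] [CommRing C] [Algebra A B]
    [Algebra B C] [Algebra A C] [IsScalarTower A B C] {r r' : Ideal C} [r.IsPrime] [r'.IsPrime]
    (h : r = r') : FibFlatAt A B C r ↔ FibFlatAt A B C r' := by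
  subst h; rfl

/-- **Bridge**: flatness of the stalk map of the morphism of fibres, on affine charts. -/
theorem fiberMap_stalkMap_flat_iff {X Y S : Scheme.{u}} (f : X ⟶ Y) (g : Y ⟶ S) (s : S)
    (x' : ((f ≫ g).fiber s : Scheme.{u}))
    {W : S.Opens} (hW : IsAffineOpen W) {U : Y.Opens} (hU : IsAffineOpen U) {V : X.Opens}
    (hV : IsAffineOpen V) (hUW : U ≤ g ⁻¹ᵁ W) (hVU : V ≤ f ⁻¹ᵁ U)
    (hx : ((f ≫ g).fiberι s) x' ∈ V)
    [Algebra Γ(S, W) Γ(Y, U)] [Algebra Γ(Y, U) Γ(X, V)] [Algebra Γ(S, W) Γ(X, V)]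
    [IsScalarTower Γ(S, W) Γ(Y, U) Γ(X, V)]
    (hAB : algebraMap Γ(S, W) Γ(Y, U) = (g.appLE W U hUW).hom)
    (hBC : algebraMap Γ(Y, U) Γ(X, V) = (f.appLE U V hVU).hom) :
    ((MoreMor.fiberMap f g s).stalkMap x').hom.Flat ↔
      FibFlatAt Γ(S, W) Γ(Y, U) Γ(X, V)
        (hV.primeIdealOf ⟨((f ≫ g).fiberι s) x', hx⟩).asIdeal := by
  have hfm : MoreMor.fiberMap f g s ≫ g.fiberι s = (f ≫ g).fiberι s ≫ f :=
    pullback.lift_fst _ _ _
  let x₁ : X := ((f ≫ g).fiberι s) x'
  let y' : (g.fiber s : Scheme.{u}) := (MoreMor.fiberMap f g s) x'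
  let y₁ : Y := (g.fiberι s) y'
  have hy₁ : y₁ = f x₁ := congr(($hfm) x')
  have hx₁V : x₁ ∈ V := hx
  have hy₁U : y₁ ∈ U := hy₁ ▸ hVU hx₁V
  have hVW : V ≤ (f ≫ g) ⁻¹ᵁ W := fun z hz => hUW (hVU hz)
  have hAC : algebraMap Γ(S, W) Γ(X, V) = ((f ≫ g).appLE W V hVW).hom := by
    rw [IsScalarTower.algebraMap_eq Γ(S, W) Γ(Y, U) Γ(X, V), hAB, hBC, ← CommRingCat.hom_comp,
      Scheme.Hom.appLE_comp_appLE]
  let r : Ideal Γ(X, V) := (hV.primeIdealOf ⟨x₁, hx₁V⟩).asIdeal
  have hq : (hU.primeIdealOf ⟨y₁, hy₁U⟩).asIdeal = r.under Γ(Y, U) := by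
    have h1 := congr($(IsAffineOpen.comap_primeIdealOf_appLE U hU V hV hVU hx₁V).1)
    have h2 : (⟨y₁, hy₁U⟩ : U) = ⟨f x₁, hVU hx₁V⟩ := Subtype.ext hy₁
    rw [h2, ← h1]
    show Ideal.comap _ r = Ideal.comap _ r
    rw [hBC]
  letI algS := Y.presheaf.algebra_section_stalk ⟨y₁, hy₁U⟩
  have hcompl : (hU.primeIdealOf ⟨y₁, hy₁U⟩).asIdeal.primeCompl = (r.under Γ(Y, U)).primeCompl := by
    ext b
    simp only [Ideal.mem_primeCompl_iff]
    rw [hq]
  haveI locS : IsLocalization.AtPrime (Y.presheaf.stalk y₁) (r.under Γ(Y, U)) := by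
    show IsLocalization (r.under Γ(Y, U)).primeCompl (Y.presheaf.stalk y₁)
    rw [← hcompl]
    exact hU.isLocalization_stalk ⟨y₁, hy₁U⟩
  letI algT := X.presheaf.algebra_section_stalk ⟨x₁, hx₁V⟩
  haveI locT : IsLocalization.AtPrime (X.presheaf.stalk x₁) r := hV.isLocalization_stalk ⟨x₁, hx₁V⟩
  refine fibFlatAt_iff_of_models r (S := Y.presheaf.stalk y₁) (T := X.presheaf.stalk x₁)
    ((g.fiberι s).stalkMap y').hom (((f ≫ g).fiberι s).stalkMap x').hom
    ((MoreMor.fiberMap f g s).stalkMap x').hom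
    (Groth.Agent.Lib.Helper35.FiberStalk.stalkMap_fiberι_surjective g s y')
    (Groth.Agent.Lib.Helper35.FiberStalk.stalkMap_fiberι_surjective (f ≫ g) s x') ?_ ?_ ?_
  · -- kernel of σ
    rw [Groth.Agent.Lib.Helper35.FiberStalk.ker_stalkMap_fiberι g s y']
    have h1 := map_maximalIdeal_stalkMap g y₁ hW hU hUW hy₁U
    rw [hq, ← hAB] at h1
    have h2 : Ideal.comap (algebraMap Γ(S, W) Γ(Y, U)) (r.under Γ(Y, U)) = r.under Γ(S, W) := by
      simp only [Ideal.under, Ideal.comap_comap, ← IsScalarTower.algebraMap_eq]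
    rw [h2] at h1
    exact h1
  · -- kernel of τ
    rw [Groth.Agent.Lib.Helper35.FiberStalk.ker_stalkMap_fiberι (f ≫ g) s x']
    have h1 := map_maximalIdeal_stalkMap (f ≫ g) x₁ hW hV hVW hx₁V
    rw [← hAC] at h1
    exact h1
  · -- commutativity
    ext b
    simp only [RingHom.coe_comp, Function.comp_apply]
    show ((MoreMor.fiberMap f g s).stalkMap x').hom (((g.fiberι s).stalkMap y').hom
        ((Y.presheaf.germ U y₁ hy₁U).hom b)) =
      (((f ≫ g).fiberι s).stalkMap x').hom ((X.presheaf.germ V x₁ hx₁V).hom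
        (algebraMap Γ(Y, U) Γ(X, V) b))
    rw [hBC]
    have e1 := Groth.Agent.Lib.QCoh.germ_appLE_apply f hVU x₁ hx₁V b
    have e2 := stalkMap_germ_congr _ _ hfm x' U hy₁U b
    rw [Scheme.Hom.stalkMap_comp, Scheme.Hom.stalkMap_comp] at e2
    erw [e1]
    exact e2

end Groth.Agent.Lib.Helper31.FibCrit
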