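import Mathlib
import Groth.Prelude.Def_CAlgX

/-!
# Flat + formally smooth fibre implies adically formally smooth (EGA 0_IV 19.7.1, discrete fibre)

* `flat_quotient`: `B/𝔞B` is flat over `A/𝔞` when `B` is flat over `A`.
* `formallySmooth_quotient_pow`: if `B` is `A`-flat and `B/IB` is formally smooth over `A/I` then
  `B/IⁿB` is formally smooth over `A/Iⁿ` for all `n ≥ 1` (Stacks 031L iterated).
* `isAdicFormallySmooth_of_flat`: under the same hypotheses, `B` is formally smooth over `A` for the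
  `IB`-adic topology (`CAlgX.IsAdicFormallySmooth A B (I.map (algebraMap A B))`).
-/

set_option autoImplicit false
universe u v

namespace Groth.Agent.Lib.Helper31.FlatFS

open TensorProduct

section

variable {A : Type u} {B : Type v} [CommRing A] [CommRing B] [Algebra A B]

/-- base change of a flat algebra to a quotient, in quotient form -/
theorem flat_quotient [Module.Flat A B] (𝔞 : Ideal A) :
    Module.Flat (A ⧸ 𝔞) (B ⧸ 𝔞.map (algebraMap A B)) := by
  let e₀ : ((A ⧸ 𝔞) ⊗[A] B) ≃ₗ[A] (B ⧸ 𝔞.map (algebraMap A B)) :=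
    (TensorProduct.comm A (A ⧸ 𝔞) B) ≪≫ₗ
      ((Algebra.TensorProduct.quotIdealMapEquivTensorQuot B 𝔞).symm.toLinearEquiv.restrictScalars A)
  let e : ((A ⧸ 𝔞) ⊗[A] B) ≃ₗ[A ⧸ 𝔞] (B ⧸ 𝔞.map (algebraMap A B)) :=
    { e₀ with
      map_smul' := fun s x => by
        obtain ⟨a, rfl⟩ := Ideal.Quotient.mk_surjective s
        have h1 : (Ideal.Quotient.mk 𝔞 a) • x = a • x := by
          rw [← Ideal.Quotient.algebraMap_eq, algebraMap_smul]
        have h2 : (Ideal.Quotient.mk 𝔞 a) • e₀ x = a • e₀ x := by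
          rw [← Ideal.Quotient.algebraMap_eq, algebraMap_smul]
        simp only [AddHom.toFun_eq_coe, LinearMap.coe_toAddHom, LinearEquiv.coe_coe,
          RingHom.id_apply]
        rw [h1, h2, map_smul] }
  exact Module.Flat.of_linearEquiv e.symm

theorem formallySmooth_quotient_step [Module.Flat A B] (𝔞 𝔞' : Ideal A) (h1 : 𝔞 ≤ 𝔞')
    (h2 : 𝔞' ^ 2 ≤ 𝔞)
    (hP : Algebra.FormallySmooth (A ⧸ 𝔞') (B ⧸ 𝔞'.map (algebraMap A B))) :
    Algebra.FormallySmooth (A ⧸ 𝔞) (B ⧸ 𝔞.map (algebraMap A B)) := by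
  rw [← RingHom.formallySmooth_algebraMap] at hP ⊢
  have h1' : 𝔞.map (algebraMap A B) ≤ 𝔞'.map (algebraMap A B) := Ideal.map_mono h1
  refine RingHom.FormallySmooth.of_flat_of_ker_eq_map_of_square_zero _
    (RingHom.flat_algebraMap_iff.mpr (flat_quotient 𝔞)) (Ideal.Quotient.factor h1)
    (Ideal.Quotient.factor h1') _ (Ideal.Quotient.factor_surjective h1)
    (Ideal.Quotient.factor_surjective h1') ?_ ?_ ?_ hP
  · refine Ideal.Quotient.ringHom_ext (RingHom.ext fun a => ?_)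
    rfl
  · rw [Ideal.Quotient.factor_ker h1, ← Ideal.map_pow, Ideal.map_eq_bot_iff_le_ker, Ideal.mk_ker]
    exact h2
  · rw [Ideal.Quotient.factor_ker h1', Ideal.Quotient.factor_ker h1, Ideal.map_map, Ideal.map_map]
    congr 1

theorem formallySmooth_quotient_pow [Module.Flat A B] (I : Ideal A)
    (hP : Algebra.FormallySmooth (A ⧸ I) (B ⧸ I.map (algebraMap A B))) (n : ℕ) (hn : 1 ≤ n) :
    Algebra.FormallySmooth (A ⧸ I ^ n) (B ⧸ (I ^ n).map (algebraMap A B)) := by
  induction n, hn using Nat.le_induction with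
  | base =>
    have : ∀ 𝔞 : Ideal A, 𝔞 = I → Algebra.FormallySmooth (A ⧸ 𝔞) (B ⧸ 𝔞.map (algebraMap A B)) := by
      rintro 𝔞 rfl; exact hP
    exact this _ (pow_one I)
  | succ n hn ih =>
    refine formallySmooth_quotient_step (I ^ (n + 1)) (I ^ n) (Ideal.pow_le_pow_right (Nat.le_succ n))
      ?_ ih
    rw [← pow_mul]
    exact Ideal.pow_le_pow_right (by omega)

end

section

variable {A B : Type u} [CommRing A] [CommRing B] [Algebra A B]

/-- **EGA 0_IV 19.7.1, discrete fibre case**: if `B` is flat over `A` and `B/IB` is formally smooth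
over `A/I` (discrete topologies), then `B` is formally smooth over `A` for the `IB`-adic topology. -/
theorem isAdicFormallySmooth_of_flat [Module.Flat A B] (I : Ideal A)
    (hP : Algebra.FormallySmooth (A ⧸ I) (B ⧸ I.map (algebraMap A B))) :
    CAlgX.IsAdicFormallySmooth A B (I.map (algebraMap A B)) := by
  intro C _ _ J hJ ψ hψ
  obtain ⟨m, hm⟩ := hψ
  -- `I ^ (m+1)` maps into `J`
  have h1 : ∀ a ∈ I ^ (m + 1), algebraMap A C a ∈ J := by
    intro a ha
    rw [← Ideal.Quotient.eq_zero_iff_mem, ← Ideal.Quotient.algebraMap_eq,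
      ← IsScalarTower.algebraMap_apply, ← ψ.commutes]
    apply hm
    rw [← Ideal.map_pow]
    exact Ideal.mem_map_of_mem _ (Ideal.pow_le_pow_right (Nat.le_succ m) ha)
  have h2 : ∀ a ∈ I ^ ((m + 1) * 2), algebraMap A C a = 0 := by
    intro a ha
    have h3 : (I ^ ((m + 1) * 2)).map (algebraMap A C) ≤ J ^ 2 := by
      rw [pow_mul, Ideal.map_pow]
      refine Ideal.pow_right_mono ?_ 2
      rw [Ideal.map_le_iff_le_comap]
      exact h1
    have := h3 (Ideal.mem_map_of_mem _ ha)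
    rwa [hJ, Ideal.mem_bot] at this
  have hP' := formallySmooth_quotient_pow I hP ((m + 1) * 2) (by omega)
  letI : Algebra (A ⧸ I ^ ((m + 1) * 2)) C :=
    (Ideal.Quotient.lift (I ^ ((m + 1) * 2)) (algebraMap A C) h2).toAlgebra
  haveI : IsScalarTower A (A ⧸ I ^ ((m + 1) * 2)) C :=
    IsScalarTower.of_algebraMap_eq (fun a => rfl)
  have hkill : ∀ b ∈ (I ^ ((m + 1) * 2)).map (algebraMap A B), ψ b = 0 := by
    intro b hb
    apply hm
    rw [← Ideal.map_pow]
    exact Ideal.map_mono (Ideal.pow_le_pow_right (by omega)) hb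
  let ψ₁ : (B ⧸ (I ^ ((m + 1) * 2)).map (algebraMap A B)) →ₐ[A] C ⧸ J :=
    Ideal.Quotient.liftₐ _ ψ hkill
  let ψ₂ : (B ⧸ (I ^ ((m + 1) * 2)).map (algebraMap A B)) →ₐ[A ⧸ I ^ ((m + 1) * 2)] C ⧸ J :=
    AlgHom.extendScalarsOfSurjective Ideal.Quotient.mk_surjective ψ₁
  let χ₂ := Algebra.FormallySmooth.lift J ⟨2, hJ⟩ ψ₂
  have hχ₂ : ∀ x, Ideal.Quotient.mk J (χ₂ x) = ψ₂ x := fun x =>
    Algebra.FormallySmooth.mk_lift J ⟨2, hJ⟩ ψ₂ x
  refine ⟨(χ₂.restrictScalars A).comp (Ideal.Quotient.mkₐ A _), AlgHom.ext fun b => ?_⟩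
  exact hχ₂ (Ideal.Quotient.mk _ b)

end

end Groth.Agent.Lib.Helper31.FlatFS
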