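import Mathlib
import Groth.Agent.S2483

/-!
# Artinian local rings formally smooth over a field are fields

* `maximalIdeal_eq_bot_of_formallySmooth`: an Artinian local ring formally smooth over a field is a
  field (EGA 0_IV 19.6.4-type statement in the Artinian case).
* `map_maximalIdeal_eq`: for a formally smooth homomorphism `A → B` of Artinian local rings,
  `𝔪_A B = 𝔪_B`.
* `length_eq`: if moreover `B` is flat over `A`, then `A` and `B` have the same length.
-/

set_option autoImplicit false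
universe u v w

namespace Groth.Agent.Lib.Helper31.ArtinFS

open IsLocalRing Polynomial TensorProduct

/-- a hyperplane in `𝔪` containing `𝔪²` and avoiding `c`. -/
theorem exists_hyperplane {C : Type*} [CommRing C] [IsLocalRing C] (c : C)
    (hc : c ∈ maximalIdeal C) (hc2 : c ∉ maximalIdeal C ^ 2) :
    ∃ 𝔞 : Ideal C, maximalIdeal C ^ 2 ≤ 𝔞 ∧ 𝔞 ≤ maximalIdeal C ∧ c ∉ 𝔞 ∧
      ∀ y ∈ maximalIdeal C, ∃ b : C, y - b * c ∈ 𝔞 := by
  set 𝔪 := maximalIdeal C with h𝔪
  -- the module `𝔪 / 𝔪 𝔪`
  let T : Submodule C 𝔪 := 𝔪 • ⊤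
  have htors : Module.IsTorsionBySet C (𝔪 ⧸ T) 𝔪 := by
    intro w a
    obtain ⟨ω, rfl⟩ := Submodule.Quotient.mk_surjective _ w
    rw [← Submodule.Quotient.mk_smul, Submodule.Quotient.mk_eq_zero]
    exact Submodule.smul_mem_smul a.2 trivial
  haveI : IsSemisimpleModule C (𝔪 ⧸ T) := by
    letI := htors.module
    letI : Field (C ⧸ 𝔪) := Ideal.Quotient.field _
    exact htors.isSemisimpleModule_iff.mp inferInstance
  have hT : ∀ y : 𝔪, y ∈ T ↔ (y : C) ∈ 𝔪 ^ 2 := by
    intro y
    have h1 : Submodule.map 𝔪.subtype T = 𝔪 ^ 2 := by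
      simp only [T, Submodule.map_smul'', Submodule.map_top, Submodule.range_subtype, pow_two,
        smul_eq_mul]
    rw [← h1]
    constructor
    · intro hy; exact ⟨y, hy, rfl⟩
    · rintro ⟨y', hy', hyy'⟩
      have : y' = y := Subtype.ext hyy'
      rwa [← this]
  let cbar : 𝔪 ⧸ T := T.mkQ ⟨c, hc⟩
  obtain ⟨H, hH⟩ := exists_isCompl (Submodule.span C {cbar})
  refine ⟨Submodule.map 𝔪.subtype (Submodule.comap T.mkQ H), ?_, ?_, ?_, ?_⟩
  · intro y hy
    have hy' : y ∈ 𝔪 := Ideal.pow_le_self two_ne_zero hy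
    refine ⟨⟨y, hy'⟩, ?_, rfl⟩
    rw [SetLike.mem_coe, Submodule.mem_comap]
    have : T.mkQ ⟨y, hy'⟩ = 0 := by
      rw [Submodule.mkQ_apply, Submodule.Quotient.mk_eq_zero, hT]
      exact hy
    rw [this]
    exact zero_mem _
  · rintro y ⟨y', -, rfl⟩
    exact y'.2
  · rintro ⟨y', hy', hyc⟩
    have : y' = ⟨c, hc⟩ := Subtype.ext hyc
    rw [this, SetLike.mem_coe, Submodule.mem_comap] at hy'
    have h2 : cbar ∈ Submodule.span C {cbar} ⊓ H :=
      ⟨Submodule.mem_span_singleton_self _, hy'⟩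
    rw [hH.inf_eq_bot, Submodule.mem_bot] at h2
    have h3 : (⟨c, hc⟩ : 𝔪) ∈ T := by
      change T.mkQ ⟨c, hc⟩ = 0 at h2
      rwa [Submodule.mkQ_apply, Submodule.Quotient.mk_eq_zero] at h2
    exact hc2 ((hT _).mp h3)
  · intro y hy
    have h1 : T.mkQ ⟨y, hy⟩ ∈ Submodule.span C {cbar} ⊔ H := by
      rw [hH.sup_eq_top]; trivial
    obtain ⟨y1, hy1, z, hz, hyz⟩ := Submodule.mem_sup.mp h1
    obtain ⟨b, rfl⟩ := Submodule.mem_span_singleton.mp hy1
    refine ⟨b, ⟨⟨y, hy⟩ - b • ⟨c, hc⟩, ?_, ?_⟩⟩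
    · rw [SetLike.mem_coe, Submodule.mem_comap, map_sub, map_smul, ← hyz, add_sub_cancel_left]
      exact hz
    · simp

theorem formallySmooth_zmod (p : ℕ) [Fact p.Prime] (K : Type w) [Field K] [CharP K p]
    [Algebra (ZMod p) K] : Algebra.FormallySmooth (ZMod p) K := by
  letI : Algebra (ULift.{w} (ZMod p)) K :=
    Algebra.compHom K (ULift.ringEquiv : ULift.{w} (ZMod p) ≃+* ZMod p).toRingHom
  have hh : IsScalarTower (ZMod p) (ULift.{w} (ZMod p)) K := by
    refine IsScalarTower.of_algebraMap_eq' ?_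
    exact Subsingleton.elim _ _
  haveI h1 : Algebra.FormallySmooth (ULift.{w} (ZMod p)) K :=
    Groth.Agent.S2483.formallySmooth_of_charP p K
  haveI h2 : Algebra.FormallySmooth (ZMod p) (ULift.{w} (ZMod p)) :=
    Algebra.FormallySmooth.of_equiv (ULift.algEquiv (R := ZMod p) (A := ZMod p)).symm
  exact @Algebra.FormallySmooth.comp (ZMod p) _ (ULift.{w} (ZMod p)) _ _ K _ _ _ hh h2 h1

theorem formallySmooth_rat (K : Type w) [Field K] [CharZero K] [Algebra ℚ K] :
    Algebra.FormallySmooth ℚ K := by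
  have h : (‹Algebra ℚ K› : Algebra ℚ K) = DivisionRing.toRatAlgebra := Subsingleton.elim _ _
  rw [h]
  exact Groth.Agent.S2483.formallySmooth_of_charZero K

/-- **An Artinian local ring formally smooth over a field `k₀`, with residue field formally smooth
over `k₀`, is a field.** -/
theorem maximalIdeal_eq_bot_of_formallySmooth_aux (k₀ : Type*) [Field k₀] (E : Type*) [CommRing E]
    [Algebra k₀ E] [IsLocalRing E] [IsArtinianRing E] [Algebra.FormallySmooth k₀ E]
    (K : Type*) [Field K] [Algebra k₀ K] [Algebra.FormallySmooth k₀ K] (ρ : E →ₐ[k₀] K)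
    (hρ : Function.Surjective ρ) : maximalIdeal E = ⊥ := by
  by_contra hne
  obtain ⟨N, hN⟩ : ∃ N, maximalIdeal E ^ N = ⊥ :=
    (isArtinianRing_iff_isNilpotent_maximalIdeal E).mp inferInstance
  have hkerρ : RingHom.ker ρ = maximalIdeal E := by
    have : (RingHom.ker ρ).IsMaximal := RingHom.ker_isMaximal_of_surjective ρ hρ
    exact IsLocalRing.eq_maximalIdeal this
  have hρ0 : ∀ y, ρ y = 0 ↔ y ∈ maximalIdeal E := fun y => by
    rw [← hkerρ, RingHom.mem_ker]
  -- `𝔪 ≠ 𝔪²`
  have hsq : ¬ maximalIdeal E ≤ maximalIdeal E ^ 2 := by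
    intro h
    have h1 : ∀ n, maximalIdeal E ≤ maximalIdeal E ^ (n + 1) := by
      intro n
      induction n with
      | zero => simp
      | succ n ih =>
        calc maximalIdeal E ≤ maximalIdeal E ^ 2 := h
          _ = maximalIdeal E * maximalIdeal E := pow_two _
          _ ≤ maximalIdeal E * maximalIdeal E ^ (n + 1) := Ideal.mul_mono_right ih
          _ = maximalIdeal E ^ (n + 1 + 1) := by rw [← pow_succ']
    have h2 := h1 N
    rw [pow_succ, hN, Ideal.bot_mul] at h2
    exact hne (le_bot_iff.mp h2)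
  obtain ⟨c, hc, hc2⟩ := SetLike.not_le_iff_exists.mp hsq
  obtain ⟨𝔞, h2𝔞, h𝔞𝔪, hc𝔞, hgen⟩ := exists_hyperplane c hc hc2
  have hnilρ : IsNilpotent (RingHom.ker ρ) := ⟨N, by rw [hkerρ, hN]; rfl⟩
  -- a coefficient field
  let σ : K →ₐ[k₀] E := Algebra.FormallySmooth.liftOfSurjective (AlgHom.id k₀ K) ρ hρ hnilρ
  have hσ : ∀ x, ρ (σ x) = x := fun x =>
    Algebra.FormallySmooth.liftOfSurjective_apply (AlgHom.id k₀ K) ρ hρ hnilρ x
  let σ' : K →ₐ[k₀] E ⧸ 𝔞 := (Ideal.Quotient.mkₐ k₀ 𝔞).comp σ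
  have hσ' : ∀ x, σ' x = Ideal.Quotient.mk 𝔞 (σ x) := fun x => rfl
  let mc : E ⧸ 𝔞 := Ideal.Quotient.mk 𝔞 c
  have hmc2 : mc * mc = 0 := by
    rw [← map_mul, Ideal.Quotient.eq_zero_iff_mem]
    exact h2𝔞 (by rw [pow_two]; exact Ideal.mul_mem_mul hc hc)
  let ev : K[X] →ₐ[k₀] E ⧸ 𝔞 := aevalTower σ' mc
  have hev : ∀ p, ev p = σ' (p.coeff 0) + σ' (p.coeff 1) * mc := by
    intro p
    conv_lhs => rw [← divX_mul_X_add p, ← divX_mul_X_add (divX p)]
    simp only [ev, map_add, map_mul, aevalTower_X, aevalTower_C, coeff_divX]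
    rw [add_mul, mul_assoc, hmc2, mul_zero, zero_add, zero_add, add_comm]
  let res : E ⧸ 𝔞 →+* K := Ideal.Quotient.lift 𝔞 ρ.toRingHom (fun a ha => (hρ0 a).mpr (h𝔞𝔪 ha))
  have hres : ∀ y, res (Ideal.Quotient.mk 𝔞 y) = ρ y := fun y => rfl
  have hker : ∀ p, ev p = 0 → p.coeff 0 = 0 ∧ p.coeff 1 = 0 := by
    intro p hp
    rw [hev] at hp
    have h0 : p.coeff 0 = 0 := by
      have h1 := congrArg res hp
      rw [map_add, map_mul, hσ', hσ', hres, hres, hσ, hσ, map_zero] at h1
      have h2 : res mc = 0 := by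
        rw [hres, hρ0]; exact hc
      rwa [h2, mul_zero, add_zero] at h1
    refine ⟨h0, ?_⟩
    by_contra h1
    rw [h0, map_zero, zero_add, hσ', ← map_mul, Ideal.Quotient.eq_zero_iff_mem] at hp
    have hu : IsUnit (σ (p.coeff 1)) := by
      rw [← IsLocalRing.notMem_maximalIdeal, ← hρ0, hσ]
      exact h1
    exact hc𝔞 ((Ideal.unit_mul_mem_iff_mem _ hu).mp hp)
  -- the truncated polynomial ring
  have hevX : ∀ a ∈ Ideal.span {(X : K[X]) ^ (N + 2)}, ev a = 0 := by
    intro a ha
    rw [Ideal.mem_span_singleton, X_pow_dvd_iff] at ha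
    rw [hev, ha 0 (by omega), ha 1 (by omega), map_zero, zero_mul, add_zero]
  let g : (K[X] ⧸ Ideal.span {(X : K[X]) ^ (N + 2)}) →ₐ[k₀] E ⧸ 𝔞 :=
    Ideal.Quotient.liftₐ _ ev hevX
  have hg : ∀ p, g (Ideal.Quotient.mk _ p) = ev p := fun p => rfl
  have hgsurj : Function.Surjective g := by
    intro d
    obtain ⟨y, rfl⟩ := Ideal.Quotient.mk_surjective d
    have hy0 : y - σ (ρ y) ∈ maximalIdeal E := by
      rw [← hρ0, map_sub, hσ, sub_self]
    obtain ⟨b, hb⟩ := hgen _ hy0
    have hb0 : b - σ (ρ b) ∈ maximalIdeal E := by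
      rw [← hρ0, map_sub, hσ, sub_self]
    refine ⟨Ideal.Quotient.mk _ (C (ρ y) + C (ρ b) * X), ?_⟩
    rw [hg, hev]
    simp only [coeff_add, coeff_C_zero, coeff_C_mul, coeff_X_zero, mul_zero, add_zero,
      coeff_C_succ, coeff_X_one, mul_one, zero_add, hσ']
    rw [← map_mul, ← map_add, eq_comm, ← sub_eq_zero, ← map_sub, Ideal.Quotient.eq_zero_iff_mem]
    have h3 : (b - σ (ρ b)) * c ∈ 𝔞 :=
      h2𝔞 (by rw [pow_two]; exact Ideal.mul_mem_mul hb0 hc)
    have h4 : y - (σ (ρ y) + σ (ρ b) * c) =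
        (y - σ (ρ y) - b * c) + (b - σ (ρ b)) * c := by ring
    rw [h4]
    exact add_mem hb h3
  have hgker : RingHom.ker g ≤ Ideal.span {Ideal.Quotient.mk _ (X ^ 2)} := by
    intro t ht
    obtain ⟨p, rfl⟩ := Ideal.Quotient.mk_surjective t
    rw [RingHom.mem_ker, hg] at ht
    obtain ⟨h0, h1⟩ := hker p ht
    have hdvd : (X : K[X]) ^ 2 ∣ p := by
      rw [X_pow_dvd_iff]
      intro d hd
      interval_cases d
      · exact h0
      · exact h1
    obtain ⟨q, rfl⟩ := hdvd
    rw [map_mul]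
    exact Ideal.mul_mem_right _ _ (Ideal.mem_span_singleton_self _)
  have hxnil : (Ideal.Quotient.mk (Ideal.span {(X : K[X]) ^ (N + 2)}) X) ^
      (N + 2) = 0 := by
    rw [← map_pow, Ideal.Quotient.eq_zero_iff_mem]
    exact Ideal.mem_span_singleton_self _
  have hgnil : IsNilpotent (RingHom.ker g) := by
    refine ⟨N + 2, ?_⟩
    rw [Ideal.zero_eq_bot, eq_bot_iff]
    refine (Ideal.pow_right_mono hgker (N + 2)).trans ?_
    rw [Ideal.span_singleton_pow, map_pow, ← pow_mul, mul_comm, pow_mul, hxnil,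
      zero_pow two_ne_zero]
    simp
  let θ := Algebra.FormallySmooth.liftOfSurjective (Ideal.Quotient.mkₐ k₀ 𝔞) g hgsurj hgnil
  have hθ : ∀ y, g (θ y) = Ideal.Quotient.mk 𝔞 y := fun y =>
    Algebra.FormallySmooth.liftOfSurjective_apply (Ideal.Quotient.mkₐ k₀ 𝔞) g hgsurj hgnil y
  have h1 : θ c - Ideal.Quotient.mk _ X ∈ RingHom.ker g := by
    rw [RingHom.mem_ker, map_sub, hθ, hg]
    simp [ev, mc]
  obtain ⟨t, ht⟩ := Ideal.mem_span_singleton'.mp (hgker h1)
  have hcN : c ^ N = 0 := by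
    have := Ideal.pow_mem_pow hc N
    rwa [hN, Ideal.mem_bot] at this
  have h2 : θ c = Ideal.Quotient.mk _ X * (1 + Ideal.Quotient.mk _ X * t) := by
    rw [map_pow] at ht
    have : θ c = Ideal.Quotient.mk _ X + t * (Ideal.Quotient.mk _ X) ^ 2 := by
      rw [ht]; ring
    rw [this]; ring
  have h3 : (θ c) ^ N = 0 := by rw [← map_pow, hcN, map_zero]
  rw [h2, mul_pow] at h3
  have hunit : IsUnit ((1 + Ideal.Quotient.mk
      (Ideal.span {(X : K[X]) ^ (N + 2)}) X * t) ^ N) := by
    apply IsUnit.pow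
    apply IsNilpotent.isUnit_one_add
    exact ⟨N + 2, by rw [mul_pow, hxnil, zero_mul]⟩
  have h4 := (hunit.mul_left_eq_zero).mp h3
  rw [← map_pow, Ideal.Quotient.eq_zero_iff_mem, Ideal.mem_span_singleton, X_pow_dvd_iff] at h4
  have h5 := h4 N (by omega)
  simp at h5

/-- **An Artinian local ring which is formally smooth over a field is a field.** -/
theorem maximalIdeal_eq_bot_of_formallySmooth (κ : Type u) [Field κ] (E : Type v) [CommRing E]
    [Algebra κ E] [IsLocalRing E] [IsArtinianRing E] [Algebra.FormallySmooth κ E] :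
    maximalIdeal E = ⊥ := by
  obtain ⟨p, hp⟩ := CharP.exists κ
  have hinj : Function.Injective (algebraMap κ (ResidueField E)) := (algebraMap κ _).injective
  rcases CharP.char_is_prime_or_zero κ p with hpp | rfl
  · haveI : Fact p.Prime := ⟨hpp⟩
    haveI : CharP (ResidueField E) p := charP_of_injective_algebraMap hinj p
    letI : Algebra (ZMod p) κ := ZMod.algebra κ p
    letI : Algebra (ZMod p) E := Algebra.compHom E (algebraMap (ZMod p) κ)
    haveI : IsScalarTower (ZMod p) κ E := IsScalarTower.of_algebraMap_eq (fun _ => rfl)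
    letI : Algebra (ZMod p) (ResidueField E) := ZMod.algebra _ p
    haveI := formallySmooth_zmod p κ
    haveI := formallySmooth_zmod p (ResidueField E)
    haveI : Algebra.FormallySmooth (ZMod p) E := Algebra.FormallySmooth.comp (ZMod p) κ E
    let ρ : E →ₐ[ZMod p] ResidueField E :=
      { residue E with
        commutes' := fun r => by
          have : (residue E).comp (algebraMap (ZMod p) E) = algebraMap (ZMod p) (ResidueField E) :=
            Subsingleton.elim _ _
          exact congr($this r) }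
    exact maximalIdeal_eq_bot_of_formallySmooth_aux (ZMod p) E (ResidueField E) ρ residue_surjective
  · haveI : CharZero κ := CharP.charP_to_charZero κ
    haveI : CharZero (ResidueField E) := charZero_of_injective_algebraMap hinj
    letI : Algebra ℚ E := Algebra.compHom E (algebraMap ℚ κ)
    haveI : IsScalarTower ℚ κ E := IsScalarTower.of_algebraMap_eq (fun _ => rfl)
    haveI := formallySmooth_rat κ
    haveI := formallySmooth_rat (ResidueField E)
    haveI : Algebra.FormallySmooth ℚ E := Algebra.FormallySmooth.comp ℚ κ E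
    let ρ : E →ₐ[ℚ] ResidueField E :=
      { residue E with
        commutes' := fun r => by
          have : (residue E).comp (algebraMap ℚ E) = algebraMap ℚ (ResidueField E) :=
            Subsingleton.elim _ _
          exact congr($this r) }
    exact maximalIdeal_eq_bot_of_formallySmooth_aux ℚ E (ResidueField E) ρ residue_surjective

theorem isLocalHom_of_isArtinianRing (A : Type u) (B : Type v) [CommRing A] [CommRing B]
    [IsLocalRing A] [Nontrivial B] [IsArtinianRing A] [Algebra A B] :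
    IsLocalHom (algebraMap A B) := by
  constructor
  intro a ha
  by_contra hnu
  have h1 : a ∈ maximalIdeal A := hnu
  obtain ⟨N, hN⟩ := (isArtinianRing_iff_isNilpotent_maximalIdeal A).mp inferInstance
  have h2 : a ^ N = 0 := by
    have := Ideal.pow_mem_pow h1 N
    rwa [hN] at this
  have h3 : (algebraMap A B a) ^ N = 0 := by rw [← map_pow, h2, map_zero]
  exact (ha.pow N).ne_zero h3

/-- flat + formally smooth between Artinian local rings: the closed fibre is a field. -/
theorem map_maximalIdeal_eq (A : Type u) (B : Type v) [CommRing A] [CommRing B]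
    [IsLocalRing A] [IsLocalRing B] [IsArtinianRing A] [IsArtinianRing B] [Algebra A B]
    [Algebra.FormallySmooth A B] :
    (maximalIdeal A).map (algebraMap A B) = maximalIdeal B := by
  haveI := isLocalHom_of_isArtinianRing A B
  have hne : (maximalIdeal A).map (algebraMap A B) ≠ ⊤ :=
    (IsLocalRing.map_maximalIdeal_lt_top (algebraMap A B)).ne
  let e : (B ⧸ (maximalIdeal A).map (algebraMap A B)) ≃+* (ResidueField A) ⊗[A] B :=
    (Algebra.TensorProduct.quotIdealMapEquivTensorQuot B (maximalIdeal A)).toRingEquiv.trans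
      (Algebra.TensorProduct.comm A B (A ⧸ maximalIdeal A)).toRingEquiv
  haveI : Nontrivial (B ⧸ (maximalIdeal A).map (algebraMap A B)) :=
    Ideal.Quotient.nontrivial_iff.mpr hne
  haveI : IsLocalRing (B ⧸ (maximalIdeal A).map (algebraMap A B)) :=
    IsLocalRing.of_surjective' (Ideal.Quotient.mk _) Ideal.Quotient.mk_surjective
  haveI : IsLocalRing ((ResidueField A) ⊗[A] B) := e.isLocalRing
  haveI : IsArtinianRing ((ResidueField A) ⊗[A] B) :=
    Function.Surjective.isArtinianRing (f := e) e.surjective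
  have h1 := maximalIdeal_eq_bot_of_formallySmooth (ResidueField A) ((ResidueField A) ⊗[A] B)
  have h2 : IsField ((ResidueField A) ⊗[A] B) := IsLocalRing.isField_iff_maximalIdeal_eq.mpr h1
  have h3 : IsField (B ⧸ (maximalIdeal A).map (algebraMap A B)) := e.toMulEquiv.isField h2
  have h4 : ((maximalIdeal A).map (algebraMap A B)).IsMaximal :=
    Ideal.Quotient.maximal_of_isField _ h3
  exact IsLocalRing.eq_maximalIdeal h4

theorem length_eq (A : Type u) (B : Type v) [CommRing A] [CommRing B]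
    [IsLocalRing A] [IsLocalRing B] [IsArtinianRing A] [IsArtinianRing B] [Algebra A B]
    [Module.Flat A B] [Algebra.FormallySmooth A B] :
    Module.length A A = Module.length B B := by
  haveI := isLocalHom_of_isArtinianRing A B
  have h1 := IsLocalRing.length_baseChange A B A
  rw [(TensorProduct.AlgebraTensorModule.rid A B B).length_eq, map_maximalIdeal_eq A B] at h1
  have h2 : Module.length B (B ⧸ maximalIdeal B) = 1 := by
    rw [Module.length_eq_one_iff, isSimpleModule_iff_isCoatom, ← Ideal.isMaximal_def]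
    infer_instance
  rw [h2, mul_one] at h1
  exact h1.symm

end Groth.Agent.Lib.Helper31.ArtinFS
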