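import Mathlib
import Groth.Prelude.Def_CAlgX

/-!
# Formal smoothness for the adic topology via small extensions (EGA 0_IV 22.1.4 / 19.3.x)

For a local homomorphism `R → S` of local rings with `S` noetherian, `S` is formally smooth over
`R` for the `𝔪_S`-adic topology as soon as lifts exist along small extensions of Artinian local
rings (`SmallLift R S`).  Main export: `isAdicFormallySmooth_of_smallLift`.
-/

set_option autoImplicit false
universe u

namespace Groth.Agent.Lib.Helper31.SmallExt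

open IsLocalRing

section ArtinianQuot

variable {P : Type u} [CommRing P] (𝔮 : Ideal P) [𝔮.IsMaximal] (𝔎 Q : Ideal P)

theorem isLocalRing_quot (h𝔎𝔮 : 𝔎 ≤ 𝔮) (n : ℕ) (hn : 𝔮 ^ n ≤ 𝔎) : IsLocalRing (P ⧸ 𝔎) := by
  have hne : 𝔎 ≠ ⊤ := fun h => (Ideal.IsMaximal.ne_top ‹_›) (top_le_iff.mp (h ▸ h𝔎𝔮))
  haveI : Nontrivial (P ⧸ 𝔎) := Ideal.Quotient.nontrivial_iff.mpr hne
  refine IsLocalRing.of_unique_max_ideal ?_
  obtain ⟨M, hM⟩ := Ideal.exists_maximal (P ⧸ 𝔎)
  have key : ∀ M' : Ideal (P ⧸ 𝔎), M'.IsMaximal → M'.comap (Ideal.Quotient.mk 𝔎) = 𝔮 := by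
    intro M' hM'
    have h1 : (M'.comap (Ideal.Quotient.mk 𝔎)).IsMaximal :=
      Ideal.comap_isMaximal_of_surjective _ Ideal.Quotient.mk_surjective
    have h2 : 𝔎 ≤ M'.comap (Ideal.Quotient.mk 𝔎) := by
      intro p hp
      rw [Ideal.mem_comap, Ideal.Quotient.eq_zero_iff_mem.mpr hp]
      exact Ideal.zero_mem _
    have h3 : 𝔮 ≤ M'.comap (Ideal.Quotient.mk 𝔎) :=
      h1.isPrime.le_of_pow_le (hn.trans h2)
    exact (Ideal.IsMaximal.eq_of_le ‹𝔮.IsMaximal› h1.ne_top h3).symm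
  refine ⟨M, hM, fun M' hM' => ?_⟩
  apply Ideal.comap_injective_of_surjective _ (Ideal.Quotient.mk_surjective (I := 𝔎))
  rw [key M hM, key M' hM']

omit [𝔮.IsMaximal] in
theorem map_sq_eq_bot (hQ𝔮 : Q ≤ 𝔮) (hmul : 𝔮 * Q ≤ 𝔎) :
    (Q.map (Ideal.Quotient.mk 𝔎)) ^ 2 = ⊥ := by
  rw [← Ideal.map_pow, Ideal.map_eq_bot_iff_le_ker, Ideal.mk_ker, pow_two]
  exact (Ideal.mul_mono_left hQ𝔮).trans hmul

theorem isSimpleModule_map (hmul : 𝔮 * Q ≤ 𝔎) (x : P) (hxQ : x ∈ Q)
    (hx𝔎 : x ∉ 𝔎) (hgen : ∀ p ∈ Q, ∃ a, p - a * x ∈ 𝔎) :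
    IsSimpleModule (P ⧸ 𝔎) (Q.map (Ideal.Quotient.mk 𝔎)) := by
  rw [isSimpleModule_iff_toSpanSingleton_surjective]
  have hx0 : (⟨Ideal.Quotient.mk 𝔎 x, Ideal.mem_map_of_mem _ hxQ⟩ :
      Q.map (Ideal.Quotient.mk 𝔎)) ≠ 0 := by
    intro h
    apply hx𝔎
    rw [← Ideal.Quotient.eq_zero_iff_mem]
    exact congrArg Subtype.val h
  refine ⟨⟨_, _, hx0⟩, ?_⟩
  -- every element of `J'` is `mk a * mk x`
  have hrep : ∀ y : Q.map (Ideal.Quotient.mk 𝔎), ∃ a : P,
      (y : P ⧸ 𝔎) = Ideal.Quotient.mk 𝔎 a * Ideal.Quotient.mk 𝔎 x := by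
    rintro ⟨y, hy⟩
    obtain ⟨p, hp, rfl⟩ := (Ideal.mem_map_iff_of_surjective _ Ideal.Quotient.mk_surjective).mp hy
    obtain ⟨a, ha⟩ := hgen p hp
    refine ⟨a, ?_⟩
    rw [← map_mul, ← sub_eq_zero, ← map_sub]
    exact Ideal.Quotient.eq_zero_iff_mem.mpr ha
  intro y hy z
  obtain ⟨a, ha⟩ := hrep y
  obtain ⟨b, hb⟩ := hrep z
  have ha𝔮 : a ∉ 𝔮 := by
    intro h
    apply hy
    apply Subtype.ext
    rw [ha, ← map_mul]
    exact Ideal.Quotient.eq_zero_iff_mem.mpr (hmul (Ideal.mul_mem_mul h hxQ))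
  obtain ⟨a', m, hm, ha'⟩ := Ideal.IsMaximal.exists_inv ‹𝔮.IsMaximal› ha𝔮
  -- a' * a + m = 1 with m ∈ 𝔮
  refine ⟨Ideal.Quotient.mk 𝔎 (b * a'), ?_⟩
  apply Subtype.ext
  simp only [LinearMap.toSpanSingleton_apply, Submodule.coe_smul, smul_eq_mul]
  rw [ha, hb, ← map_mul, ← map_mul, ← map_mul, ← sub_eq_zero, ← map_sub]
  apply Ideal.Quotient.eq_zero_iff_mem.mpr
  have h1 : b * a' * (a * x) - b * x = - (b * (m * x)) := by
    have : a' * a = 1 - m := by rw [← ha']; ring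
    calc b * a' * (a * x) - b * x = b * ((a' * a) * x) - b * x := by ring
      _ = - (b * (m * x)) := by rw [this]; ring
  rw [h1]
  exact neg_mem (Ideal.mul_mem_left _ _ (hmul (Ideal.mul_mem_mul hm hxQ)))

omit [𝔮.IsMaximal] in
theorem isArtinianRing_quot (h𝔎Q : 𝔎 ≤ Q) [IsArtinianRing (P ⧸ Q)]
    [IsSimpleModule (P ⧸ 𝔎) (Q.map (Ideal.Quotient.mk 𝔎))] : IsArtinianRing (P ⧸ 𝔎) := by
  have e : ((P ⧸ 𝔎) ⧸ Q.map (Ideal.Quotient.mk 𝔎)) ≃+* P ⧸ Q :=
    DoubleQuot.quotQuotEquivQuotOfLE h𝔎Q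
  haveI : IsArtinianRing ((P ⧸ 𝔎) ⧸ Q.map (Ideal.Quotient.mk 𝔎)) :=
    Function.Surjective.isArtinianRing (f := e.symm) e.symm.surjective
  haveI : IsArtinian (P ⧸ 𝔎) ((P ⧸ 𝔎) ⧸ Q.map (Ideal.Quotient.mk 𝔎)) :=
    isArtinian_of_surjective_algebraMap (S := P ⧸ 𝔎)
      (R := (P ⧸ 𝔎) ⧸ Q.map (Ideal.Quotient.mk 𝔎)) Ideal.Quotient.mk_surjective
  haveI : IsArtinian (P ⧸ 𝔎) (Q.map (Ideal.Quotient.mk 𝔎)) := by
    have h1 : Module.length (P ⧸ 𝔎) (Q.map (Ideal.Quotient.mk 𝔎)) ≠ ⊤ := by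
      rw [Module.length_eq_one]; simp
    exact (isFiniteLength_iff_isNoetherian_isArtinian.mp (Module.length_ne_top_iff.mp h1)).2
  exact isArtinian_of_range_eq_ker (Q.map (Ideal.Quotient.mk 𝔎)).subtype
    (Q.map (Ideal.Quotient.mk 𝔎)).mkQ (by simp)

end ArtinianQuot

theorem isArtinianRing_quot_maximalIdeal_pow (S : Type u) [CommRing S] [IsLocalRing S]
    [IsNoetherianRing S] (k : ℕ) : IsArtinianRing (S ⧸ maximalIdeal S ^ k) := by
  rcases Nat.eq_zero_or_pos k with rfl | hk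
  · haveI : Subsingleton (S ⧸ maximalIdeal S ^ 0) := by
      rw [pow_zero]; exact Ideal.Quotient.subsingleton_iff.mpr Ideal.one_eq_top
    haveI : Finite (S ⧸ maximalIdeal S ^ 0) := Finite.of_subsingleton
    infer_instance
  · have hne : maximalIdeal S ^ k ≠ ⊤ := by
      intro h
      exact (maximalIdeal.isMaximal S).ne_top
        (top_le_iff.mp (h ▸ Ideal.pow_le_self (Nat.pos_iff_ne_zero.mp hk)))
    haveI : Nontrivial (S ⧸ maximalIdeal S ^ k) := Ideal.Quotient.nontrivial_iff.mpr hne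
    haveI : IsLocalRing (S ⧸ maximalIdeal S ^ k) :=
      IsLocalRing.of_surjective' (Ideal.Quotient.mk _) Ideal.Quotient.mk_surjective
    haveI : IsLocalHom (Ideal.Quotient.mk (maximalIdeal S ^ k)) :=
      IsLocalHom.of_surjective _ Ideal.Quotient.mk_surjective
    rw [isArtinianRing_iff_isNilpotent_maximalIdeal]
    refine ⟨k, ?_⟩
    have h1 : maximalIdeal (S ⧸ maximalIdeal S ^ k) =
        (maximalIdeal S).map (Ideal.Quotient.mk (maximalIdeal S ^ k)) := by
      refine le_antisymm ?_ (IsLocalRing.map_maximalIdeal_le _)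
      intro y hy
      obtain ⟨s, rfl⟩ := Ideal.Quotient.mk_surjective y
      apply Ideal.mem_map_of_mem
      rw [mem_maximalIdeal, mem_nonunits_iff] at hy ⊢
      exact fun h => hy (h.map _)
    rw [h1, ← Ideal.map_pow, Ideal.zero_eq_bot, Ideal.map_eq_bot_iff_le_ker, Ideal.mk_ker]

theorem exists_comp_eq_of_ker_le {P U W N : Type*} [Ring P] [AddCommGroup U] [AddCommGroup W]
    [AddCommGroup N] [Module P U] [Module P W] [Module P N] [IsSemisimpleModule P W]
    (g : U →ₗ[P] W) (c : U →ₗ[P] N) (h : LinearMap.ker g ≤ LinearMap.ker c) :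
    ∃ L : W →ₗ[P] N, L ∘ₗ g = c := by
  obtain ⟨L, hL⟩ := IsSemisimpleModule.extension_property ((LinearMap.ker g).liftQ g le_rfl)
    (LinearMap.ker_eq_bot.mp (Submodule.ker_liftQ_eq_bot _ _ _ le_rfl))
    ((LinearMap.ker g).liftQ c h)
  refine ⟨L, LinearMap.ext fun u => ?_⟩
  have := congr($hL (Submodule.Quotient.mk u))
  simpa using this

section Key

variable (R S : Type u) [CommRing R] [CommRing S] [IsLocalRing R] [IsLocalRing S]
  [IsNoetherianRing S] [Algebra R S] [IsLocalHom (algebraMap R S)]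

/-- lifting along small extensions of Artinian local rings -/
def SmallLift : Prop :=
  ∀ (A : Type u) [CommRing A] [IsLocalRing A] [IsArtinianRing A] [Algebra R A]
    [IsLocalHom (algebraMap R A)] (J : Ideal A), J ^ 2 = ⊥ → Module.length A J = 1 →
    ∀ [IsLocalRing (A ⧸ J)] (ψ : S →ₐ[R] A ⧸ J) [IsLocalHom ψ.toRingHom],
      Function.Bijective (ResidueField.map ψ.toRingHom) →
      ∃ χ : S →ₐ[R] A, (Ideal.Quotient.mkₐ R J).comp χ = ψ

/-- the tautological presentation -/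
noncomputable def π : MvPolynomial S R →ₐ[R] S := MvPolynomial.aeval id

omit [IsLocalRing R] [IsLocalRing S] [IsNoetherianRing S] [IsLocalHom (algebraMap R S)] in
theorem π_surjective : Function.Surjective (π R S) := fun s => ⟨MvPolynomial.X s, by simp [π]⟩

/-- the maximal ideal of the polynomial ring -/
noncomputable def qq : Ideal (MvPolynomial S R) := (maximalIdeal S).comap (π R S)

omit [IsLocalRing R] [IsNoetherianRing S] [IsLocalHom (algebraMap R S)] in
instance : (qq R S).IsMaximal := Ideal.comap_isMaximal_of_surjective _ (π_surjective R S)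

/-- preimage of `𝔫 ^ k` -/
noncomputable def qk (k : ℕ) : Ideal (MvPolynomial S R) := (maximalIdeal S ^ k).comap (π R S)

omit [IsLocalRing R] [IsLocalHom (algebraMap R S)] in
theorem isArtinianRing_quot_qk (k : ℕ) : IsArtinianRing (MvPolynomial S R ⧸ qk R S k) := by
  let f : MvPolynomial S R →+* S ⧸ maximalIdeal S ^ k :=
    (Ideal.Quotient.mk (maximalIdeal S ^ k)).comp (π R S).toRingHom
  have hf : Function.Surjective f :=
    Ideal.Quotient.mk_surjective.comp (π_surjective R S)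
  have hker : RingHom.ker f = qk R S k := by
    ext p
    simp only [f, RingHom.mem_ker, RingHom.comp_apply, Ideal.Quotient.eq_zero_iff_mem, qk,
      Ideal.mem_comap]
    rfl
  haveI := isArtinianRing_quot_maximalIdeal_pow S k
  have e1 := RingHom.quotientKerEquivOfSurjective hf
  haveI : IsArtinianRing (MvPolynomial S R ⧸ RingHom.ker f) :=
    Function.Surjective.isArtinianRing (f := e1.symm) e1.symm.surjective
  exact Function.Surjective.isArtinianRing (f := Ideal.quotEquivOfEq hker)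
    (Ideal.quotEquivOfEq hker).surjective

omit [IsLocalRing R] [IsNoetherianRing S] [IsLocalHom (algebraMap R S)] in
theorem qk_le_qq {k : ℕ} (hk : 1 ≤ k) : qk R S k ≤ qq R S :=
  Ideal.comap_mono (Ideal.pow_le_self (by omega))

omit [IsLocalRing R] [IsNoetherianRing S] [IsLocalHom (algebraMap R S)] in
theorem qq_pow_le (k : ℕ) : qq R S ^ k ≤ qk R S k := Ideal.le_comap_pow _ k

variable {R S}

omit [IsLocalRing R] [IsNoetherianRing S] [IsLocalHom (algebraMap R S)] in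
theorem apply_small' (h : SmallLift R S) (E : Type u) [CommRing E] [IsLocalRing E]
    [IsArtinianRing E] [Algebra R E] [IsLocalHom (algebraMap R E)] (J' : Ideal E)
    (sq : J' ^ 2 = ⊥) (len : Module.length E J' = 1) (ρ : MvPolynomial S R →ₐ[R] E)
    (hρ : Function.Surjective ρ) (hρJ : ∀ p, π R S p = 0 → ρ p ∈ J') :
    ∃ χ : S →ₐ[R] E, ∀ p, ρ p - χ (π R S p) ∈ J' := by
  haveI : Nontrivial (E ⧸ J') := by
    rw [Ideal.Quotient.nontrivial_iff]
    intro htop
    rw [htop, Ideal.top_pow] at sq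
    exact top_ne_bot sq
  haveI : IsLocalRing (E ⧸ J') :=
    IsLocalRing.of_surjective' (Ideal.Quotient.mk _) Ideal.Quotient.mk_surjective
  let g : MvPolynomial S R →ₐ[R] E ⧸ J' := (Ideal.Quotient.mkₐ R J').comp ρ
  have H : RingHom.ker (π R S).toRingHom ≤ RingHom.ker g.toRingHom := by
    intro p hp
    change Ideal.Quotient.mk _ (ρ p) = 0
    exact Ideal.Quotient.eq_zero_iff_mem.mpr (hρJ p hp)
  let ψ' : S →ₐ[R] E ⧸ J' := AlgHom.liftOfSurjective (π R S) (π_surjective R S) g H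
  have hψ'surj : Function.Surjective ψ' := by
    apply AlgHom.liftOfSurjective_surjective
    exact Ideal.Quotient.mk_surjective.comp hρ
  haveI : IsLocalHom ψ'.toRingHom := IsLocalHom.of_surjective _ hψ'surj
  have hbij : Function.Bijective (ResidueField.map ψ'.toRingHom) := by
    refine ⟨RingHom.injective _, fun y => ?_⟩
    obtain ⟨z, rfl⟩ := residue_surjective y
    obtain ⟨s, rfl⟩ := hψ'surj z
    exact ⟨residue S s, ResidueField.map_residue _ _⟩
  obtain ⟨χ, hχ⟩ := h E J' sq len ψ' hbij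
  refine ⟨χ, fun p => ?_⟩
  rw [← Ideal.Quotient.eq]
  have h1 := congr($hχ (π R S p))
  simp only [AlgHom.comp_apply, ψ', AlgHom.liftOfSurjective_apply] at h1
  exact h1.symm

omit [IsLocalRing R] [IsNoetherianRing S] [IsLocalHom (algebraMap R S)] in
theorem rho_eq_zero_of_lift (E : Type u) [CommRing E] [Algebra R E] (J' : Ideal E)
    (sq : J' ^ 2 = ⊥) (ρ : MvPolynomial S R →ₐ[R] E)
    (hkill : ∀ a ∈ qq R S, ∀ j ∈ J', ρ a * j = 0)
    (χ : S →ₐ[R] E) (hχ : ∀ p, ρ p - χ (π R S p) ∈ J') (x : MvPolynomial S R)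
    (hx : π R S x = 0)
    (hdx : KaehlerDifferential.D R (MvPolynomial S R) x ∈
      qq R S • (⊤ : Submodule (MvPolynomial S R) (Ω[MvPolynomial S R⁄R]))) :
    ρ x = 0 := by
  letI : Algebra (MvPolynomial S R) E := ρ.toRingHom.toAlgebra
  haveI : IsScalarTower R (MvPolynomial S R) E :=
    IsScalarTower.of_algebraMap_eq (fun r => (ρ.commutes r).symm)
  have e : (Ideal.Quotient.mkₐ R J').comp (χ.comp (π R S)) =
      IsScalarTower.toAlgHom R (MvPolynomial S R) (E ⧸ J') := by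
    refine AlgHom.ext fun p => ?_
    simp only [AlgHom.comp_apply, IsScalarTower.coe_toAlgHom',
      IsScalarTower.algebraMap_apply (MvPolynomial S R) E (E ⧸ J')]
    exact (Ideal.Quotient.eq.mpr (hχ p)).symm
  let d := derivationToSquareZeroOfLift J' sq (χ.comp (π R S)) e
  have hd : ∀ p, (d p : E) = χ (π R S p) - ρ p := fun p =>
    derivationToSquareZeroOfLift_apply J' sq (χ.comp (π R S)) e p
  have hL : ∀ w ∈ qq R S • (⊤ : Submodule (MvPolynomial S R) (Ω[MvPolynomial S R⁄R])),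
      d.liftKaehlerDifferential w = 0 := by
    intro w hw
    refine Submodule.smul_induction_on hw (fun a ha w' _ => ?_) (fun u v hu hv => ?_)
    · rw [map_smul]
      apply Subtype.ext
      exact hkill a ha _ (d.liftKaehlerDifferential w').2
    · rw [map_add, hu, hv, add_zero]
  have h1 := hL _ hdx
  rw [Derivation.liftKaehlerDifferential_comp_D] at h1
  have h2 := hd x
  rw [h1, hx, map_zero, zero_sub] at h2
  exact neg_eq_zero.mp h2.symm

omit [IsLocalRing R] [IsNoetherianRing S] in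
theorem isLocalHom_algebraMap_quot (𝔎 : Ideal (MvPolynomial S R)) (h𝔎𝔮 : 𝔎 ≤ qq R S) :
    IsLocalHom (algebraMap R (MvPolynomial S R ⧸ 𝔎)) := by
  constructor
  intro r hr
  by_contra hnu
  have h1 : algebraMap R S r ∈ maximalIdeal S := by
    rw [mem_maximalIdeal, mem_nonunits_iff]
    exact fun h => hnu (IsLocalHom.map_nonunit _ h)
  have h2 : (MvPolynomial.C r : MvPolynomial S R) ∈ qq R S := by
    simp only [qq, Ideal.mem_comap, π, MvPolynomial.aeval_C]
    exact h1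
  obtain ⟨b, hb⟩ := hr.exists_right_inv
  obtain ⟨b, rfl⟩ := Ideal.Quotient.mk_surjective b
  have h3 : MvPolynomial.C r * b - 1 ∈ 𝔎 := by
    rw [← Ideal.Quotient.eq_zero_iff_mem, map_sub, map_mul, map_one, sub_eq_zero]
    exact hb
  have h4 : (1 : MvPolynomial S R) ∈ qq R S := by
    have := sub_mem (Ideal.mul_mem_right b _ h2) (h𝔎𝔮 h3)
    simpa using this
  exact (Ideal.IsMaximal.ne_top inferInstance) ((Ideal.eq_top_iff_one _).mpr h4)

omit [IsLocalRing R] in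
theorem key (h : SmallLift R S) {k : ℕ} (hk : 1 ≤ k) {M : Type*} [AddCommGroup M]
    [Module (MvPolynomial S R) M] (hM : ∀ a ∈ qq R S, ∀ m : M, a • m = 0)
    (c : qk R S k →ₗ[MvPolynomial S R] M) (x : MvPolynomial S R) (hx : π R S x = 0)
    (hdx : KaehlerDifferential.D R (MvPolynomial S R) x ∈
      qq R S • (⊤ : Submodule (MvPolynomial S R) (Ω[MvPolynomial S R⁄R])))
    (hxk : x ∈ qk R S k) : c ⟨x, hxk⟩ = 0 := by
  by_contra hne
  have htors : Module.IsTorsionBySet (MvPolynomial S R) M (qq R S) := fun m a => hM a a.2 m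
  haveI : IsSemisimpleModule (MvPolynomial S R) M := by
    letI := htors.module
    letI : Field (MvPolynomial S R ⧸ qq R S) := Ideal.Quotient.field _
    exact htors.isSemisimpleModule_iff.mp inferInstance
  obtain ⟨N', hN'⟩ := exists_isCompl (Submodule.span (MvPolynomial S R) {c ⟨x, hxk⟩})
  let 𝔎 : Ideal (MvPolynomial S R) :=
    (LinearMap.ker (N'.mkQ ∘ₗ c)).map (qk R S k).subtype
  have hmem : ∀ p, p ∈ 𝔎 ↔ ∃ hp : p ∈ qk R S k, c ⟨p, hp⟩ ∈ N' := by
    intro p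
    simp only [𝔎, Submodule.mem_map, LinearMap.mem_ker, LinearMap.comp_apply,
      Submodule.mkQ_apply, Submodule.Quotient.mk_eq_zero, Submodule.subtype_apply,
      Subtype.exists, exists_and_right, exists_eq_right]
  have h𝔎Q : 𝔎 ≤ qk R S k := fun p hp => ((hmem p).mp hp).1
  have hmul : qq R S * qk R S k ≤ 𝔎 := by
    rw [Ideal.mul_le]
    intro a ha p hp
    rw [hmem]
    refine ⟨Ideal.mul_mem_left _ _ hp, ?_⟩
    have : (⟨a * p, Ideal.mul_mem_left _ _ hp⟩ : qk R S k) = a • ⟨p, hp⟩ := rfl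
    rw [this, map_smul, hM a ha]
    exact zero_mem _
  have hx𝔎 : x ∉ 𝔎 := by
    intro hx𝔎
    obtain ⟨_, h1⟩ := (hmem x).mp hx𝔎
    have h2 : c ⟨x, hxk⟩ ∈ Submodule.span (MvPolynomial S R) {c ⟨x, hxk⟩} ⊓ N' :=
      ⟨Submodule.mem_span_singleton_self _, h1⟩
    rw [hN'.inf_eq_bot] at h2
    exact hne h2
  have hgen : ∀ p ∈ qk R S k, ∃ a, p - a * x ∈ 𝔎 := by
    intro p hp
    have h1 : c ⟨p, hp⟩ ∈ Submodule.span (MvPolynomial S R) {c ⟨x, hxk⟩} ⊔ N' := by
      rw [hN'.sup_eq_top]; trivial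
    obtain ⟨y, hy, z, hz, hyz⟩ := Submodule.mem_sup.mp h1
    obtain ⟨a, rfl⟩ := Submodule.mem_span_singleton.mp hy
    refine ⟨a, ?_⟩
    rw [hmem]
    refine ⟨sub_mem hp (Ideal.mul_mem_left _ _ hxk), ?_⟩
    have : (⟨p - a * x, sub_mem hp (Ideal.mul_mem_left _ _ hxk)⟩ : qk R S k) =
        ⟨p, hp⟩ - a • ⟨x, hxk⟩ := rfl
    rw [this, map_sub, map_smul, ← hyz, add_sub_cancel_left]
    exact hz
  have hQ𝔮 := qk_le_qq R S hk
  have h𝔎𝔮 := h𝔎Q.trans hQ𝔮
  have hn : qq R S ^ (k + 1) ≤ 𝔎 := by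
    rw [pow_succ']
    exact (Ideal.mul_mono_right (qq_pow_le R S k)).trans hmul
  haveI := isLocalRing_quot (qq R S) 𝔎 h𝔎𝔮 (k + 1) hn
  haveI := isSimpleModule_map (qq R S) 𝔎 (qk R S k) hmul x hxk hx𝔎 hgen
  haveI := isArtinianRing_quot_qk R S k
  haveI := isArtinianRing_quot 𝔎 (qk R S k) h𝔎Q
  have sq := map_sq_eq_bot (qq R S) 𝔎 (qk R S k) hQ𝔮 hmul
  have len : Module.length (MvPolynomial S R ⧸ 𝔎) ((qk R S k).map (Ideal.Quotient.mk 𝔎)) = 1 :=
    Module.length_eq_one _ _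
  haveI := isLocalHom_algebraMap_quot 𝔎 h𝔎𝔮
  obtain ⟨χ, hχ⟩ := apply_small' h (MvPolynomial S R ⧸ 𝔎) _ sq len (Ideal.Quotient.mkₐ R 𝔎)
    Ideal.Quotient.mk_surjective (fun p hp => Ideal.mem_map_of_mem _ (by
      simp only [qk, Ideal.mem_comap, hp, Ideal.zero_mem]))
  have h0 := rho_eq_zero_of_lift (MvPolynomial S R ⧸ 𝔎) _ sq (Ideal.Quotient.mkₐ R 𝔎) (by
    intro a ha j hj
    obtain ⟨p, hp, rfl⟩ := (Ideal.mem_map_iff_of_surjective _ Ideal.Quotient.mk_surjective).mp hj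
    change Ideal.Quotient.mk 𝔎 a * Ideal.Quotient.mk 𝔎 p = 0
    rw [← map_mul]
    exact Ideal.Quotient.eq_zero_iff_mem.mpr (hmul (Ideal.mul_mem_mul ha hp))) χ hχ x hx hdx
  exact hx𝔎 (Ideal.Quotient.eq_zero_iff_mem.mp h0)

theorem lift_of_smallLift_of_mul_eq_zero (h : SmallLift R S) (A : Type u) [CommRing A]
    [Algebra R A] (J : Ideal A) (hJ : J ^ 2 = ⊥) (ψ : S →ₐ[R] A ⧸ J) (k : ℕ)
    (hk : ∀ x ∈ maximalIdeal S ^ k, ψ x = 0)
    (hIJ : ∀ a : A, Ideal.Quotient.mk J a ∈ (maximalIdeal S).map ψ → ∀ j ∈ J, a * j = 0) :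
    ∃ χ : S →ₐ[R] A, (Ideal.Quotient.mkₐ R J).comp χ = ψ := by
  have hk' : ∀ x ∈ maximalIdeal S ^ (k + 1), ψ x = 0 := fun x hx =>
    hk x (Ideal.pow_le_pow_right (Nat.le_succ k) hx)
  -- a lift of the presentation
  let f : S → A := fun s => (Ideal.Quotient.mk_surjective (ψ s)).choose
  have hf : ∀ s, Ideal.Quotient.mk J (f s) = ψ s := fun s =>
    (Ideal.Quotient.mk_surjective (ψ s)).choose_spec
  let φ : MvPolynomial S R →ₐ[R] A := MvPolynomial.aeval f
  have hφ' : (Ideal.Quotient.mkₐ R J).comp φ = ψ.comp (π R S) := by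
    apply MvPolynomial.algHom_ext
    intro s
    simp [φ, π, hf]
  have hφ : ∀ p, Ideal.Quotient.mk J (φ p) = ψ (π R S p) := fun p => congr($hφ' p)
  letI : Algebra (MvPolynomial S R) A := φ.toRingHom.toAlgebra
  haveI : IsScalarTower R (MvPolynomial S R) A :=
    IsScalarTower.of_algebraMap_eq (fun r => (φ.commutes r).symm)
  have halg : ∀ p, algebraMap (MvPolynomial S R) A p = φ p := fun p => rfl
  have hM : ∀ a ∈ qq R S, ∀ m : J, a • m = 0 := by
    intro a ha m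
    apply Subtype.ext
    rw [Submodule.coe_smul_of_tower, Algebra.smul_def, halg]
    refine hIJ (φ a) ?_ m m.2
    rw [hφ]
    exact Ideal.mem_map_of_mem _ ha
  have hmemJ : ∀ p ∈ qk R S (k + 1), φ p ∈ J := by
    intro p hp
    rw [← Ideal.Quotient.eq_zero_iff_mem, hφ]
    exact hk' _ hp
  let c : qk R S (k + 1) →ₗ[MvPolynomial S R] J :=
    { toFun := fun p => ⟨φ p.1, hmemJ p.1 p.2⟩
      map_add' := fun p p' => Subtype.ext (map_add φ _ _)
      map_smul' := fun a p => by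
        apply Subtype.ext
        simp only [RingHom.id_apply, Submodule.coe_smul_of_tower, Algebra.smul_def, halg]
        exact map_mul φ _ _ }
  have hkerqk : ∀ x, π R S x = 0 → x ∈ qk R S (k + 1) := fun x hx => by
    simp only [qk, Ideal.mem_comap, hx, Ideal.zero_mem]
  have star : ∀ x, π R S x = 0 → KaehlerDifferential.D R (MvPolynomial S R) x ∈
      qq R S • (⊤ : Submodule (MvPolynomial S R) (Ω[MvPolynomial S R⁄R])) → φ x = 0 :=
    fun x hx hdx => congrArg Subtype.val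
      (key h (Nat.le_add_left 1 k) hM c x hx hdx (hkerqk x hx))
  -- the linear algebra
  have hker_le : RingHom.ker (π R S) ≤ qq R S := fun x hx => by
    have hx' : π R S x = 0 := hx
    simp only [qq, Ideal.mem_comap, hx', Ideal.zero_mem]
  let T : Submodule (MvPolynomial S R) (Ω[MvPolynomial S R⁄R]) := qq R S • ⊤
  let δW : RingHom.ker (π R S) →ₗ[MvPolynomial S R] (Ω[MvPolynomial S R⁄R]) ⧸ T :=
    { toFun := fun x => T.mkQ (KaehlerDifferential.D R (MvPolynomial S R) x.1)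
      map_add' := fun x y => by simp
      map_smul' := fun a x => by
        simp only [RingHom.id_apply, Submodule.coe_smul_of_tower, smul_eq_mul,
          Derivation.leibniz, map_add, map_smul]
        have : T.mkQ (x.1 • KaehlerDifferential.D R (MvPolynomial S R) a) = 0 := by
          rw [Submodule.mkQ_apply, Submodule.Quotient.mk_eq_zero]
          exact Submodule.smul_mem_smul (hker_le x.2) trivial
        rw [map_smul] at this
        rw [this, add_zero] }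
  let c' : RingHom.ker (π R S) →ₗ[MvPolynomial S R] J :=
    { toFun := fun x => ⟨φ x.1, hmemJ x.1 (hkerqk x.1 x.2)⟩
      map_add' := fun p p' => Subtype.ext (map_add φ _ _)
      map_smul' := fun a p => by
        apply Subtype.ext
        simp only [RingHom.id_apply, Submodule.coe_smul_of_tower, Algebra.smul_def, halg]
        exact map_mul φ _ _ }
  have hkk : LinearMap.ker δW ≤ LinearMap.ker c' := by
    intro x hx
    rw [LinearMap.mem_ker] at hx ⊢
    apply Subtype.ext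
    refine star x.1 x.2 ?_
    have : T.mkQ (KaehlerDifferential.D R (MvPolynomial S R) x.1) = 0 := hx
    rwa [Submodule.mkQ_apply, Submodule.Quotient.mk_eq_zero] at this
  have htors : Module.IsTorsionBySet (MvPolynomial S R) ((Ω[MvPolynomial S R⁄R]) ⧸ T)
      (qq R S) := by
    intro w a
    obtain ⟨ω, rfl⟩ := Submodule.Quotient.mk_surjective _ w
    rw [← Submodule.Quotient.mk_smul, Submodule.Quotient.mk_eq_zero]
    exact Submodule.smul_mem_smul a.2 trivial
  haveI : IsSemisimpleModule (MvPolynomial S R) ((Ω[MvPolynomial S R⁄R]) ⧸ T) := by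
    letI := htors.module
    letI : Field (MvPolynomial S R ⧸ qq R S) := Ideal.Quotient.field _
    exact htors.isSemisimpleModule_iff.mp inferInstance
  obtain ⟨L, hL⟩ := exists_comp_eq_of_ker_le δW c' hkk
  let d : Derivation R (MvPolynomial S R) J :=
    (L ∘ₗ T.mkQ).compDer (KaehlerDifferential.D R (MvPolynomial S R))
  have hd : ∀ x (hx : π R S x = 0), (d x : A) = φ x := by
    intro x hx
    have h1 := congr($hL ⟨x, hx⟩)
    exact congrArg Subtype.val h1
  let χ₀ : MvPolynomial S R →ₐ[R] A := liftOfDerivationToSquareZero J hJ (-d)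
  have hχ₀ : ∀ p, χ₀ p = -(d p : A) + φ p := fun p => by
    simp only [χ₀, liftOfDerivationToSquareZero_apply, Derivation.neg_apply,
      NegMemClass.coe_neg, halg]
  have H : RingHom.ker (π R S).toRingHom ≤ RingHom.ker χ₀.toRingHom := by
    intro x hx
    change χ₀ x = 0
    rw [hχ₀, hd x hx, neg_add_cancel]
  refine ⟨AlgHom.liftOfSurjective (π R S) (π_surjective R S) χ₀ H, ?_⟩
  refine AlgHom.ext fun s => ?_
  obtain ⟨p, rfl⟩ := π_surjective R S s
  rw [AlgHom.comp_apply, AlgHom.liftOfSurjective_apply, hχ₀]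
  change Ideal.Quotient.mk J _ = _
  rw [map_add, map_neg, Ideal.Quotient.eq_zero_iff_mem.mpr (d p).2, neg_zero, zero_add, hφ]

end Key

section Filtration

variable {R S : Type u} [CommRing R] [CommRing S] [Algebra R S] (𝔫 : Ideal S)

/-- the lifting property in the "vector space" case, quotient form -/
def P1 : Prop :=
  ∀ (A : Type u) [CommRing A] [Algebra R A] (J : Ideal A), J ^ 2 = ⊥ →
    ∀ (ψ : S →ₐ[R] A ⧸ J) (k : ℕ), (∀ x ∈ 𝔫 ^ k, ψ x = 0) →
    (∀ a : A, Ideal.Quotient.mk J a ∈ 𝔫.map ψ → ∀ j ∈ J, a * j = 0) →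
    ∃ χ : S →ₐ[R] A, (Ideal.Quotient.mkₐ R J).comp χ = ψ

variable {𝔫}

theorem P1.surj (h : P1 (R := R) 𝔫) {A B : Type u} [CommRing A] [CommRing B] [Algebra R A]
    [Algebra R B] (ρ : A →ₐ[R] B) (hρ : Function.Surjective ρ)
    (hsq : ∀ j ∈ RingHom.ker ρ, ∀ j' ∈ RingHom.ker ρ, j * j' = 0)
    (ψ : S →ₐ[R] B) (k : ℕ) (hk : ∀ x ∈ 𝔫 ^ k, ψ x = 0)
    (hIJ : ∀ a : A, ρ a ∈ 𝔫.map ψ → ∀ j ∈ RingHom.ker ρ, a * j = 0) :
    ∃ χ : S →ₐ[R] A, ρ.comp χ = ψ := by
  have hJ : (RingHom.ker ρ) ^ 2 = ⊥ := by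
    rw [eq_bot_iff, pow_two, Ideal.mul_le]
    intro j hj j' hj'
    rw [hsq j hj j' hj']
    exact Ideal.zero_mem _
  let e := Ideal.quotientKerAlgEquivOfSurjective hρ
  have he : ∀ a, e (Ideal.Quotient.mk _ a) = ρ a := fun a => by simp [e]
  obtain ⟨χ, hχ⟩ := h A (RingHom.ker ρ) hJ (e.symm.toAlgHom.comp ψ) k
    (fun x hx => by simp [hk x hx]) (by
      intro a ha j hj
      refine hIJ a ?_ j hj
      have h1 : 𝔫.map (e.symm.toAlgHom.comp ψ) ≤ (𝔫.map ψ).comap e := by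
        rw [Ideal.map_le_iff_le_comap]
        intro s hs
        rw [Ideal.mem_comap, Ideal.mem_comap]
        have : e ((e.symm.toAlgHom.comp ψ) s) = ψ s := e.apply_symm_apply (ψ s)
        rw [this]
        exact Ideal.mem_map_of_mem ψ hs
      have h2 := h1 ha
      rwa [Ideal.mem_comap, he] at h2)
  refine ⟨χ, AlgHom.ext fun s => ?_⟩
  have h2 := congr(e ($hχ s))
  simpa [he] using h2

theorem P1.lift (h : P1 (R := R) 𝔫) (m : ℕ) : ∀ {A B : Type u} [CommRing A] [CommRing B]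
    [Algebra R A] [Algebra R B] (ρ : A →ₐ[R] B) (_ : Function.Surjective ρ)
    (_ : ∀ j ∈ RingHom.ker ρ, ∀ j' ∈ RingHom.ker ρ, j * j' = 0)
    (ψ : S →ₐ[R] B) (k : ℕ) (_ : ∀ x ∈ 𝔫 ^ k, ψ x = 0)
    (_ : ((𝔫.map ψ).comap ρ) ^ m * RingHom.ker ρ = ⊥),
    ∃ χ : S →ₐ[R] A, ρ.comp χ = ψ := by
  induction m with
  | zero =>
    intro A B _ _ _ _ ρ hρ hsq ψ k hk hm
    rw [pow_zero, one_mul] at hm
    have hinj : Function.Injective ρ := (RingHom.injective_iff_ker_eq_bot _).mpr hm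
    let e := AlgEquiv.ofBijective ρ ⟨hinj, hρ⟩
    refine ⟨e.symm.toAlgHom.comp ψ, AlgHom.ext fun s => ?_⟩
    exact e.apply_symm_apply (ψ s)
  | succ m ih =>
    intro A B _ _ _ _ ρ hρ hsq ψ k hk hm
    have hIK : (𝔫.map ψ).comap ρ * RingHom.ker ρ ≤ RingHom.ker ρ := Ideal.mul_le_right
    have hIK' : (𝔫.map ψ).comap ρ * RingHom.ker ρ ≤ (𝔫.map ψ).comap ρ := Ideal.mul_le_left
    let ρ₁ : (A ⧸ ((𝔫.map ψ).comap ρ * RingHom.ker ρ)) →ₐ[R] B :=
      Ideal.Quotient.liftₐ _ ρ (fun a ha => hIK ha)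
    have hρ₁ : ∀ a, ρ₁ (Ideal.Quotient.mk _ a) = ρ a := fun a => rfl
    have hρ₁surj : Function.Surjective ρ₁ := fun b => by
      obtain ⟨a, rfl⟩ := hρ b
      exact ⟨Ideal.Quotient.mk _ a, hρ₁ a⟩
    have hmk0 : ∀ a ∈ (𝔫.map ψ).comap ρ, ∀ b ∈ RingHom.ker ρ,
        Ideal.Quotient.mk ((𝔫.map ψ).comap ρ * RingHom.ker ρ) a * Ideal.Quotient.mk _ b = 0 := by
      intro a ha b hb
      rw [← map_mul]
      exact Ideal.Quotient.eq_zero_iff_mem.mpr (Ideal.mul_mem_mul ha hb)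
    obtain ⟨χ₁, hχ₁⟩ := h.surj ρ₁ hρ₁surj (by
      intro y hy y' hy'
      obtain ⟨a, rfl⟩ := Ideal.Quotient.mk_surjective y
      obtain ⟨a', rfl⟩ := Ideal.Quotient.mk_surjective y'
      rw [RingHom.mem_ker, hρ₁] at hy hy'
      rw [← map_mul, hsq a hy a' hy', map_zero]) ψ k hk (by
      intro y hy j hj
      obtain ⟨a, rfl⟩ := Ideal.Quotient.mk_surjective y
      obtain ⟨b, rfl⟩ := Ideal.Quotient.mk_surjective j
      rw [RingHom.mem_ker, hρ₁] at hj
      rw [hρ₁] at hy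
      exact hmk0 a hy b hj)
    have hχ₁' : ∀ s, ρ₁ (χ₁ s) = ψ s := fun s => congr($hχ₁ s)
    have hkermk : ∀ j, j ∈ RingHom.ker (Ideal.Quotient.mkₐ R
        ((𝔫.map ψ).comap ρ * RingHom.ker ρ)) ↔ j ∈ (𝔫.map ψ).comap ρ * RingHom.ker ρ := by
      intro j
      rw [RingHom.mem_ker, Ideal.Quotient.mkₐ_eq_mk, Ideal.Quotient.eq_zero_iff_mem]
    have hle1 : 𝔫.map χ₁ ≤ (𝔫.map ψ).comap ρ₁ := by
      rw [Ideal.map_le_iff_le_comap]
      intro s hs
      rw [Ideal.mem_comap, Ideal.mem_comap, hχ₁']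
      exact Ideal.mem_map_of_mem ψ hs
    have hle2 : (𝔫.map ψ).comap ρ₁ ≤
        ((𝔫.map ψ).comap ρ).map (Ideal.Quotient.mk ((𝔫.map ψ).comap ρ * RingHom.ker ρ)) := by
      intro y hy
      obtain ⟨a, rfl⟩ := Ideal.Quotient.mk_surjective y
      exact Ideal.mem_map_of_mem _ hy
    have hIk : ((𝔫.map ψ).comap ρ) ^ k ≤ RingHom.ker ρ := by
      refine (Ideal.le_comap_pow ρ k).trans ?_
      rw [← Ideal.map_pow]
      intro a ha
      rw [Ideal.mem_comap] at ha
      have h0 : (𝔫 ^ k).map ψ = ⊥ := by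
        rw [eq_bot_iff, Ideal.map_le_iff_le_comap]
        intro x hx
        rw [Ideal.mem_comap, hk x hx]
        exact Ideal.zero_mem _
      rw [h0] at ha
      exact ha
    obtain ⟨χ, hχ⟩ := ih (Ideal.Quotient.mkₐ R ((𝔫.map ψ).comap ρ * RingHom.ker ρ))
      (Ideal.Quotient.mkₐ_surjective R _) (by
        intro j hj j' hj'
        rw [hkermk] at hj hj'
        exact hsq j (hIK hj) j' (hIK hj')) χ₁ (k + 1) (by
        intro x hx
        have h1 : χ₁ x ∈ (𝔫 ^ (k + 1)).map χ₁ := Ideal.mem_map_of_mem _ hx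
        rw [Ideal.map_pow] at h1
        have h2 := Ideal.pow_right_mono (hle1.trans hle2) (k + 1) h1
        rw [← Ideal.map_pow, pow_succ'] at h2
        have h3 := Ideal.map_mono (f := Ideal.Quotient.mk ((𝔫.map ψ).comap ρ * RingHom.ker ρ))
          (Ideal.mul_mono_right (I := (𝔫.map ψ).comap ρ) hIk) h2
        rw [Ideal.map_quotient_self] at h3
        exact h3) (by
        rw [eq_bot_iff, ← hm]
        have hI₂ : (𝔫.map χ₁).comap (Ideal.Quotient.mkₐ R
            ((𝔫.map ψ).comap ρ * RingHom.ker ρ)) ≤ (𝔫.map ψ).comap ρ := by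
          intro a ha
          rw [Ideal.mem_comap] at ha
          have := hle1 ha
          rwa [Ideal.mem_comap, Ideal.Quotient.mkₐ_eq_mk, hρ₁] at this
        have hker : RingHom.ker (Ideal.Quotient.mkₐ R
            ((𝔫.map ψ).comap ρ * RingHom.ker ρ)) = (𝔫.map ψ).comap ρ * RingHom.ker ρ :=
          Ideal.ext hkermk
        rw [hker, pow_succ, mul_assoc]
        exact Ideal.mul_mono_left (Ideal.pow_right_mono hI₂ m))
    refine ⟨χ, AlgHom.ext fun s => ?_⟩
    have h1 : Ideal.Quotient.mk _ (χ s) = χ₁ s := congr($hχ s)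
    rw [AlgHom.comp_apply, ← hρ₁, h1, hχ₁']

theorem P1.isAdicFormallySmooth (h : P1 (R := R) 𝔫) : CAlgX.IsAdicFormallySmooth R S 𝔫 := by
  intro A _ _ J hJ ψ hψ
  obtain ⟨k, hk⟩ := hψ
  have hker : RingHom.ker (Ideal.Quotient.mkₐ R J) = J := by
    ext j
    rw [RingHom.mem_ker, Ideal.Quotient.mkₐ_eq_mk, Ideal.Quotient.eq_zero_iff_mem]
  have hJ' : J * J = ⊥ := by rw [← pow_two, hJ]
  refine h.lift k (Ideal.Quotient.mkₐ R J) (Ideal.Quotient.mkₐ_surjective R J) ?_ ψ k hk ?_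
  · intro j hj j' hj'
    rw [hker] at hj hj'
    have : j * j' ∈ J * J := Ideal.mul_mem_mul hj hj'
    rwa [hJ', Ideal.mem_bot] at this
  · rw [eq_bot_iff, ← hJ']
    refine Ideal.mul_mono ?_ hker.le
    refine (Ideal.le_comap_pow _ k).trans ?_
    rw [← Ideal.map_pow]
    intro a ha
    rw [← hker]
    rw [Ideal.mem_comap] at ha
    have h0 : (𝔫 ^ k).map ψ = ⊥ := by
      rw [eq_bot_iff, Ideal.map_le_iff_le_comap]
      intro x hx
      rw [Ideal.mem_comap, hk x hx]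
      exact Ideal.zero_mem _
    rw [h0] at ha
    exact ha

end Filtration

/-- **EGA 0_IV 22.1.4-type criterion.** Lifting along small extensions of Artinian local rings
implies formal smoothness for the adic topology. -/
theorem isAdicFormallySmooth_of_smallLift {R S : Type u} [CommRing R] [CommRing S] [IsLocalRing R]
    [IsLocalRing S] [IsNoetherianRing S] [Algebra R S] [IsLocalHom (algebraMap R S)]
    (h : SmallLift R S) : CAlgX.IsAdicFormallySmooth R S (maximalIdeal S) :=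
  P1.isAdicFormallySmooth (fun A _ _ J hJ ψ k hk hIJ =>
    lift_of_smallLift_of_mul_eq_zero h A J hJ ψ k hk hIJ)

end Groth.Agent.Lib.Helper31.SmallExt
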