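import Groth.Agent.Lib.Helper31.FSLocal3

set_option autoImplicit false
universe u

namespace Groth.Agent.Lib.Helper31.FSLocal

open AlgebraicGeometry CategoryTheory Limits

theorem isFormallySmoothHom_of_locFS {X Y : Scheme.{u}} (f : X ⟶ Y) (hloc : LocFS f) :
    MoreMor.IsFormallySmoothHom f := by
  intro A _ I hI a b hab
  let s := pullback.lift a (Spec.map (CommRingCat.ofHom (Ideal.Quotient.mk I))) hab.symm
  have hs2 : s ≫ pullback.snd f b = Spec.map (CommRingCat.ofHom (Ideal.Quotient.mk I)) :=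
    pullback.lift_snd _ _ _
  haveI : FormallyUnramified s := by
    haveI : FormallyUnramified (s ≫ pullback.snd f b) := by
      rw [hs2, HasRingHomProperty.Spec_iff (P := @FormallyUnramified)]
      exact RingHom.FormallyUnramified.of_surjective Ideal.Quotient.mk_surjective
    exact FormallyUnramified.of_comp s (pullback.snd f b)
  obtain ⟨Z', i, h', huniv⟩ := Groth.Agent.Lib.Helper61.UnivThick.exists_isUnivThickening s
  haveI : IsClosedImmersion i := huniv.1.1.1
  have hsurj : Function.Surjective i := huniv.1.1.2.surj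
  haveI : IsAffine Z' := Groth.Agent.Lib.Helper20.ThickAffine.isAffine_of_ker_pow_eq_bot i hsurj 2
    (by rw [sq]; exact huniv.1.2)
  let e : Z' ≅ Spec (CommRingCat.of Γ(Z', ⊤)) := Z'.isoSpec
  have huniv' := isUnivThickening_of_iso huniv e
  let π₀ : CommRingCat.of Γ(Z', ⊤) ⟶ CommRingCat.of (A ⧸ I) := Spec.preimage (i ≫ e.hom)
  let ι₀ : CommRingCat.of A ⟶ CommRingCat.of Γ(Z', ⊤) :=
    Spec.preimage ((e.inv ≫ h') ≫ pullback.snd f b)
  have hπ₀ : Spec.map π₀ = i ≫ e.hom := Spec.map_preimage _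
  have hι₀ : Spec.map ι₀ = (e.inv ≫ h') ≫ pullback.snd f b := Spec.map_preimage _
  letI : Algebra A Γ(Z', ⊤) := ι₀.hom.toAlgebra
  have hcomp : ι₀ ≫ π₀ = CommRingCat.ofHom (Ideal.Quotient.mk I) := by
    apply Spec.map_injective
    rw [Spec.map_comp, hπ₀, hι₀, ← hs2, ← huniv.2.1]
    simp only [Category.assoc, Iso.hom_inv_id_assoc]
  let π : Γ(Z', ⊤) →ₐ[A] A ⧸ I := ⟨π₀.hom, fun x => congrArg (fun k => k.hom x) hcomp⟩
  have hπ : CommRingCat.ofHom (π : Γ(Z', ⊤) →+* A ⧸ I) = π₀ := rfl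
  have hι : CommRingCat.ofHom (algebraMap A Γ(Z', ⊤)) = ι₀ := rfl
  refine exists_lift_of_univ f a b hab π (e.inv ≫ h') ?_ ?_ hI hloc
  · rw [hι, hι₀]
  · rw [hπ, hπ₀]; exact huniv'

end Groth.Agent.Lib.Helper31.FSLocal
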