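import Mathlib

/-!
# Fibrewise flatness criterion, part A (helper31): transfer of flatness at a prime along a pushout
-/

set_option autoImplicit false

open TensorProduct

namespace Groth.Agent.Lib.Helper31.FibCrit

/-- If `L` is a localization of `B` at a submonoid avoiding `q` and `L` is flat over `A`, then
`B_q` is flat over `A`. -/
theorem flat_atPrime_of_isLocalization {A B L : Type*} [CommRing A] [CommRing B] [CommRing L]
    [Algebra A B] [Algebra B L] [Algebra A L] [IsScalarTower A B L]
    (M : Submonoid B) [IsLocalization M L] (q : Ideal B) [q.IsPrime] (hM : M ≤ q.primeCompl)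
    [Module.Flat A L] : Module.Flat A (Localization.AtPrime q) := by
  letI : Algebra L (Localization.AtPrime q) :=
    IsLocalization.localizationAlgebraOfSubmonoidLe L (Localization.AtPrime q) M q.primeCompl hM
  haveI : IsScalarTower B L (Localization.AtPrime q) :=
    IsLocalization.localization_isScalarTower_of_submonoid_le L _ M q.primeCompl hM
  haveI : IsLocalization (q.primeCompl.map (algebraMap B L)) (Localization.AtPrime q) :=
    IsLocalization.isLocalization_of_submonoid_le L _ M q.primeCompl hM
  haveI : Module.Flat L (Localization.AtPrime q) :=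
    IsLocalization.flat _ (q.primeCompl.map (algebraMap B L))
  haveI : IsScalarTower A L (Localization.AtPrime q) := IsScalarTower.of_algebraMap_eq (fun a => by
    rw [IsScalarTower.algebraMap_apply A B L, ← IsScalarTower.algebraMap_apply B L,
      ← IsScalarTower.algebraMap_apply A B])
  exact Module.Flat.trans A L _

/-- Transfer of flatness at a prime along a pushout square `B = A ⊗[A'] B'`. -/
theorem flat_atPrime_of_isPushout (A' A B' B : Type*) [CommRing A'] [CommRing A] [CommRing B']
    [CommRing B] [Algebra A' A] [Algebra A' B'] [Algebra A B] [Algebra B' B] [Algebra A' B]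
    [IsScalarTower A' A B] [IsScalarTower A' B' B] [Algebra.IsPushout A' A B' B]
    (q : Ideal B) [q.IsPrime] (q' : Ideal B') [q'.IsPrime] (hq : q' = q.comap (algebraMap B' B))
    [Module.Flat A' (Localization.AtPrime q')] : Module.Flat A (Localization.AtPrime q) := by
  let L := B ⊗[B'] (Localization.AtPrime q')
  haveI : IsLocalization (Algebra.algebraMapSubmonoid B q'.primeCompl) L :=
    IsLocalization.tensor (Localization.AtPrime q') q'.primeCompl
  have hM : Algebra.algebraMapSubmonoid B q'.primeCompl ≤ q.primeCompl := by
    rintro _ ⟨x, hx, rfl⟩
    subst hq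
    exact hx
  haveI : Module.Flat A (A ⊗[A'] (Localization.AtPrime q')) := inferInstance
  haveI : Module.Flat A L :=
    Module.Flat.of_linearEquiv (R := A) (M := A ⊗[A'] (Localization.AtPrime q'))
      (Algebra.IsPushout.cancelBaseChange A' A B' B (Localization.AtPrime q'))
  exact flat_atPrime_of_isLocalization (L := L) (Algebra.algebraMapSubmonoid B q'.primeCompl) q hM

end Groth.Agent.Lib.Helper31.FibCrit
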