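import Mathlib
import Groth.Agent.S1392
import Groth.Agent.S4656
import Groth.Agent.Lib.Helper78.AlgSpLocP2
import Groth.Prelude.Def_AlgSpMor5

/-!
# Flatness at a point for morphisms of algebraic spaces: chart independence (helper31)

* scheme level: `FlatAt h u` (the stalk map at `u` is flat) is etale local on source and target in
  the pointwise sense (`flatAt_precomp`, `flatAt_postcomp`, `flatAt_cancel`, `flatAt_descend`).
* `flatAt_transfer`: chart independence.
* `isFlatAtMor_iff_of_chart`.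
-/

set_option autoImplicit false
universe u

namespace Groth.Agent.Lib.Helper31.AlgSpFlatAt

open CategoryTheory CategoryTheory.Limits AlgebraicGeometry AlgSp
open Groth.Agent.Lib.Helper52 Groth.Agent.Lib.Helper51

/-- `h` is flat at the point `u`. -/
abbrev FlatAt {U V : Scheme.{u}} (h : U ⟶ V) (u : U) : Prop := (h.stalkMap u).hom.Flat

section Scheme

variable {A B C : Scheme.{u}}

theorem flatAt_comp (e : A ⟶ B) (h : B ⟶ C) (a : A) (he : FlatAt e a) (hh : FlatAt h (e a)) :
    FlatAt (e ≫ h) a := by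
  have h1 : ((e ≫ h).stalkMap a).hom = (e.stalkMap a).hom.comp (h.stalkMap (e a)).hom :=
    congr(($(Scheme.Hom.stalkMap_comp e h a)).hom)
  show ((e ≫ h).stalkMap a).hom.Flat
  rw [h1]
  exact RingHom.Flat.comp hh he

theorem flatAt_of_flat (e : A ⟶ B) [Flat e] (a : A) : FlatAt e a := Flat.stalkMap e a

theorem flatAt_precomp (e : A ⟶ B) (h : B ⟶ C) [Flat e] (a : A) (hh : FlatAt h (e a)) :
    FlatAt (e ≫ h) a := flatAt_comp e h a (flatAt_of_flat e a) hh

theorem flatAt_postcomp (h : A ⟶ B) (e : B ⟶ C) [Flat e] (a : A) (hh : FlatAt h a) :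
    FlatAt (h ≫ e) a := flatAt_comp h e a hh (flatAt_of_flat e _)

theorem flatAt_descend (e : A ⟶ B) (h : B ⟶ C) [Flat e] (a : A) (hh : FlatAt (e ≫ h) a) :
    FlatAt h (e a) := (Groth.Agent.S4656.result e h a (flatAt_of_flat e a)).1 hh

theorem flatAt_cancel (g : A ⟶ B) (e : B ⟶ C) [Etale e] (a : A) (hh : FlatAt (g ≫ e) a) :
    FlatAt g a := by
  let Γ : A ⟶ pullback (g ≫ e) e := pullback.lift (𝟙 A) g (by simp)
  have h1 : Γ ≫ pullback.fst (g ≫ e) e = 𝟙 A := pullback.lift_fst _ _ _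
  have h2 : Γ ≫ pullback.snd (g ≫ e) e = g := pullback.lift_snd _ _ _
  haveI : Etale (pullback.fst (g ≫ e) e) := inferInstance
  haveI hΓ : Etale Γ := by
    refine MorphismProperty.of_postcomp (W := @Etale) (W' := @Etale) Γ
      (pullback.fst (g ≫ e) e) inferInstance ?_
    rw [h1]; infer_instance
  have hpb : IsPullback (pullback.snd (g ≫ e) e) (pullback.fst (g ≫ e) e) e (g ≫ e) :=
    (IsPullback.of_hasPullback (g ≫ e) e).flip
  have h3 : FlatAt (pullback.snd (g ≫ e) e) (Γ a) := by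
    refine Groth.Agent.S1392.flat_stalkMap_of_isPullback hpb (Γ a) ?_
    have : (pullback.fst (g ≫ e) e) (Γ a) = a := by
      rw [← Scheme.Hom.comp_apply, h1]; rfl
    rw [this]
    exact hh
  have := flatAt_precomp Γ (pullback.snd (g ≫ e) e) a h3
  rwa [h2] at this

end Scheme

variable {S : Scheme.{u}} {X Y : AlgSp.Sp S}

/-- **Chart independence of flatness at a point.** -/
theorem flatAt_transfer (f : X ⟶ Y)
    {U V U' V' : Over S} (a : (yon S).obj U ⟶ X) (b : (yon S).obj V ⟶ Y) (h : U ⟶ V)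
    (ha : RepWith @Etale a) (hb : RepWith @Etale b)
    (comm : a ≫ f = (yon S).map h ≫ b) (u : U.left) (hh : FlatAt h.left u)
    (a' : (yon S).obj U' ⟶ X) (b' : (yon S).obj V' ⟶ Y) (h' : U' ⟶ V')
    (ha' : RepWith @Etale a') (hb' : RepWith @Etale b')
    (comm' : a' ≫ f = (yon S).map h' ≫ b') (u' : U'.left)
    (hu : Points.ofPt a u = Points.ofPt a' u') : FlatAt h'.left u' := by
  have sqU := ha.rep.isPullback' a'
  set p₁ : ha.rep.pullback a' ⟶ U := ha.rep.fst' a' with hp₁
  set p₂ : ha.rep.pullback a' ⟶ U' := ha.rep.snd a' with hp₂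
  haveI hp₂e : Etale p₂.left := ha.property _ _ _ sqU
  haveI hp₁e : Etale p₁.left := ha'.property _ _ _ sqU.flip
  obtain ⟨w, hw1, hw2⟩ := exists_of_ofPt_eq_ofPt sqU hu
  have sqV := hb.rep.isPullback' b'
  set q₁ : hb.rep.pullback b' ⟶ V := hb.rep.fst' b' with hq₁
  set q₂ : hb.rep.pullback b' ⟶ V' := hb.rep.snd b' with hq₂
  haveI hq₂e : Etale q₂.left := hb.property _ _ _ sqV
  haveI hq₁e : Etale q₁.left := hb'.property _ _ _ sqV.flip
  have w' : (yon S).map (p₁ ≫ h) ≫ b = (yon S).map (p₂ ≫ h') ≫ b' := by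
    rw [Functor.map_comp, Functor.map_comp, Category.assoc, Category.assoc, ← comm, ← comm',
      ← Category.assoc, ← Category.assoc, sqU.w]
  obtain ⟨h'', hh''⟩ := (yon S).map_surjective (sqV.lift _ _ w')
  have e₁ : h'' ≫ q₁ = p₁ ≫ h := (yon S).map_injective (by
    rw [Functor.map_comp, hh'']; exact sqV.lift_fst _ _ _)
  have e₂ : h'' ≫ q₂ = p₂ ≫ h' := (yon S).map_injective (by
    rw [Functor.map_comp, hh'']; exact sqV.lift_snd _ _ _)
  have e₁' : h''.left ≫ q₁.left = p₁.left ≫ h.left := congrArg CommaMorphism.left e₁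
  have e₂' : h''.left ≫ q₂.left = p₂.left ≫ h'.left := congrArg CommaMorphism.left e₂
  have s1 : FlatAt (p₁.left ≫ h.left) w := flatAt_precomp _ _ w (by rw [hw1]; exact hh)
  have s2 : FlatAt h''.left w := flatAt_cancel _ q₁.left w (by rw [e₁']; exact s1)
  have s3 : FlatAt (h''.left ≫ q₂.left) w := flatAt_postcomp _ _ w s2
  rw [e₂'] at s3
  have s4 := flatAt_descend _ _ w s3
  rwa [hw2] at s4

/-- Flatness of `f` at `x` can be tested on any one chart diagram through `x`. -/
theorem isFlatAtMor_iff_of_chart (f : X ⟶ Y)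
    {U V : Over S} (a : (yon S).obj U ⟶ X) (b : (yon S).obj V ⟶ Y) (h : U ⟶ V)
    (ha : RepWith @Etale a) (hb : RepWith @Etale b)
    (comm : a ≫ f = (yon S).map h ≫ b) (u : U.left) :
    IsFlatAtMor f (Points.ofPt a u) ↔ FlatAt h.left u := by
  constructor
  · intro H
    exact H a b h u ha hb comm rfl
  · intro hh U' V' a' b' h' u' ha' hb' comm' hu'
    exact flatAt_transfer f a b h ha hb comm u hh a' b' h' ha' hb' comm' u' hu'.symm

end Groth.Agent.Lib.Helper31.AlgSpFlatAt
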