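import Mathlib
import Groth.Agent.Lib.Helper31.AlgSpFlatAt
import Groth.Agent.S1386

/-!
# The flat locus of a morphism of algebraic spaces: good charts and openness (helper31)
-/

set_option autoImplicit false
universe u

namespace Groth.Agent.Lib.Helper31.AlgSpFlatAt

open CategoryTheory CategoryTheory.Limits AlgebraicGeometry AlgSp
open Groth.Agent.Lib.Helper52 Groth.Agent.Lib.Helper51

/-- Scheme level: for `U ⟶ V ⟶ W` with `U` flat and locally of finite presentation over `W` and `V`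
locally of finite type over `W`, the flat locus of `U ⟶ V` is open. -/
theorem isOpen_flatAt {U V W : Scheme.{u}} (k : U ⟶ V) (l : V ⟶ W)
    [LocallyOfFinitePresentation (k ≫ l)] [Flat (k ≫ l)] [LocallyOfFiniteType l] :
    IsOpen {u : U | FlatAt k u} := by
  have h1 := (Groth.Agent.S1386.result k l).2
  have : {u : U | FlatAt k u} = {x : U | (l.stalkMap (k x)).hom.Flat ∧ (k.stalkMap x).hom.Flat} := by
    ext u
    constructor
    · intro hu
      exact ⟨(Groth.Agent.S4656.result k l u hu).1 (Flat.stalkMap _ u), hu⟩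
    · intro hu
      exact hu.2
  rw [this]
  exact h1

variable {S : Scheme.{u}} {X Y Z : AlgSp.Sp S}

/-- A compatible system of etale surjective charts of `X ⟶ Y ⟶ Z` with
`h_V = h_{V₁} ×_Z h_W` and `h_U = h_{U₁} ×_Y h_V`. -/
structure GoodChart (f : X ⟶ Y) (h : Y ⟶ Z) where
  (U₁ V₁ U V W : Over S)
  (a₁ : (yon S).obj U₁ ⟶ X)
  (b₁ : (yon S).obj V₁ ⟶ Y)
  (c : (yon S).obj W ⟶ Z)
  (ha₁ : RepWith @Etale a₁)
  (ha₁s : RepWith @Surjective a₁)
  (hb₁ : RepWith @Etale b₁)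
  (hb₁s : RepWith @Surjective b₁)
  (hc : RepWith @Etale c)
  (hcs : RepWith @Surjective c)
  (nU : U ⟶ U₁)
  (nV : V ⟶ V₁)
  (k : U ⟶ V)
  (l : V ⟶ W)
  (sqV : IsPullback ((yon S).map nV) ((yon S).map l) (b₁ ≫ h) c)
  (sqU : IsPullback ((yon S).map nU) ((yon S).map k) (a₁ ≫ f) ((yon S).map nV ≫ b₁))

namespace GoodChart

variable {f : X ⟶ Y} {h : Y ⟶ Z} (G : GoodChart f h)

/-- the chart of `X` -/
noncomputable abbrev a : (yon S).obj G.U ⟶ X := (yon S).map G.nU ≫ G.a₁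
/-- the chart of `Y` -/
noncomputable abbrev b : (yon S).obj G.V ⟶ Y := (yon S).map G.nV ≫ G.b₁

theorem nV_etale : Etale G.nV.left := G.hc.property _ _ _ G.sqV.flip
theorem nV_surjective : Surjective G.nV.left := G.hcs.property _ _ _ G.sqV.flip

theorem hb : RepWith @Etale G.b :=
  (RepWith (S := S) @Etale).comp_mem _ _ ((repWith_yon_map_iff _ _).2 G.nV_etale) G.hb₁
theorem hbs : RepWith @Surjective G.b :=
  (RepWith (S := S) @Surjective).comp_mem _ _ ((repWith_yon_map_iff _ _).2 G.nV_surjective) G.hb₁s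

theorem nU_etale : Etale G.nU.left := G.hb.property _ _ _ G.sqU.flip
theorem nU_surjective : Surjective G.nU.left := G.hbs.property _ _ _ G.sqU.flip

theorem ha : RepWith @Etale G.a :=
  (RepWith (S := S) @Etale).comp_mem _ _ ((repWith_yon_map_iff _ _).2 G.nU_etale) G.ha₁
theorem has : RepWith @Surjective G.a :=
  (RepWith (S := S) @Surjective).comp_mem _ _ ((repWith_yon_map_iff _ _).2 G.nU_surjective) G.ha₁s

theorem comm_f : G.a ≫ f = (yon S).map G.k ≫ G.b := by
  rw [Category.assoc]; exact G.sqU.w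
theorem comm_h : G.b ≫ h = (yon S).map G.l ≫ G.c := by
  rw [Category.assoc]; exact G.sqV.w
theorem comm_fh : G.a ≫ f ≫ h = (yon S).map (G.k ≫ G.l) ≫ G.c := by
  rw [← Category.assoc, G.comm_f, Category.assoc, G.comm_h, Functor.map_comp, Category.assoc]

end GoodChart

/-- Good charts exist. -/
theorem exists_goodChart (f : X ⟶ Y) (h : Y ⟶ Z) (hX : IsAlgSpace X) (hY : IsAlgSpace Y)
    (hZ : IsAlgSpace Z) : Nonempty (GoodChart f h) := by
  obtain ⟨W, c, hc, hcs⟩ := hZ.atlas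
  obtain ⟨V₁, b₁, hb₁, hb₁s⟩ := hY.atlas
  obtain ⟨U₁, a₁, ha₁, ha₁s⟩ := hX.atlas
  have sqV := (hc.rep.isPullback' (b₁ ≫ h)).flip
  have hnVe : Etale (hc.rep.snd (b₁ ≫ h)).left := hc.property _ _ _ sqV.flip
  have hb : RepWith @Etale ((yon S).map (hc.rep.snd (b₁ ≫ h)) ≫ b₁) :=
    (RepWith (S := S) @Etale).comp_mem _ _ ((repWith_yon_map_iff _ _).2 hnVe) hb₁
  have sqU := (hb.rep.isPullback' (a₁ ≫ f)).flip
  exact ⟨⟨U₁, V₁, _, _, W, a₁, b₁, c, ha₁, ha₁s, hb₁, hb₁s, hc, hcs, hb.rep.snd (a₁ ≫ f),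
    hc.rep.snd (b₁ ≫ h), hb.rep.fst' (a₁ ≫ f), hc.rep.fst' (b₁ ≫ h), sqV, sqU⟩⟩

section Open

variable {f : X ⟶ Y} {h : Y ⟶ Z} (G : GoodChart f h)
  (hfp : LocP @LocallyOfFinitePresentation (f ≫ h)) (hfl : LocP @Flat (f ≫ h))
  (hft : LocP @LocallyOfFiniteType h)

include hfp in
theorem GoodChart.lfp : LocallyOfFinitePresentation (G.k.left ≫ G.l.left) :=
  hfp G.a G.c (G.k ≫ G.l) G.ha G.hc G.comm_fh

include hfl in
theorem GoodChart.flat : Flat (G.k.left ≫ G.l.left) :=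
  hfl G.a G.c (G.k ≫ G.l) G.ha G.hc G.comm_fh

include hft in
theorem GoodChart.lft : LocallyOfFiniteType G.l.left :=
  hft G.b G.c G.l G.hb G.hc G.comm_h

theorem GoodChart.isFlatAtMor_iff (u : G.U.left) :
    IsFlatAtMor f (Points.ofPt G.a u) ↔ FlatAt G.k.left u :=
  isFlatAtMor_iff_of_chart f G.a G.b G.k G.ha G.hb G.comm_f u

include G hfp hfl hft in
/-- **The flat locus is open.** -/
theorem isOpen_isFlatAtMor : IsOpen {x : Points X | IsFlatAtMor f x} := by
  haveI := G.lfp hfp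
  haveI := G.flat hfl
  haveI := G.lft hft
  rw [← (isQuotientMap_ofPt G.a G.ha G.has).isOpen_preimage]
  have : Points.ofPt G.a ⁻¹' {x : Points X | IsFlatAtMor f x} = {u : G.U.left | FlatAt G.k.left u} := by
    ext u
    exact G.isFlatAtMor_iff u
  rw [this]
  exact isOpen_flatAt G.k.left G.l.left

end Open

end Groth.Agent.Lib.Helper31.AlgSpFlatAt
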