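import Mathlib
import Groth.Agent.Lib.Helper31.AlgSpFlatAt
import Groth.Agent.S1386

/-!
# Formation of the flat locus commutes with base change (scheme level) (helper31)

For `U ⟶ V ⟶ W` with `U` flat and locally of finite presentation over `W`, `V` locally of finite type
over `W`, and any `W'' ⟶ W` with `V'' = V ×_W W''`, `U'' = U ×_V V''`: `U'' ⟶ V''` is flat at `u''` iff
`U ⟶ V` is flat at the image of `u''`.
-/

set_option autoImplicit false
universe u

namespace Groth.Agent.Lib.Helper31.AlgSpFlatAt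

open CategoryTheory CategoryTheory.Limits AlgebraicGeometry

/-- Flatness of the fibre map at a point of a fibre only depends on the image point. -/
theorem flatAt_fiberMap_congr {X Y S : Scheme.{u}} (f : X ⟶ Y) (g : Y ⟶ S) (x : X) (s : S)
    (hs : g (f x) = s) (ξ : ((f ≫ g).fiber s : Scheme.{u})) (hξ : (f ≫ g).fiberι s ξ = x) :
    FlatAt (MoreMor.fiberMap f g s) ξ ↔
      FlatAt (MoreMor.fiberMap f g (g (f x))) ((f ≫ g).asFiber x) := by
  subst hs
  have : ξ = (f ≫ g).asFiber x :=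
    ((f ≫ g).fiberι _).isEmbedding.injective (hξ.trans ((f ≫ g).fiberι_asFiber x).symm)
  subst this
  rfl

section

variable {U V W U'' V'' W'' : Scheme.{u}} (k : U ⟶ V) (l : V ⟶ W)
  (m : W'' ⟶ W) (mV : V'' ⟶ V) (l'' : V'' ⟶ W'') (mU : U'' ⟶ U) (k'' : U'' ⟶ V'')

/-- Descent of flatness of fibre maps along the base change of fibres. -/
theorem flatAt_fiberMap_of_baseChange (sqV : IsPullback mV l'' l m) (sqU : IsPullback mU k'' k mV)
    (w'' : W'') (ξ'' : ((k'' ≫ l'').fiber w'' : Scheme.{u}))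
    (hfl : FlatAt (MoreMor.fiberMap k'' l'' w'') ξ'') :
    ∃ ξ : ((k ≫ l).fiber (m w'') : Scheme.{u}),
      (k ≫ l).fiberι (m w'') ξ = mU ((k'' ≫ l'').fiberι w'' ξ'') ∧
      FlatAt (MoreMor.fiberMap k l (m w'')) ξ := by
  have sqUW : IsPullback mU (k'' ≫ l'') (k ≫ l) m := sqU.paste_vert sqV
  have pU := isPullback_fiberToSpecResidueField_of_isPullback sqUW w''
  have pV := isPullback_fiberToSpecResidueField_of_isPullback sqV w''
  set μU : (k'' ≫ l'').fiber w'' ⟶ (k ≫ l).fiber (m w'') :=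
    pullback.map _ _ _ _ mU (Spec.map (m.residueFieldMap w'')) m sqUW.w.symm (by simp) with hμU
  set μV : l''.fiber w'' ⟶ l.fiber (m w'') :=
    pullback.map _ _ _ _ mV (Spec.map (m.residueFieldMap w'')) m sqV.w.symm (by simp) with hμV
  have hres : Flat (Spec.map (m.residueFieldMap w'')) := by
    rw [Flat.SpecMap_iff]
    letI := (m.residueFieldMap w'').hom.toAlgebra
    show Module.Flat _ _
    infer_instance
  haveI hμUf : Flat μU := MorphismProperty.of_isPullback (P := @Flat) pU.flip hres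
  haveI hμVf : Flat μV := MorphismProperty.of_isPullback (P := @Flat) pV.flip hres
  have hμU1 : μU ≫ (k ≫ l).fiberι (m w'') = (k'' ≫ l'').fiberι w'' ≫ mU := pullback.lift_fst _ _ _
  have hμU2 : μU ≫ (k ≫ l).fiberToSpecResidueField (m w'') =
      (k'' ≫ l'').fiberToSpecResidueField w'' ≫ Spec.map (m.residueFieldMap w'') :=
    pullback.lift_snd _ _ _
  have hμV1 : μV ≫ l.fiberι (m w'') = l''.fiberι w'' ≫ mV := pullback.lift_fst _ _ _
  have hμV2 : μV ≫ l.fiberToSpecResidueField (m w'') =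
      l''.fiberToSpecResidueField w'' ≫ Spec.map (m.residueFieldMap w'') :=
    pullback.lift_snd _ _ _
  have hφ1 : MoreMor.fiberMap k l (m w'') ≫ l.fiberι (m w'') = (k ≫ l).fiberι (m w'') ≫ k :=
    pullback.lift_fst _ _ _
  have hφ2 : MoreMor.fiberMap k l (m w'') ≫ l.fiberToSpecResidueField (m w'') =
      (k ≫ l).fiberToSpecResidueField (m w'') := pullback.lift_snd _ _ _
  have hφ1' : MoreMor.fiberMap k'' l'' w'' ≫ l''.fiberι w'' = (k'' ≫ l'').fiberι w'' ≫ k'' :=
    pullback.lift_fst _ _ _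
  have hφ2' : MoreMor.fiberMap k'' l'' w'' ≫ l''.fiberToSpecResidueField w'' =
      (k'' ≫ l'').fiberToSpecResidueField w'' := pullback.lift_snd _ _ _
  have comm : μU ≫ MoreMor.fiberMap k l (m w'') = MoreMor.fiberMap k'' l'' w'' ≫ μV := by
    apply pullback.hom_ext
    · change (μU ≫ MoreMor.fiberMap k l (m w'')) ≫ l.fiberι (m w'') =
        (MoreMor.fiberMap k'' l'' w'' ≫ μV) ≫ l.fiberι (m w'')
      calc (μU ≫ MoreMor.fiberMap k l (m w'')) ≫ l.fiberι (m w'')
          = (μU ≫ (k ≫ l).fiberι (m w'')) ≫ k := by rw [Category.assoc, hφ1, Category.assoc]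
        _ = (k'' ≫ l'').fiberι w'' ≫ mU ≫ k := by rw [hμU1, Category.assoc]
        _ = (k'' ≫ l'').fiberι w'' ≫ k'' ≫ mV := by rw [sqU.w]
        _ = (MoreMor.fiberMap k'' l'' w'' ≫ l''.fiberι w'') ≫ mV := by
            rw [hφ1', Category.assoc]
        _ = (MoreMor.fiberMap k'' l'' w'' ≫ μV) ≫ l.fiberι (m w'') := by
            rw [Category.assoc, Category.assoc, hμV1]
    · change (μU ≫ MoreMor.fiberMap k l (m w'')) ≫ l.fiberToSpecResidueField (m w'') =
        (MoreMor.fiberMap k'' l'' w'' ≫ μV) ≫ l.fiberToSpecResidueField (m w'')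
      rw [Category.assoc, hφ2, hμU2, Category.assoc, hμV2, ← Category.assoc, hφ2']
  refine ⟨μU ξ'', ?_, ?_⟩
  · rw [← Scheme.Hom.comp_apply, hμU1, Scheme.Hom.comp_apply]
  · have s1 : FlatAt (MoreMor.fiberMap k'' l'' w'' ≫ μV) ξ'' := flatAt_postcomp _ _ ξ'' hfl
    rw [← comm] at s1
    exact flatAt_descend _ _ ξ'' s1

variable [LocallyOfFinitePresentation (k ≫ l)] [Flat (k ≫ l)] [LocallyOfFiniteType l]

/-- **Formation of the flat locus commutes with base change.** -/
theorem flatAt_baseChange_iff (sqV : IsPullback mV l'' l m) (sqU : IsPullback mU k'' k mV)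
    (u'' : U'') : FlatAt k'' u'' ↔ FlatAt k (mU u'') := by
  constructor
  · intro hk''
    have sqUW : IsPullback mU (k'' ≫ l'') (k ≫ l) m := sqU.paste_vert sqV
    haveI : LocallyOfFinitePresentation (k'' ≫ l'') :=
      MorphismProperty.of_isPullback (P := @LocallyOfFinitePresentation) sqUW inferInstance
    haveI : Flat (k'' ≫ l'') := MorphismProperty.of_isPullback (P := @Flat) sqUW inferInstance
    haveI : LocallyOfFiniteType l'' :=
      MorphismProperty.of_isPullback (P := @LocallyOfFiniteType) sqV inferInstance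
    have h1 : FlatAt l'' (k'' u'') :=
      (Groth.Agent.S4656.result k'' l'' u'' hk'').1 (Flat.stalkMap _ u'')
    have h2 := (((Groth.Agent.S1386.result k'' l'').1 u'').2 ⟨h1, hk''⟩).2
    obtain ⟨ξ, hξ1, hξ2⟩ := flatAt_fiberMap_of_baseChange k l m mV l'' mU k'' sqV sqU
      (l'' (k'' u'')) ((k'' ≫ l'').asFiber u'') h2
    replace hξ1 : (k ≫ l).fiberι (m (l'' (k'' u''))) ξ = mU u'' :=
      hξ1.trans (congrArg (fun z => mU z) ((k'' ≫ l'').fiberι_asFiber u''))
    have hs : l (k (mU u'')) = m (l'' (k'' u'')) := by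
      have e : (mU ≫ k) ≫ l = (k'' ≫ l'') ≫ m := by
        rw [Category.assoc]; exact sqUW.w
      simp only [← Scheme.Hom.comp_apply]
      rw [e]
    have h3 := (flatAt_fiberMap_congr k l (mU u'') _ hs ξ hξ1).1 hξ2
    exact (((Groth.Agent.S1386.result k l).1 (mU u'')).1 ⟨Flat.stalkMap _ _, h3⟩).2
  · intro hk
    exact Groth.Agent.S1392.flat_stalkMap_of_isPullback sqU.flip u'' hk

end

end Groth.Agent.Lib.Helper31.AlgSpFlatAt
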