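import Mathlib
import Groth.Agent.Lib.Helper31.AlgSpFlatLocus
import Groth.Agent.Lib.Helper31.FlatLocusBC
import Groth.Agent.Lib.Helper30.AlgSpDesc

/-!
# Formation of the flat locus of a morphism of algebraic spaces commutes with base change (helper31)
-/

set_option autoImplicit false
universe u

namespace Groth.Agent.Lib.Helper31.AlgSpFlatAt

open CategoryTheory CategoryTheory.Limits AlgebraicGeometry AlgSp
open Groth.Agent.Lib.Helper52 Groth.Agent.Lib.Helper51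

variable {S : Scheme.{u}}

/-- If `A' = A ×_C C'` and `T = T₁ ×_C T''` with `T₁ ⟶ A`, `T'' ⟶ C'` representable with `P`, then the
induced `T ⟶ A'` is representable with `P`. -/
theorem repWith_lift_of_big (P : MorphismProperty Scheme.{u}) [P.IsStableUnderBaseChange]
    [P.IsMultiplicative]
    {A C C' A' T₁ T'' T : Sp S} {β : A ⟶ C} {γ : C' ⟶ C} {pA : A' ⟶ A} {β' : A' ⟶ C'}
    (sq : IsPullback pA β' β γ)
    (a₁ : T₁ ⟶ A) (c'' : T'' ⟶ C') (ha₁ : RepWith P a₁) (hc'' : RepWith P c'')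
    (ν₁ : T ⟶ T₁) (ν₂ : T ⟶ T'')
    (big : IsPullback ν₁ ν₂ (a₁ ≫ β) (c'' ≫ γ))
    (τ : T ⟶ A') (hτ₁ : τ ≫ pA = ν₁ ≫ a₁) (hτ₂ : τ ≫ β' = ν₂ ≫ c'') :
    RepWith P τ := by
  have sqE : IsPullback (pullback.fst a₁ pA) (pullback.snd a₁ pA) a₁ pA :=
    IsPullback.of_hasPullback a₁ pA
  have sqEC : IsPullback (pullback.fst a₁ pA) (pullback.snd a₁ pA ≫ β') (a₁ ≫ β) γ :=
    sqE.paste_vert sq
  set t : T ⟶ pullback a₁ pA := sqE.lift ν₁ τ hτ₁.symm with ht
  have ht1 : t ≫ pullback.fst a₁ pA = ν₁ := sqE.lift_fst _ _ _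
  have ht2 : t ≫ pullback.snd a₁ pA = τ := sqE.lift_snd _ _ _
  have sqT : IsPullback t ν₂ (pullback.snd a₁ pA ≫ β') c'' := by
    refine IsPullback.of_right ?_ ?_ sqEC
    · rw [ht1]; exact big
    · rw [← Category.assoc, ht2, hτ₂]
  have h1 : RepWith P t := MorphismProperty.of_isPullback (P := RepWith (S := S) P) sqT.flip hc''
  have h2 : RepWith P (pullback.snd a₁ pA) :=
    MorphismProperty.of_isPullback (P := RepWith (S := S) P) sqE ha₁
  rw [← ht2]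
  exact (RepWith (S := S) P).comp_mem _ _ h1 h2

variable {X Y Z X' Y' Z' : AlgSp.Sp S}

/-- **Formation of the flat locus commutes with base change** (pointwise form). -/
theorem isFlatAtMor_baseChange_iff {f : X ⟶ Y} {h : Y ⟶ Z} (G : GoodChart f h)
    (hfp : LocP @LocallyOfFinitePresentation (f ≫ h)) (hfl : LocP @Flat (f ≫ h))
    (hft : LocP @LocallyOfFiniteType h) (hZ' : IsAlgSpace Z')
    (g : Z' ⟶ Z) (f' : X' ⟶ Y') (h' : Y' ⟶ Z') (pX : X' ⟶ X) (pY : Y' ⟶ Y)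
    (sqY : IsPullback pY h' h g) (sqX : IsPullback pX f' f pY) (x' : Points X') :
    IsFlatAtMor f' x' ↔ IsFlatAtMor f (Points.map pX x') := by
  haveI := G.lfp hfp
  haveI := G.flat hfl
  haveI := G.lft hft
  obtain ⟨W'₁, c'₁, hc'₁, hc'₁s⟩ := hZ'.atlas
  -- the chart `W''` of `Z'`
  have sqW := G.hc.rep.isPullback' (c'₁ ≫ g)
  set W'' : Over S := G.hc.rep.pullback (c'₁ ≫ g) with hW''
  set m : W'' ⟶ G.W := G.hc.rep.fst' (c'₁ ≫ g) with hm
  set r₁ : W'' ⟶ W'₁ := G.hc.rep.snd (c'₁ ≫ g) with hr₁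
  have hr₁e : Etale r₁.left := G.hc.property _ _ _ sqW
  have hr₁s : Surjective r₁.left := G.hcs.property _ _ _ sqW
  obtain ⟨c'', hc''def⟩ : ∃ c'' : (yon S).obj W'' ⟶ Z', c'' = (yon S).map r₁ ≫ c'₁ := ⟨_, rfl⟩
  have hc''e : RepWith @Etale c'' := by
    rw [hc''def]
    exact (RepWith (S := S) @Etale).comp_mem _ _ ((repWith_yon_map_iff _ _).2 hr₁e) hc'₁
  have hc''s : RepWith @Surjective c'' := by
    rw [hc''def]
    exact (RepWith (S := S) @Surjective).comp_mem _ _ ((repWith_yon_map_iff _ _).2 hr₁s) hc'₁s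
  have hcomm : (yon S).map m ≫ G.c = c'' ≫ g := by
    rw [hc''def, Category.assoc]; exact sqW.w
  -- the charts `V''`, `U''`
  obtain ⟨V'', mV, l'', sqVo, sqVs⟩ := Groth.Agent.Lib.Helper30.isPullback_over' G.l m
  obtain ⟨U'', mU, k'', sqUo, sqUs⟩ := Groth.Agent.Lib.Helper30.isPullback_over' G.k mV
  have sqVy := sqVo.map (yon S)
  have sqUy := sqUo.map (yon S)
  -- the chart map of `Y'`
  have bigV : IsPullback ((yon S).map mV ≫ (yon S).map G.nV) ((yon S).map l'') (G.b₁ ≫ h)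
      (c'' ≫ g) := by
    have := sqVy.paste_horiz G.sqV
    rwa [hcomm] at this
  have wV : ((yon S).map mV ≫ G.b) ≫ h = ((yon S).map l'' ≫ c'') ≫ g := by
    rw [Category.assoc, G.comm_h, ← Category.assoc, sqVy.w, Category.assoc, hcomm, Category.assoc]
  obtain ⟨b'', hb''1, hb''2⟩ : ∃ b'' : (yon S).obj V'' ⟶ Y', b'' ≫ pY = (yon S).map mV ≫ G.b ∧
      b'' ≫ h' = (yon S).map l'' ≫ c'' :=
    ⟨sqY.lift _ _ wV, sqY.lift_fst _ _ _, sqY.lift_snd _ _ _⟩
  have hb''1' : b'' ≫ pY = ((yon S).map mV ≫ (yon S).map G.nV) ≫ G.b₁ := by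
    rw [hb''1, Category.assoc]
  have hb''e : RepWith @Etale b'' :=
    repWith_lift_of_big @Etale sqY G.b₁ c'' G.hb₁ hc''e _ _ bigV b'' hb''1' hb''2
  have hb''s : RepWith @Surjective b'' :=
    repWith_lift_of_big @Surjective sqY G.b₁ c'' G.hb₁s hc''s _ _ bigV b'' hb''1' hb''2
  -- the chart map of `X'`
  have bigU : IsPullback ((yon S).map mU ≫ (yon S).map G.nU) ((yon S).map k'') (G.a₁ ≫ f)
      (b'' ≫ pY) := by
    have := sqUy.paste_horiz G.sqU
    rwa [← hb''1] at this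
  have wU : ((yon S).map mU ≫ G.a) ≫ f = ((yon S).map k'' ≫ b'') ≫ pY := by
    rw [Category.assoc, G.comm_f, ← Category.assoc, sqUy.w, Category.assoc, Category.assoc, hb''1]
  obtain ⟨a'', ha''1, ha''2⟩ : ∃ a'' : (yon S).obj U'' ⟶ X', a'' ≫ pX = (yon S).map mU ≫ G.a ∧
      a'' ≫ f' = (yon S).map k'' ≫ b'' :=
    ⟨sqX.lift _ _ wU, sqX.lift_fst _ _ _, sqX.lift_snd _ _ _⟩
  have ha''1' : a'' ≫ pX = ((yon S).map mU ≫ (yon S).map G.nU) ≫ G.a₁ := by
    rw [ha''1, Category.assoc]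
  have ha''e : RepWith @Etale a'' :=
    repWith_lift_of_big @Etale sqX G.a₁ b'' G.ha₁ hb''e _ _ bigU a'' ha''1' ha''2
  have ha''s : RepWith @Surjective a'' :=
    repWith_lift_of_big @Surjective sqX G.a₁ b'' G.ha₁s hb''s _ _ bigU a'' ha''1' ha''2
  -- conclusion
  obtain ⟨u'', rfl⟩ := surjective_ofPt_of_repWith_surjective a'' ha''s x'
  rw [Points.map_ofPt, ha''1, ofPt_yon_map_comp, G.isFlatAtMor_iff,
    isFlatAtMor_iff_of_chart f' a'' b'' k'' ha''e hb''e ha''2 u'']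
  exact flatAt_baseChange_iff G.k.left G.l.left m.left mV.left l''.left mU.left k''.left sqVs sqUs u''

end Groth.Agent.Lib.Helper31.AlgSpFlatAt
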