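import Mathlib
import Groth.Agent.Lib.Helper31.AlgSpFlatLocusBC
import Groth.Prelude.Def_AlgSpInf

/-!
# Pointwise flatness vs `LocP @Flat`, thickenings, and flat deformation (helper31)
-/

set_option autoImplicit false
universe u

namespace Groth.Agent.Lib.Helper31.AlgSpFlatAt

open CategoryTheory CategoryTheory.Limits AlgebraicGeometry AlgSp
open Groth.Agent.Lib.Helper52 Groth.Agent.Lib.Helper51

variable {S : Scheme.{u}}

/-- `LocP @Flat f` iff `f` is flat at every point. -/
theorem locP_flat_iff_forall_isFlatAtMor {X Y : AlgSp.Sp S} (f : X ⟶ Y) :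
    LocP @Flat f ↔ ∀ x : Points X, IsFlatAtMor f x := by
  constructor
  · intro H x U V a b h u ha hb comm _
    haveI : Flat h.left := H a b h ha hb comm
    exact Flat.stalkMap h.left u
  · intro H U V a b h ha hb comm
    exact Flat.of_stalkMap _ fun u => H (Points.ofPt a u) a b h u ha hb comm rfl

/-- A thickening is representable surjective. -/
theorem repWith_surjective_of_isThickMor {X X' : AlgSp.Sp S} {i : X ⟶ X'} (hi : IsThickMor i) :
    RepWith @Surjective i :=
  ⟨hi.1, fun _ _ g fst snd sq => (hi.2 g fst snd sq).2⟩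

/-- A thickening is surjective on points. -/
theorem surjective_map_of_isThickMor {X X' : AlgSp.Sp S} {i : X ⟶ X'} (hi : IsThickMor i) :
    Function.Surjective (Points.map i) :=
  surjective_map_of_repWith_surjective (repWith_surjective_of_isThickMor hi)

variable {X Y Z : AlgSp.Sp S}

/-- If `f ≫ h` is flat and `f` is flat at `x` then `h` is flat at `f x`. -/
theorem isFlatAtMor_map_of_isFlatAtMor {f : X ⟶ Y} {h : Y ⟶ Z} (G : GoodChart f h)
    (hfl : LocP @Flat (f ≫ h)) (x : Points X) (hx : IsFlatAtMor f x) :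
    IsFlatAtMor h (Points.map f x) := by
  haveI := G.flat hfl
  obtain ⟨u, rfl⟩ := surjective_ofPt_of_repWith_surjective G.a G.has x
  rw [Points.map_ofPt, G.comm_f, ofPt_yon_map_comp,
    isFlatAtMor_iff_of_chart h G.b G.c G.l G.hb G.hc G.comm_h]
  have hk : FlatAt G.k.left u := (G.isFlatAtMor_iff u).1 hx
  exact (Groth.Agent.S4656.result G.k.left G.l.left u hk).1 (Flat.stalkMap _ u)

/-- **Flat deformation along a thickening** (finitely presented case): if `X'` is flat and locally of
finite presentation over `B'`, `Y'` locally of finite type over `B'`, `B ⟶ B'` a thickening and the base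
change `f` of `f'` to `B` is flat, then `f'` is flat. -/
theorem locP_flat_of_thickening {X X' Y Y' B B' : AlgSp.Sp S} (iX : X ⟶ X') (iY : Y ⟶ Y')
    (iB : B ⟶ B') (f : X ⟶ Y) (f' : X' ⟶ Y') (g : Y ⟶ B) (g' : Y' ⟶ B')
    (hX' : IsAlgSpace X') (hY' : IsAlgSpace Y') (hB' : IsAlgSpace B') (hBs : IsAlgSpace B)
    (hcX : IsPullback iX (f ≫ g) (f' ≫ g') iB) (hcY : IsPullback iY g g' iB)
    (w : iX ≫ f' = f ≫ iY) (hB : IsThickMor iB)
    (hg' : LocP @LocallyOfFiniteType g') (hflat : LocP @Flat (f' ≫ g'))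
    (hfp : LocP @LocallyOfFinitePresentation (f' ≫ g')) (hf : LocP @Flat f) :
    LocP @Flat f' ∧ ∀ x' : Points X', IsFlatAtMor g' (Points.map f' x') := by
  obtain ⟨G⟩ := exists_goodChart f' g' hX' hY' hB'
  have sqX : IsPullback iX f f' iY := IsPullback.of_bot hcX w hcY
  have hiX : IsThickMor iX :=
    MorphismProperty.of_isPullback (P := RepWith (S := S) thick) hcX.flip hB
  have hpt : ∀ x' : Points X', IsFlatAtMor f' x' := by
    intro x'
    obtain ⟨x, rfl⟩ := surjective_map_of_isThickMor hiX x'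
    rw [← isFlatAtMor_baseChange_iff G hfp hflat hg' hBs iB f g iX iY hcY sqX x]
    exact (locP_flat_iff_forall_isFlatAtMor f).1 hf x
  exact ⟨(locP_flat_iff_forall_isFlatAtMor f').2 hpt,
    fun x' => isFlatAtMor_map_of_isFlatAtMor G hflat x' (hpt x')⟩

end Groth.Agent.Lib.Helper31.AlgSpFlatAt
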