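import Mathlib
import Groth.Agent.Lib.Helper31.AlgSpFlatPt
import Groth.Agent.Lib.Helper51.AlgSpOpen
import Groth.Agent.Lib.Helper78.AlgSpFibre

/-!
# "Where" loci: the open subspace of the base over which a base change has a property (helper31)
-/

set_option autoImplicit false
universe u

namespace Groth.Agent.Lib.Helper31.AlgSpFlatAt

open CategoryTheory CategoryTheory.Limits AlgebraicGeometry AlgSp
open Groth.Agent.Lib.Helper52 Groth.Agent.Lib.Helper51

variable {S : Scheme.{u}}

/-- The open subspace of an algebraic space `Z` on the complement of a closed set `C` of points: a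
morphism factors through it iff its image on points avoids `C`. -/
theorem exists_open_where (Z : AlgSp.Space S) (C : Set (Points Z.obj)) (hC : IsClosed C) :
    ∃ (W : AlgSp.Space S) (w : W ⟶ Z), AlgSp.RepWith @IsOpenImmersion w.hom ∧
      ∀ (Z' : AlgSp.Space S) (g : Z' ⟶ Z),
        (∃ k : Z' ⟶ W, k ≫ w = g) ↔ ∀ z' : Points Z'.obj, Points.map g.hom z' ∉ C := by
  have hW : IsOpen Cᶜ := hC.isOpen_compl
  refine ⟨⟨openSp Z.obj Cᶜ, isAlgSpace_openSp Cᶜ hW Z.property⟩,
    ObjectProperty.homMk (openSpι Z.obj Cᶜ), repWith_isOpenImmersion_openSpι Cᶜ hW, ?_⟩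
  intro Z' g
  constructor
  · rintro ⟨k, rfl⟩ z'
    have : Points.map (k ≫ ObjectProperty.homMk (openSpι Z.obj Cᶜ)).hom z' =
        Points.map (openSpι Z.obj Cᶜ) (Points.map k.hom z') := Points.map_comp _ _ _
    rw [this]
    have h2 : Points.map (openSpι Z.obj Cᶜ) (Points.map k.hom z') ∈
        Set.range (Points.map (openSpι Z.obj Cᶜ)) := ⟨_, rfl⟩
    rw [range_map_openSpι] at h2
    exact h2
  · intro H
    obtain ⟨k, hk⟩ := exists_factor_of_range_subset (openSpι Z.obj Cᶜ)
      (repWith_isOpenImmersion_openSpι Cᶜ hW) g.hom (by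
        rw [range_map_openSpι]
        rintro _ ⟨z', rfl⟩
        exact H z')
    exact ⟨ObjectProperty.homMk k, ObjectProperty.hom_ext _ hk⟩

end Groth.Agent.Lib.Helper31.AlgSpFlatAt
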