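import Mathlib
import Groth.Agent.S7408
import Groth.Agent.S9358
import Groth.Agent.Lib.Helper31.AlgSpFlatPt
import Groth.Agent.Lib.Helper78.AlgSpThickChart
import Groth.Agent.Lib.Helper78.AlgSpThick

/-!
# Relative dimension at a point for morphisms of algebraic spaces (helper31)

* `fibreDimAt_transfer`: chart independence of the local fibre dimension.
* `exists_chart_at`: a chart diagram through any point.
* `hasAtMor_fibreDim_iff_of_chart`.
* `hasAtMor_fibreDim_iff_of_thick_cartesian`: invariance along cartesian morphisms of thickenings.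
-/

set_option autoImplicit false
universe u

namespace Groth.Agent.Lib.Helper31.AlgSpFlatAt

open CategoryTheory CategoryTheory.Limits AlgebraicGeometry AlgSp
open Groth.Agent.Lib.Helper52 Groth.Agent.Lib.Helper51

variable {S : Scheme.{u}} {X Y : AlgSp.Sp S}

/-- **Chart independence of the local fibre dimension at a point.** -/
theorem fibreDimAt_transfer (f : X ⟶ Y)
    {U V U' V' : Over S} (a : (yon S).obj U ⟶ X) (b : (yon S).obj V ⟶ Y) (h : U ⟶ V)
    (ha : RepWith @Etale a) (hb : RepWith @Etale b)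
    (comm : a ≫ f = (yon S).map h ≫ b) (u : U.left)
    (a' : (yon S).obj U' ⟶ X) (b' : (yon S).obj V' ⟶ Y) (h' : U' ⟶ V')
    (ha' : RepWith @Etale a') (hb' : RepWith @Etale b')
    (comm' : a' ≫ f = (yon S).map h' ≫ b') (u' : U'.left)
    (hu : Points.ofPt a u = Points.ofPt a' u') :
    FlatMor.fibreDimAt h.left u = FlatMor.fibreDimAt h'.left u' := by
  have sqU := ha.rep.isPullback' a'
  set p₁ : ha.rep.pullback a' ⟶ U := ha.rep.fst' a' with hp₁
  set p₂ : ha.rep.pullback a' ⟶ U' := ha.rep.snd a' with hp₂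
  haveI hp₂e : Etale p₂.left := ha.property _ _ _ sqU
  haveI hp₁e : Etale p₁.left := ha'.property _ _ _ sqU.flip
  obtain ⟨w, hw1, hw2⟩ := exists_of_ofPt_eq_ofPt sqU hu
  have sqV := hb.rep.isPullback' b'
  set q₁ : hb.rep.pullback b' ⟶ V := hb.rep.fst' b' with hq₁
  set q₂ : hb.rep.pullback b' ⟶ V' := hb.rep.snd b' with hq₂
  haveI hq₂e : Etale q₂.left := hb.property _ _ _ sqV
  haveI hq₁e : Etale q₁.left := hb'.property _ _ _ sqV.flip
  have w' : (yon S).map (p₁ ≫ h) ≫ b = (yon S).map (p₂ ≫ h') ≫ b' := by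
    rw [Functor.map_comp, Functor.map_comp, Category.assoc, Category.assoc, ← comm, ← comm',
      ← Category.assoc, ← Category.assoc, sqU.w]
  obtain ⟨h'', hh''⟩ := (yon S).map_surjective (sqV.lift _ _ w')
  have e₁ : h'' ≫ q₁ = p₁ ≫ h := (yon S).map_injective (by
    rw [Functor.map_comp, hh'']; exact sqV.lift_fst _ _ _)
  have e₂ : h'' ≫ q₂ = p₂ ≫ h' := (yon S).map_injective (by
    rw [Functor.map_comp, hh'']; exact sqV.lift_snd _ _ _)
  have e₁' : h''.left ≫ q₁.left = p₁.left ≫ h.left := congrArg CommaMorphism.left e₁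
  have e₂' : h''.left ≫ q₂.left = p₂.left ≫ h'.left := congrArg CommaMorphism.left e₂
  have s1 := Groth.Agent.S7408.result h.left h''.left p₁.left q₁.left e₁' w
  have s2 := Groth.Agent.S7408.result h'.left h''.left p₂.left q₂.left e₂' w
  rw [hw1] at s1
  rw [hw2] at s2
  rw [s1, s2]

/-- A chart diagram of `f` through any point of `X`. -/
theorem exists_chart_at (f : X ⟶ Y) (hX : IsAlgSpace X) (hY : IsAlgSpace Y) (x : Points X) :
    ∃ (U V : Over S) (a : (yon S).obj U ⟶ X) (b : (yon S).obj V ⟶ Y) (h : U ⟶ V) (u : ↥U.left),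
      RepWith @Etale a ∧ RepWith @Etale b ∧ a ≫ f = (yon S).map h ≫ b ∧ Points.ofPt a u = x := by
  obtain ⟨G⟩ := exists_goodChart f (𝟙 Y) hX hY hY
  obtain ⟨u, hu⟩ := surjective_ofPt_of_repWith_surjective G.a G.has x
  exact ⟨G.U, G.V, G.a, G.b, G.k, u, G.ha, G.hb, G.comm_f, hu⟩

/-- The relative dimension at a point can be tested on any chart diagram through the point. -/
theorem hasAtMor_fibreDim_iff_of_chart (f : X ⟶ Y) (d : WithBot ℕ∞)
    {U V : Over S} (a : (yon S).obj U ⟶ X) (b : (yon S).obj V ⟶ Y) (h : U ⟶ V)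
    (ha : RepWith @Etale a) (hb : RepWith @Etale b)
    (comm : a ≫ f = (yon S).map h ≫ b) (u : U.left) :
    HasAtMor (fun _ _ h u => FlatMor.fibreDimAt h u = d) f (Points.ofPt a u) ↔
      FlatMor.fibreDimAt h.left u = d := by
  constructor
  · rintro ⟨U', V', a', b', h', u', ha', hb', comm', hu', hd⟩
    rw [fibreDimAt_transfer f a b h ha hb comm u a' b' h' ha' hb' comm' u' hu'.symm]
    exact hd
  · intro hd
    exact ⟨U, V, a, b, h, u, ha, hb, comm, rfl, hd⟩

/-- **Relative dimension along a cartesian morphism of thickenings.** -/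
theorem hasAtMor_fibreDim_iff_of_thick_cartesian {X X' Y Y' : AlgSp.Sp S}
    (hX' : IsAlgSpace X') (hY' : IsAlgSpace Y') (i : X ⟶ X') (j : Y ⟶ Y')
    (f : X ⟶ Y) (f' : X' ⟶ Y') (hi : IsThickMor i) (hj : IsThickMor j)
    (hcart : IsPullback i f f' j) (hlft : LocP @LocallyOfFiniteType f') (d : WithBot ℕ∞) :
    (∀ x, HasAtMor (fun _ _ h u => FlatMor.fibreDimAt h u = d) f x) ↔
      (∀ x', HasAtMor (fun _ _ h u => FlatMor.fibreDimAt h u = d) f' x') := by
  have key : ∀ {U' V' : Over S} (a' : (yon S).obj U' ⟶ X') (b' : (yon S).obj V' ⟶ Y')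
      (h' : U' ⟶ V') (ha' : RepWith @Etale a') (hb' : RepWith @Etale b')
      (comm' : a' ≫ f' = (yon S).map h' ≫ b') (u' : U'.left),
      ∃ x : Points X, Points.map i x = Points.ofPt a' u' ∧
        (HasAtMor (fun _ _ h u => FlatMor.fibreDimAt h u = d) f x ↔
          FlatMor.fibreDimAt h'.left u' = d) := by
    intro U' V' a' b' h' ha' hb' comm' u'
    obtain ⟨U, V, pU, pV, kU, kV, h, hpU, hpV, comm, hkU, hkV, sqa, -, sq⟩ :=
      Groth.Agent.Lib.Helper78.AlgSpThickChart.exists_thick_chart i j f f' hi hj hcart a' b' h'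
        ha' hb' comm'
    haveI : LocallyOfFiniteType h'.left := hlft a' b' h' ha' hb' comm'
    haveI : Surjective kU.left := hkU.2
    obtain ⟨u, rfl⟩ := kU.left.surjective u'
    have hT : FlatMor.fibreDimAt h.left u = FlatMor.fibreDimAt h'.left (kU.left u) :=
      (Groth.Agent.S9358.result h'.left kV.left kU.left h.left sq 0).1 u
    refine ⟨Points.ofPt pU u, ?_, ?_⟩
    · rw [Points.map_ofPt, sqa.w, ofPt_yon_map_comp]
    · rw [hasAtMor_fibreDim_iff_of_chart f d pU pV h hpU hpV comm u, hT]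
  constructor
  · intro H x'
    obtain ⟨U', V', a', b', h', u', ha', hb', comm', rfl⟩ := exists_chart_at f' hX' hY' x'
    obtain ⟨x, -, hx⟩ := key a' b' h' ha' hb' comm' u'
    exact ⟨U', V', a', b', h', u', ha', hb', comm', rfl, hx.1 (H x)⟩
  · intro H x
    obtain ⟨U', V', a', b', h', u', ha', hb', comm', hu', hd⟩ := H (Points.map i x)
    obtain ⟨x₁, hx₁, hx⟩ := key a' b' h' ha' hb' comm' u'
    have : x₁ = x := Groth.Agent.Lib.Helper78.AlgSpThick.injective_map_of_isThickMor hi
      (hx₁.trans hu')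
    rw [← this]
    exact hx.2 hd

end Groth.Agent.Lib.Helper31.AlgSpFlatAt
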