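import Mathlib
import Groth.Agent.Lib.Helper31.AlgSpFibreDim
import Groth.Agent.Lib.Helper98.AlgSpFibreDimLocal
import Groth.Agent.Lib.Helper21.FieldDimStalk
import Groth.Agent.Lib.Helper21.FibreTd
import Groth.Agent.Lib.Helper51.SchemeResTrdeg

/-!
# Residue transcendence degree as an etale-local pointwise invariant; fibre dimension formula
(helper31)
-/

set_option autoImplicit false
universe u

namespace Groth.Agent.Lib.Helper31.AlgSpFlatAt

open CategoryTheory CategoryTheory.Limits AlgebraicGeometry AlgSp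
open Groth.Agent.Lib.Helper98.AlgSpPtLocal Groth.Agent.Lib.Helper51.ResTrdeg
  Groth.Agent.Lib.Helper21.FieldDim

/-- Any predicate on the residue transcendence degree is etale local on source and target. -/
theorem etLocalPt_resTrdeg (P : Cardinal.{u} → Prop) :
    EtLocalPt.{u} (fun _ _ h u => P (Dual3.resTrdeg h u)) where
  precomp := by
    intro A B C e h _ a hq
    show P (Dual3.resTrdeg (e ≫ h) a)
    rw [resTrdeg_etale_comp]; exact hq
  postcomp := by
    intro A B C h e _ a hq
    show P (Dual3.resTrdeg (h ≫ e) a)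
    rw [resTrdeg_comp_etale]; exact hq
  descend := by
    intro A B C e h _ a hq
    have hq' : P (Dual3.resTrdeg (e ≫ h) a) := hq
    rw [resTrdeg_etale_comp] at hq'; exact hq'
  cancel := by
    intro A B C g e _ a hq
    have hq' : P (Dual3.resTrdeg (g ≫ e) a) := hq
    rw [resTrdeg_comp_etale] at hq'; exact hq'

/-- Scheme level: `dim_x X_{f x} = dim O_{X_{f x}, x} + trdeg κ(x)/κ(f x)`. -/
theorem fibreDimAt_eq_stalk_add_resTrdeg {U V : Scheme.{u}} (h : U ⟶ V) [LocallyOfFiniteType h]
    (u : U) :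
    FlatMor.fibreDimAt h u =
      ringKrullDim ↥((h.fiber (h u)).presheaf.stalk (h.asFiber u)) +
        ((Cardinal.toENat (Dual3.resTrdeg h u) : ℕ∞) : WithBot ℕ∞) := by
  have h1 : FlatMor.fibreDimAt h u = FlatMor.localDim (h.fiber (h u)) (h.asFiber u) := rfl
  rw [h1, localDim_eq_stalk_add_td (fibStr h (h u)) (h.asFiber u), td_fibStr,
    Scheme.Hom.fiberι_asFiber]
  have h2 : Dual3.resTrdeg h u = (tdR h u : Cardinal.{u}) := trdegAt_eq_tdR h u
  rw [h2, Cardinal.toENat_nat]
  rfl

end Groth.Agent.Lib.Helper31.AlgSpFlatAt
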