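import Mathlib
import Groth.Agent.Lib.Helper98.AlgSpPtLocal
import Groth.Agent.Lib.Helper31.AlgSpResTrdegPt

/-!
# Base change of a good chart (helper31)

`exists_baseChange_chart`: for a good chart `G` of `X ⟶ Y ⟶ Z` and a base change `Z' ⟶ Z`, compatible
etale surjective charts of `X' ⟶ Y'` which are scheme-level base changes of `G.k`.
-/

set_option autoImplicit false
universe u

namespace Groth.Agent.Lib.Helper31.AlgSpFlatAt

open CategoryTheory CategoryTheory.Limits AlgebraicGeometry AlgSp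
open Groth.Agent.Lib.Helper52 Groth.Agent.Lib.Helper51

variable {S : Scheme.{u}} {X Y Z X' Y' Z' : AlgSp.Sp S}

/-- **Base change of a good chart.** -/
theorem exists_baseChange_chart {f : X ⟶ Y} {h : Y ⟶ Z} (G : GoodChart f h)
    (hZ' : IsAlgSpace Z')
    (g : Z' ⟶ Z) (f' : X' ⟶ Y') (h' : Y' ⟶ Z') (pX : X' ⟶ X) (pY : Y' ⟶ Y)
    (sqY : IsPullback pY h' h g) (sqX : IsPullback pX f' f pY) :
    ∃ (U'' V'' : Over S) (a'' : (yon S).obj U'' ⟶ X') (b'' : (yon S).obj V'' ⟶ Y')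
      (k'' : U'' ⟶ V'') (mU : U'' ⟶ G.U) (mV : V'' ⟶ G.V),
      RepWith @Etale a'' ∧ RepWith @Surjective a'' ∧ RepWith @Etale b'' ∧
      RepWith @Surjective b'' ∧ a'' ≫ f' = (yon S).map k'' ≫ b'' ∧
      a'' ≫ pX = (yon S).map mU ≫ G.a ∧ b'' ≫ pY = (yon S).map mV ≫ G.b ∧
      IsPullback mU.left k''.left G.k.left mV.left := by
  obtain ⟨W'₁, c'₁, hc'₁, hc'₁s⟩ := hZ'.atlas
  -- the chart `W''` of `Z'`
  have sqW := G.hc.rep.isPullback' (c'₁ ≫ g)
  set W'' : Over S := G.hc.rep.pullback (c'₁ ≫ g) with hW''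
  set m : W'' ⟶ G.W := G.hc.rep.fst' (c'₁ ≫ g) with hm
  set r₁ : W'' ⟶ W'₁ := G.hc.rep.snd (c'₁ ≫ g) with hr₁
  have hr₁e : Etale r₁.left := G.hc.property _ _ _ sqW
  have hr₁s : Surjective r₁.left := G.hcs.property _ _ _ sqW
  obtain ⟨c'', hc''def⟩ : ∃ c'' : (yon S).obj W'' ⟶ Z', c'' = (yon S).map r₁ ≫ c'₁ := ⟨_, rfl⟩
  have hc''e : RepWith @Etale c'' := by
    rw [hc''def]
    exact (RepWith (S := S) @Etale).comp_mem _ _ ((repWith_yon_map_iff _ _).2 hr₁e) hc'₁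
  have hc''s : RepWith @Surjective c'' := by
    rw [hc''def]
    exact (RepWith (S := S) @Surjective).comp_mem _ _ ((repWith_yon_map_iff _ _).2 hr₁s) hc'₁s
  have hcomm : (yon S).map m ≫ G.c = c'' ≫ g := by
    rw [hc''def, Category.assoc]; exact sqW.w
  -- the charts `V''`, `U''`
  obtain ⟨V'', mV, l'', sqVo, sqVs⟩ := Groth.Agent.Lib.Helper30.isPullback_over' G.l m
  obtain ⟨U'', mU, k'', sqUo, sqUs⟩ := Groth.Agent.Lib.Helper30.isPullback_over' G.k mV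
  have sqVy := sqVo.map (yon S)
  have sqUy := sqUo.map (yon S)
  -- the chart map of `Y'`
  have bigV : IsPullback ((yon S).map mV ≫ (yon S).map G.nV) ((yon S).map l'') (G.b₁ ≫ h)
      (c'' ≫ g) := by
    have := sqVy.paste_horiz G.sqV
    rwa [hcomm] at this
  have wV : ((yon S).map mV ≫ G.b) ≫ h = ((yon S).map l'' ≫ c'') ≫ g := by
    rw [Category.assoc, G.comm_h, ← Category.assoc, sqVy.w, Category.assoc, hcomm, Category.assoc]
  obtain ⟨b'', hb''1, hb''2⟩ : ∃ b'' : (yon S).obj V'' ⟶ Y', b'' ≫ pY = (yon S).map mV ≫ G.b ∧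
      b'' ≫ h' = (yon S).map l'' ≫ c'' :=
    ⟨sqY.lift _ _ wV, sqY.lift_fst _ _ _, sqY.lift_snd _ _ _⟩
  have hb''1' : b'' ≫ pY = ((yon S).map mV ≫ (yon S).map G.nV) ≫ G.b₁ := by
    rw [hb''1, Category.assoc]
  have hb''e : RepWith @Etale b'' :=
    repWith_lift_of_big @Etale sqY G.b₁ c'' G.hb₁ hc''e _ _ bigV b'' hb''1' hb''2
  have hb''s : RepWith @Surjective b'' :=
    repWith_lift_of_big @Surjective sqY G.b₁ c'' G.hb₁s hc''s _ _ bigV b'' hb''1' hb''2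
  -- the chart map of `X'`
  have bigU : IsPullback ((yon S).map mU ≫ (yon S).map G.nU) ((yon S).map k'') (G.a₁ ≫ f)
      (b'' ≫ pY) := by
    have := sqUy.paste_horiz G.sqU
    rwa [← hb''1] at this
  have wU : ((yon S).map mU ≫ G.a) ≫ f = ((yon S).map k'' ≫ b'') ≫ pY := by
    rw [Category.assoc, G.comm_f, ← Category.assoc, sqUy.w, Category.assoc, Category.assoc, hb''1]
  obtain ⟨a'', ha''1, ha''2⟩ : ∃ a'' : (yon S).obj U'' ⟶ X', a'' ≫ pX = (yon S).map mU ≫ G.a ∧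
      a'' ≫ f' = (yon S).map k'' ≫ b'' :=
    ⟨sqX.lift _ _ wU, sqX.lift_fst _ _ _, sqX.lift_snd _ _ _⟩
  have ha''1' : a'' ≫ pX = ((yon S).map mU ≫ (yon S).map G.nU) ≫ G.a₁ := by
    rw [ha''1, Category.assoc]
  have ha''e : RepWith @Etale a'' :=
    repWith_lift_of_big @Etale sqX G.a₁ b'' G.ha₁ hb''e _ _ bigU a'' ha''1' ha''2
  have ha''s : RepWith @Surjective a'' :=
    repWith_lift_of_big @Surjective sqX G.a₁ b'' G.ha₁s hb''s _ _ bigU a'' ha''1' ha''2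
  exact ⟨U'', V'', a'', b'', k'', mU, mV, ha''e, ha''s, hb''e, hb''s, ha''2, ha''1, hb''1, sqUs⟩

end Groth.Agent.Lib.Helper31.AlgSpFlatAt
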