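import Mathlib
import Groth.Agent.Lib.Helper31.AlgSpFlatPt
import Groth.Agent.Lib.Helper51.AlgSpPull
import Groth.Agent.Lib.Helper7.Deform

/-!
# Three-level thick charts and flat deformation along finite order thickenings (helper31)
-/

set_option autoImplicit false
universe u

namespace Groth.Agent.Lib.Helper31.AlgSpFlatAt

open CategoryTheory CategoryTheory.Limits AlgebraicGeometry AlgSp
open Groth.Agent.Lib.Helper52 Groth.Agent.Lib.Helper51

variable {S : Scheme.{u}}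

/-- Pull back a chart diagram of `X' ⟶ Y' ⟶ B'` along a thickening `B ⟶ B'` (with `Y = Y' ×_{B'} B`,
`X = X' ×_{B'} B`). -/
theorem exists_thick_chart3 {X X' Y Y' B B' : Sp S} (iX : X ⟶ X') (iY : Y ⟶ Y') (iB : B ⟶ B')
    (f : X ⟶ Y) (f' : X' ⟶ Y') (g : Y ⟶ B) (g' : Y' ⟶ B') (hB : IsThickMor iB)
    (hcX : IsPullback iX (f ≫ g) (f' ≫ g') iB) (hcY : IsPullback iY g g' iB)
    (w : iX ≫ f' = f ≫ iY)
    {U' V' W' : Over S} (a' : (yon S).obj U' ⟶ X') (b' : (yon S).obj V' ⟶ Y')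
    (c' : (yon S).obj W' ⟶ B') (k' : U' ⟶ V') (l' : V' ⟶ W')
    (ha' : RepWith @Etale a') (hb' : RepWith @Etale b') (hc' : RepWith @Etale c')
    (comm_f : a' ≫ f' = (yon S).map k' ≫ b') (comm_g : b' ≫ g' = (yon S).map l' ≫ c') :
    ∃ (U V W : Over S) (pU : (yon S).obj U ⟶ X) (pV : (yon S).obj V ⟶ Y)
      (pW : (yon S).obj W ⟶ B) (kU : U ⟶ U') (kV : V ⟶ V') (kW : W ⟶ W') (k : U ⟶ V) (l : V ⟶ W),
      RepWith @Etale pU ∧ RepWith @Etale pV ∧ RepWith @Etale pW ∧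
      pU ≫ f = (yon S).map k ≫ pV ∧ pV ≫ g = (yon S).map l ≫ pW ∧
      thick kW.left ∧ thick kU.left ∧ IsPullback pW ((yon S).map kW) iB c' ∧
      IsPullback kV.left l.left l'.left kW.left ∧
      IsPullback kU.left (k.left ≫ l.left) (k'.left ≫ l'.left) kW.left ∧
      kU.left ≫ k'.left = k.left ≫ kV.left ∧ pU ≫ iX = (yon S).map kU ≫ a' := by
  have hiY : IsThickMor iY :=
    MorphismProperty.of_isPullback (P := RepWith (S := S) thick) hcY.flip hB
  have hiX : IsThickMor iX :=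
    MorphismProperty.of_isPullback (P := RepWith (S := S) thick) hcX.flip hB
  have sqU := hiX.1.isPullback a'
  have sqV := hiY.1.isPullback b'
  have sqW := hB.1.isPullback c'
  have hkU : thick (hiX.1.snd a').left := hiX.2 a' _ _ sqU
  have hkW : thick (hB.1.snd c').left := hB.2 c' _ _ sqW
  have hpU : RepWith @Etale (hiX.1.fst a') := MorphismProperty.of_isPullback sqU.flip ha'
  have hpV : RepWith @Etale (hiY.1.fst b') := MorphismProperty.of_isPullback sqV.flip hb'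
  have hpW : RepWith @Etale (hB.1.fst c') := MorphismProperty.of_isPullback sqW.flip hc'
  -- the map `k`
  have hwk : (hiX.1.fst a' ≫ f) ≫ iY = ((yon S).map (hiX.1.snd a') ≫ (yon S).map k') ≫ b' := by
    rw [Category.assoc, ← w, ← Category.assoc, sqU.w, Category.assoc, comm_f, Category.assoc]
  obtain ⟨k, hk⟩ := (yon S).map_surjective (sqV.lift _ _ hwk)
  have hk1 : (yon S).map k ≫ hiY.1.fst b' = hiX.1.fst a' ≫ f := by rw [hk, sqV.lift_fst]
  have hk2 : (yon S).map k ≫ (yon S).map (hiY.1.snd b') =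
      (yon S).map (hiX.1.snd a') ≫ (yon S).map k' := by rw [hk, sqV.lift_snd]
  -- the map `l`
  have hwl : (hiY.1.fst b' ≫ g) ≫ iB = ((yon S).map (hiY.1.snd b') ≫ (yon S).map l') ≫ c' := by
    rw [Category.assoc, ← hcY.w, ← Category.assoc, sqV.w, Category.assoc, comm_g, Category.assoc]
  obtain ⟨l, hl⟩ := (yon S).map_surjective (sqW.lift _ _ hwl)
  have hl1 : (yon S).map l ≫ hB.1.fst c' = hiY.1.fst b' ≫ g := by rw [hl, sqW.lift_fst]
  have hl2 : (yon S).map l ≫ (yon S).map (hB.1.snd c') =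
      (yon S).map (hiY.1.snd b') ≫ (yon S).map l' := by rw [hl, sqW.lift_snd]
  refine ⟨_, _, _, hiX.1.fst a', hiY.1.fst b', hB.1.fst c', hiX.1.snd a', hiY.1.snd b',
    hB.1.snd c', k, l, hpU, hpV, hpW, hk1.symm, hl1.symm, hkW, hkU, sqW, ?_, ?_, ?_, sqU.w⟩
  · apply isPullback_left_of_yon
    have big : IsPullback ((yon S).map (hiY.1.snd b')) (hiY.1.fst b' ≫ g) (b' ≫ g') iB :=
      sqV.flip.paste_vert hcY
    rw [comm_g, ← hl1] at big
    exact IsPullback.of_bot big hl2.symm sqW.flip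
  · have e : (k ≫ l).left = k.left ≫ l.left := rfl
    have e' : (k' ≫ l').left = k'.left ≫ l'.left := rfl
    rw [← e, ← e']
    apply isPullback_left_of_yon
    have big : IsPullback ((yon S).map (hiX.1.snd a')) (hiX.1.fst a' ≫ f ≫ g) (a' ≫ f' ≫ g') iB :=
      sqU.flip.paste_vert hcX
    have e1 : a' ≫ f' ≫ g' = (yon S).map (k' ≫ l') ≫ c' := by
      rw [← Category.assoc, comm_f, Category.assoc, comm_g, Functor.map_comp, Category.assoc]
    have e2 : hiX.1.fst a' ≫ f ≫ g = (yon S).map (k ≫ l) ≫ hB.1.fst c' := by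
      rw [← Category.assoc, ← hk1, Category.assoc, ← hl1, Functor.map_comp, Category.assoc]
    rw [e1, e2] at big
    refine IsPullback.of_bot big ?_ sqW.flip
    rw [Functor.map_comp, Functor.map_comp]
    calc (yon S).map (hiX.1.snd a') ≫ (yon S).map k' ≫ (yon S).map l'
        = ((yon S).map (hiX.1.snd a') ≫ (yon S).map k') ≫ (yon S).map l' :=
          (Category.assoc _ _ _).symm
      _ = ((yon S).map k ≫ (yon S).map (hiY.1.snd b')) ≫ (yon S).map l' := by rw [hk2]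
      _ = (yon S).map k ≫ ((yon S).map (hiY.1.snd b') ≫ (yon S).map l') := Category.assoc _ _ _
      _ = (yon S).map k ≫ ((yon S).map l ≫ (yon S).map (hB.1.snd c')) := by rw [hl2]
      _ = ((yon S).map k ≫ (yon S).map l) ≫ (yon S).map (hB.1.snd c') :=
          (Category.assoc _ _ _).symm
  · have := congrArg (fun φ => φ.left) ((yon S).map_injective (by
      rw [Functor.map_comp, Functor.map_comp]; exact hk2.symm) :
      hiX.1.snd a' ≫ k' = k ≫ hiY.1.snd b')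
    exact this

variable {X Y Z : AlgSp.Sp S}

/-- Around any point of the chart `G.U`, a chart diagram of `X ⟶ Y ⟶ Z` whose `Z`-chart is affine. -/
theorem exists_affine_chart {f : X ⟶ Y} {h : Y ⟶ Z} (G : GoodChart f h) (u : G.U.left) :
    ∃ (U₀ V₀ W₀ : Over S) (a₀ : (yon S).obj U₀ ⟶ X) (b₀ : (yon S).obj V₀ ⟶ Y)
      (c₀ : (yon S).obj W₀ ⟶ Z) (k₀ : U₀ ⟶ V₀) (l₀ : V₀ ⟶ W₀) (u₀ : U₀.left),
      IsAffine W₀.left ∧ RepWith @Etale a₀ ∧ RepWith @Etale b₀ ∧ RepWith @Etale c₀ ∧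
      a₀ ≫ f = (yon S).map k₀ ≫ b₀ ∧ b₀ ≫ h = (yon S).map l₀ ≫ c₀ ∧
      Points.ofPt a₀ u₀ = Points.ofPt G.a u := by
  obtain ⟨W₀', hW₀', hw⟩ : ∃ W₀' : G.W.left.Opens, IsAffineOpen W₀' ∧
      G.l.left (G.k.left u) ∈ W₀' := by
    obtain ⟨W₀', hW₀', hw, -⟩ := TopologicalSpace.Opens.isBasis_iff_nbhd.mp
      G.W.left.isBasis_affineOpens (TopologicalSpace.Opens.mem_top (G.l.left (G.k.left u)))
    exact ⟨W₀', hW₀', hw⟩
  set V₀' : G.V.left.Opens := G.l.left ⁻¹ᵁ W₀' with hV₀'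
  set U₀' : G.U.left.Opens := G.k.left ⁻¹ᵁ V₀' with hU₀'
  let W₀ : Over S := Over.mk (W₀'.ι ≫ G.W.hom)
  let V₀ : Over S := Over.mk (V₀'.ι ≫ G.V.hom)
  let U₀ : Over S := Over.mk (U₀'.ι ≫ G.U.hom)
  let ιW : W₀ ⟶ G.W := Over.homMk W₀'.ι rfl
  let ιV : V₀ ⟶ G.V := Over.homMk V₀'.ι rfl
  let ιU : U₀ ⟶ G.U := Over.homMk U₀'.ι rfl
  have hl₀ : (G.l.left ∣_ W₀') ≫ W₀.hom = V₀.hom := by
    change (G.l.left ∣_ W₀') ≫ W₀'.ι ≫ G.W.hom = V₀'.ι ≫ G.V.hom
    rw [← Category.assoc, morphismRestrict_ι, Category.assoc, Over.w G.l]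
  have hk₀ : (G.k.left ∣_ V₀') ≫ V₀.hom = U₀.hom := by
    change (G.k.left ∣_ V₀') ≫ V₀'.ι ≫ G.V.hom = U₀'.ι ≫ G.U.hom
    rw [← Category.assoc, morphismRestrict_ι, Category.assoc, Over.w G.k]
  let l₀ : V₀ ⟶ W₀ := Over.homMk (G.l.left ∣_ W₀') hl₀
  let k₀ : U₀ ⟶ V₀ := Over.homMk (G.k.left ∣_ V₀') hk₀
  have el : l₀ ≫ ιW = ιV ≫ G.l := by
    apply Over.OverMorphism.ext
    exact morphismRestrict_ι G.l.left W₀'
  have ek : k₀ ≫ ιV = ιU ≫ G.k := by
    apply Over.OverMorphism.ext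
    exact morphismRestrict_ι G.k.left V₀'
  have hιW : RepWith @Etale ((yon S).map ιW) :=
    (repWith_yon_map_iff _ _).2 (inferInstanceAs (Etale W₀'.ι))
  have hιV : RepWith @Etale ((yon S).map ιV) :=
    (repWith_yon_map_iff _ _).2 (inferInstanceAs (Etale V₀'.ι))
  have hιU : RepWith @Etale ((yon S).map ιU) :=
    (repWith_yon_map_iff _ _).2 (inferInstanceAs (Etale U₀'.ι))
  have hu : u ∈ U₀' := hw
  refine ⟨U₀, V₀, W₀, (yon S).map ιU ≫ G.a, (yon S).map ιV ≫ G.b, (yon S).map ιW ≫ G.c, k₀, l₀,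
    ⟨u, hu⟩, hW₀', (RepWith (S := S) @Etale).comp_mem _ _ hιU G.ha,
    (RepWith (S := S) @Etale).comp_mem _ _ hιV G.hb,
    (RepWith (S := S) @Etale).comp_mem _ _ hιW G.hc, ?_, ?_, ?_⟩
  · calc ((yon S).map ιU ≫ G.a) ≫ f = (yon S).map ιU ≫ G.a ≫ f := Category.assoc _ _ _
      _ = (yon S).map ιU ≫ (yon S).map G.k ≫ G.b := by rw [G.comm_f]
      _ = (yon S).map (ιU ≫ G.k) ≫ G.b := by rw [Functor.map_comp, Category.assoc]
      _ = (yon S).map (k₀ ≫ ιV) ≫ G.b := by rw [ek]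
      _ = (yon S).map k₀ ≫ (yon S).map ιV ≫ G.b := by rw [Functor.map_comp, Category.assoc]
  · calc ((yon S).map ιV ≫ G.b) ≫ h = (yon S).map ιV ≫ G.b ≫ h := Category.assoc _ _ _
      _ = (yon S).map ιV ≫ (yon S).map G.l ≫ G.c := by rw [G.comm_h]
      _ = (yon S).map (ιV ≫ G.l) ≫ G.c := by rw [Functor.map_comp, Category.assoc]
      _ = (yon S).map (l₀ ≫ ιW) ≫ G.c := by rw [el]
      _ = (yon S).map l₀ ≫ (yon S).map ιW ≫ G.c := by rw [Functor.map_comp, Category.assoc]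
  · exact ofPt_yon_map_comp ιU G.a ⟨u, hu⟩

/-- **Flat deformation along a finite order thickening**: if `X'` is flat over `B'`, `B ⟶ B'` is a
finite order thickening and the base change `f` of `f'` to `B` is flat, then `f'` is flat, and `g'` is
flat at the points of the image of `f'`. -/
theorem locP_flat_of_finThick {X X' Y Y' B B' : Sp S} (iX : X ⟶ X') (iY : Y ⟶ Y')
    (iB : B ⟶ B') (f : X ⟶ Y) (f' : X' ⟶ Y') (g : Y ⟶ B) (g' : Y' ⟶ B')
    (hX' : IsAlgSpace X') (hY' : IsAlgSpace Y') (hB' : IsAlgSpace B')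
    (hcX : IsPullback iX (f ≫ g) (f' ≫ g') iB) (hcY : IsPullback iY g g' iB)
    (w : iX ≫ f' = f ≫ iY) (hB : IsFinThickMor iB)
    (hflat : LocP @Flat (f' ≫ g')) (hf : LocP @Flat f) :
    LocP @Flat f' ∧ ∀ x' : Points X', IsFlatAtMor g' (Points.map f' x') := by
  obtain ⟨n, hBt, hBn⟩ := hB
  obtain ⟨G⟩ := exists_goodChart f' g' hX' hY' hB'
  have hpt : ∀ x' : Points X', IsFlatAtMor f' x' := by
    intro x'
    obtain ⟨u, rfl⟩ := surjective_ofPt_of_repWith_surjective G.a G.has x'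
    obtain ⟨U₀, V₀, W₀, a₀, b₀, c₀, k₀, l₀, u₀, hW₀, ha₀, hb₀, hc₀, comm_f, comm_g, hu₀⟩ :=
      exists_affine_chart G u
    obtain ⟨U, V, W, pU, pV, pW, kU, kV, kW, k, l, hpU, hpV, hpW, ck, cl, hkW, hkU, sqW, sqVs,
      sqUs, wk, -⟩ := exists_thick_chart3 iX iY iB f f' g g' hBt hcX hcY w a₀ b₀ c₀ k₀ l₀ ha₀ hb₀
        hc₀ comm_f comm_g
    have hpow : powZero n kW.left := hBn c₀ pW kW hW₀ hc₀ sqW
    haveI : IsClosedImmersion kW.left := hkW.1
    have hnil : IsNilpotent kW.left.ker := ⟨n + 1, hpow⟩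
    have comm_fg : a₀ ≫ f' ≫ g' = (yon S).map (k₀ ≫ l₀) ≫ c₀ := by
      rw [← Category.assoc, comm_f, Category.assoc, comm_g, Functor.map_comp, Category.assoc]
    haveI : Flat (k₀.left ≫ l₀.left) := hflat a₀ c₀ (k₀ ≫ l₀) ha₀ hc₀ comm_fg
    have hk : Flat k.left := hf pU pV k hpU hpV ck
    haveI : Flat k₀.left := Groth.Agent.Lib.Helper7.Deform.flat_of_flat sqUs sqVs wk hnil hk
    rw [← hu₀, isFlatAtMor_iff_of_chart f' a₀ b₀ k₀ ha₀ hb₀ comm_f u₀]
    exact Flat.stalkMap _ _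
  exact ⟨(locP_flat_iff_forall_isFlatAtMor f').2 hpt,
    fun x' => isFlatAtMor_map_of_isFlatAtMor G hflat x' (hpt x')⟩

end Groth.Agent.Lib.Helper31.AlgSpFlatAt
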