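import Mathlib
import Groth.Agent.Lib.Helper31.AlgSpThick3
import Groth.Agent.Lib.Helper78.AlgSpLocP2

/-!
# `LocP P` from charts through every point (helper31)
-/

set_option autoImplicit false
universe u

namespace Groth.Agent.Lib.Helper31.AlgSpFlatAt

open CategoryTheory CategoryTheory.Limits AlgebraicGeometry AlgSp
open Groth.Agent.Lib.Helper52 Groth.Agent.Lib.Helper51 Groth.Agent.Lib.Helper78.AlgSpLocP

variable {S : Scheme.{u}}

/-- If `P` is etale local on the source-and-target and Zariski local at the source, and every point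
of `X` lies in the image of some chart diagram of `f : X ⟶ Y` whose top arrow has `P`, then
`LocP P f`. -/
theorem locP_of_pointwise_charts {P : MorphismProperty Scheme.{u}} (hP : EtLocalST P)
    [IsZariskiLocalAtSource P] {X Y : Sp S} (f : X ⟶ Y)
    (H : ∀ x : Points X, ∃ (U V : Over S) (a : (yon S).obj U ⟶ X) (b : (yon S).obj V ⟶ Y)
      (h : U ⟶ V), RepWith @Etale a ∧ RepWith @Etale b ∧ a ≫ f = (yon S).map h ≫ b ∧
      x ∈ Set.range (Points.ofPt a) ∧ P h.left) : LocP P f := by
  intro U' V' a' b' h' ha' hb' comm'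
  choose U V a b h ha hb comm hx hh using H
  -- the open cover of `U'`
  let O : U'.left → U'.left.Opens := fun t =>
    ⟨Points.ofPt a' ⁻¹' Set.range (Points.ofPt (a (Points.ofPt a' t))),
      ((isOpenMap_ofPt_of_etale _ (ha _)).isOpen_range).preimage (Points.continuous_ofPt a')⟩
  have hO : iSup O = ⊤ := by
    rw [eq_top_iff]
    intro t _
    exact TopologicalSpace.Opens.mem_iSup.2 ⟨t, hx (Points.ofPt a' t)⟩
  refine IsZariskiLocalAtSource.of_iSup_eq_top O hO fun t => ?_
  let U't : Over S := Over.mk ((O t).ι ≫ U'.hom)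
  let ιt : U't ⟶ U' := Over.homMk (O t).ι rfl
  have hιt : RepWith @Etale ((yon S).map ιt) :=
    (repWith_yon_map_iff _ _).2 (inferInstanceAs (Etale (O t).ι))
  have key := transfer' hP f (a (Points.ofPt a' t)) (b _) (h _) (ha _) (hb _) (comm _) (hh _)
    ((yon S).map ιt ≫ a') b' (ιt ≫ h') ((RepWith (S := S) @Etale).comp_mem _ _ hιt ha') hb'
    (by rw [Category.assoc, comm', Functor.map_comp, Category.assoc])
    (by
      intro t''
      rw [ofPt_yon_map_comp]
      obtain ⟨u, hu⟩ : Points.ofPt a' (ιt.left t'') ∈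
          Set.range (Points.ofPt (a (Points.ofPt a' t))) := t''.2
      exact ⟨Points.ofScheme _ u, by rw [← Points.ofPt_eq_map_ofScheme]; exact hu⟩)
  exact key

end Groth.Agent.Lib.Helper31.AlgSpFlatAt
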