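import Mathlib
import Groth.Agent.Lib.Helper31.AlgSpLocPPt
import Groth.Agent.Lib.Helper78.AlgSpLocP3

/-!
# Deformation of local properties of morphisms of algebraic spaces along finite order thickenings
(helper31)
-/

set_option autoImplicit false
universe u

namespace Groth.Agent.Lib.Helper31.AlgSpFlatAt

open CategoryTheory CategoryTheory.Limits AlgebraicGeometry AlgSp
open Groth.Agent.Lib.Helper52 Groth.Agent.Lib.Helper51 Groth.Agent.Lib.Helper78.AlgSpLocP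

/-- Scheme level: `P` lifts along deformations over a finite order thickening. -/
def DeformLift (P : MorphismProperty Scheme.{u}) : Prop :=
  ∀ {X X' Y Y' T T' : Scheme.{u}} (iX : X ⟶ X') (iY : Y ⟶ Y') (iT : T ⟶ T') (f : X ⟶ Y)
    (f' : X' ⟶ Y') (g : Y ⟶ T) (g' : Y' ⟶ T'),
    IsPullback iX (f ≫ g) (f' ≫ g') iT → IsPullback iY g g' iT → iX ≫ f' = f ≫ iY → thick iT →
    IsNilpotent iT.ker → Flat (f' ≫ g') → P f → P f'

variable {S : Scheme.{u}}

/-- **Deformation of `LocP P` along a finite order thickening.** -/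
theorem locP_of_finThick {P : MorphismProperty Scheme.{u}} (hP : EtLocalST P)
    [IsZariskiLocalAtSource P] (hlift : DeformLift P)
    {X X' Y Y' B B' : Sp S} (iX : X ⟶ X') (iY : Y ⟶ Y')
    (iB : B ⟶ B') (f : X ⟶ Y) (f' : X' ⟶ Y') (g : Y ⟶ B) (g' : Y' ⟶ B')
    (hX' : IsAlgSpace X') (hY' : IsAlgSpace Y') (hB' : IsAlgSpace B')
    (hcX : IsPullback iX (f ≫ g) (f' ≫ g') iB) (hcY : IsPullback iY g g' iB)
    (w : iX ≫ f' = f ≫ iY) (hB : IsFinThickMor iB)
    (hflat : LocP @Flat (f' ≫ g')) (hf : LocP P f) : LocP P f' := by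
  obtain ⟨n, hBt, hBn⟩ := hB
  obtain ⟨G⟩ := exists_goodChart f' g' hX' hY' hB'
  refine locP_of_pointwise_charts hP f' fun x' => ?_
  obtain ⟨u, rfl⟩ := surjective_ofPt_of_repWith_surjective G.a G.has x'
  obtain ⟨U₀, V₀, W₀, a₀, b₀, c₀, k₀, l₀, u₀, hW₀, ha₀, hb₀, hc₀, comm_f, comm_g, hu₀⟩ :=
    exists_affine_chart G u
  obtain ⟨U, V, W, pU, pV, pW, kU, kV, kW, k, l, hpU, hpV, hpW, ck, cl, hkW, hkU, sqW, sqVs,
    sqUs, wk, -⟩ := exists_thick_chart3 iX iY iB f f' g g' hBt hcX hcY w a₀ b₀ c₀ k₀ l₀ ha₀ hb₀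
      hc₀ comm_f comm_g
  have hpow : powZero n kW.left := hBn c₀ pW kW hW₀ hc₀ sqW
  have hnil : IsNilpotent kW.left.ker := ⟨n + 1, hpow⟩
  have comm_fg : a₀ ≫ f' ≫ g' = (yon S).map (k₀ ≫ l₀) ≫ c₀ := by
    rw [← Category.assoc, comm_f, Category.assoc, comm_g, Functor.map_comp, Category.assoc]
  have hfl : Flat (k₀.left ≫ l₀.left) := hflat a₀ c₀ (k₀ ≫ l₀) ha₀ hc₀ comm_fg
  have hk : P k.left := hf pU pV k hpU hpV ck
  exact ⟨U₀, V₀, a₀, b₀, k₀, ha₀, hb₀, comm_f, ⟨u₀, hu₀⟩,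
    hlift kU.left kV.left kW.left k.left k₀.left l.left l₀.left sqUs sqVs wk hkW hnil hfl hk⟩

/-- **Deformation of `LocP P` along a finite order thickening**, both directions. -/
theorem locP_iff_of_finThick {P : MorphismProperty Scheme.{u}} (hP : EtLocalST P)
    [IsZariskiLocalAtSource P] [P.IsStableUnderBaseChange] (hlift : DeformLift P)
    {X X' Y Y' B B' : Sp S} (iX : X ⟶ X') (iY : Y ⟶ Y')
    (iB : B ⟶ B') (f : X ⟶ Y) (f' : X' ⟶ Y') (g : Y ⟶ B) (g' : Y' ⟶ B')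
    (hX' : IsAlgSpace X') (hY' : IsAlgSpace Y') (hB' : IsAlgSpace B')
    (hcX : IsPullback iX (f ≫ g) (f' ≫ g') iB) (hcY : IsPullback iY g g' iB)
    (w : iX ≫ f' = f ≫ iY) (hB : IsFinThickMor iB)
    (hflat : LocP @Flat (f' ≫ g')) : LocP P f ↔ LocP P f' := by
  constructor
  · exact locP_of_finThick hP hlift iX iY iB f f' g g' hX' hY' hB' hcX hcY w hB hflat
  · intro hf'
    have sqX : IsPullback iX f f' iY := IsPullback.of_bot hcX w hcY
    exact Groth.Agent.Lib.Helper78.AlgSpLocP.locP_of_isPullback hP sqX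
      (Groth.Agent.Lib.Helper78.AlgSpFibre.repAll_of_isAlgSpace hY') hX'.atlas hY'.atlas hf'

end Groth.Agent.Lib.Helper31.AlgSpFlatAt
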