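import Mathlib
import Groth.Agent.Lib.Helper31.AlgSpDeform
import Groth.Agent.Lib.Helper31.AlgSpFibreDim
import Groth.Agent.Lib.Helper7.Deform
import Groth.Agent.Lib.Helper78.AlgSpThickLocP
import Groth.Agent.Lib.Helper78.AlgSpLocPFlat
import Groth.Agent.Lib.Helper78.AlgSpLocPLoft
import Groth.Agent.Lib.Helper78.AlgSpLocPLofp
import Groth.Agent.Lib.Helper78.AlgSpLocPSmooth
import Groth.Agent.Lib.Helper78.AlgSpMisc

/-!
# `DeformLift` for the standard properties (helper31)

Scheme-level deformation lemmas (from `Lib/Helper7/Deform`) packaged as `DeformLift P`.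
-/

set_option autoImplicit false
universe u

namespace Groth.Agent.Lib.Helper31.AlgSpFlatAt

open CategoryTheory CategoryTheory.Limits AlgebraicGeometry AlgSp
open Groth.Agent.Lib.Helper78.AlgSpLocP Groth.Agent.Lib.Helper7

theorem deformLift_flat : DeformLift (@Flat : MorphismProperty Scheme.{u}) := by
  intro X X' Y Y' T T' iX iY iT f f' g g' hcX hcY w hT hnil hfl hf
  have : IsClosedImmersion iT := hT.1
  have : Flat (f' ≫ g') := hfl
  exact Deform.flat_of_flat hcX hcY w hnil hf

theorem deformLift_lfp : DeformLift (@LocallyOfFinitePresentation : MorphismProperty Scheme.{u}) := by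
  intro X X' Y Y' T T' iX iY iT f f' g g' hcX hcY w hT hnil hfl hf
  have : IsClosedImmersion iT := hT.1
  have : Flat (f' ≫ g') := hfl
  exact Deform.locallyOfFinitePresentation_of_locallyOfFinitePresentation hcX hcY w hnil hf

theorem deformLift_smooth : DeformLift (@Smooth : MorphismProperty Scheme.{u}) := by
  intro X X' Y Y' T T' iX iY iT f f' g g' hcX hcY w hT hnil hfl hf
  have : IsClosedImmersion iT := hT.1
  have : Surjective iT := hT.2
  have : Flat (f' ≫ g') := hfl
  exact Deform.smooth_of_smooth hcX hcY w hnil hf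

theorem deformLift_etale : DeformLift (@Etale : MorphismProperty Scheme.{u}) := by
  intro X X' Y Y' T T' iX iY iT f f' g g' hcX hcY w hT hnil hfl hf
  have : IsClosedImmersion iT := hT.1
  have : Flat (f' ≫ g') := hfl
  exact Deform.etale_of_etale hcX hcY w hnil hf

theorem deformLift_lft : DeformLift (@LocallyOfFiniteType : MorphismProperty Scheme.{u}) := by
  intro X X' Y Y' T T' iX iY iT f f' g g' hcX hcY w hT hnil hfl hf
  have : IsClosedImmersion iT := hT.1
  have hiY : IsClosedImmersion iY := MorphismProperty.of_isPullback hcY.flip ‹_›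
  exact ThickBridge.locallyOfFiniteType_of_isPullback_of_isNilpotent
    (Deform.isPullback_left hcX hcY w) (ThickBridge.isNilpotent_ker_of_isPullback hcY hnil) hf

theorem deformLift_lqf : DeformLift
    ((@LocallyQuasiFinite : MorphismProperty Scheme.{u}) ⊓ @LocallyOfFiniteType) := by
  intro X X' Y Y' T T' iX iY iT f f' g g' hcX hcY w hT hnil hfl hf
  have hft' : LocallyOfFiniteType f' :=
    deformLift_lft iX iY iT f f' g g' hcX hcY w hT hnil hfl hf.2
  have hiY : thick iY := MorphismProperty.of_isPullback hcY.flip hT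
  have hiX : thick iX := MorphismProperty.of_isPullback hcX.flip hT
  exact Groth.Agent.Lib.Helper78.AlgSpThickLocP.lqf_lift iX iY f f' hiX hiY
    (Deform.isPullback_left hcX hcY w) hft' hf

theorem deformLift_unram : DeformLift
    ((@LocallyOfFiniteType : MorphismProperty Scheme.{u}) ⊓ @FormallyUnramified) := by
  intro X X' Y Y' T T' iX iY iT f f' g g' hcX hcY w hT hnil hfl hf
  have hft' : LocallyOfFiniteType f' :=
    deformLift_lft iX iY iT f f' g g' hcX hcY w hT hnil hfl hf.1
  have hiY : thick iY := MorphismProperty.of_isPullback hcY.flip hT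
  have hiX : thick iX := MorphismProperty.of_isPullback hcX.flip hT
  exact Groth.Agent.Lib.Helper78.AlgSpThickLocP.unram_lift iX iY f f' hiX hiY
    (Deform.isPullback_left hcX hcY w) hft' hf

end Groth.Agent.Lib.Helper31.AlgSpFlatAt
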