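import Mathlib
import Groth.Agent.Lib.Helper78.AlgSpLocP2
import Groth.Agent.Lib.Helper78.AlgSpLocPFlat
import Groth.Agent.Lib.Helper30.AlgSpMor
import Groth.Agent.Lib.Helper51.AlgSpPull
import Groth.Prelude.Def_MoreMor

/-!
# Fibrewise flatness for algebraic spaces: chart-level reduction (helper31)

Given morphisms `f : X ⟶ Y`, `h : Y ⟶ Z` of fppf sheaves whose fibres over field points of `Z`
are flat (`FibHyp f h`), and chart diagrams `U' ⟶ V' ⟶ W` obtained by base change of etale charts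
`h_U ⟶ X`, `h_V ⟶ Y` along an etale chart `h_W ⟶ Z`, the morphisms of scheme-theoretic fibres
`U'_w ⟶ V'_w` are flat.
-/

set_option autoImplicit false
universe u

namespace Groth.Agent.Lib.Helper31.AlgSpFibFlat

open CategoryTheory CategoryTheory.Limits AlgebraicGeometry AlgSp

variable {S : Scheme.{u}} {X Y Z : AlgSp.Sp S}

/-- The fibrewise flatness hypothesis of the milestone statements. -/
def FibHyp (f : X ⟶ Y) (h : Y ⟶ Z) : Prop :=
  ∀ (K : Type u) [Field K] (sK : Spec (CommRingCat.of K) ⟶ S)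
      (z : (AlgSp.yon S).obj (Over.mk sK) ⟶ Z) (Xz Yz : AlgSp.Sp S)
      (pX : Xz ⟶ X) (qX : Xz ⟶ (AlgSp.yon S).obj (Over.mk sK))
      (pY : Yz ⟶ Y) (qY : Yz ⟶ (AlgSp.yon S).obj (Over.mk sK)) (fz : Xz ⟶ Yz),
      IsPullback pX qX (f ≫ h) z → IsPullback pY qY h z → fz ≫ pY = pX ≫ f → fz ≫ qY = qX →
      AlgSp.LocP @Flat fz

section Fibre

variable {A W : Over S} (g : A ⟶ W) (w : W.left)

/-- The residue field point of `W` at `w`, over `S`. -/
noncomputable abbrev ptOver (W : Over S) (w : W.left) : Over S :=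
  Over.mk (W.left.fromSpecResidueField w ≫ W.hom)

/-- The inclusion of the point. -/
noncomputable abbrev ptι (W : Over S) (w : W.left) : ptOver W w ⟶ W :=
  Over.homMk (W.left.fromSpecResidueField w) rfl

/-- The scheme-theoretic fibre, over `S`. -/
noncomputable abbrev fibOver : Over S := Over.mk (g.left.fiberι w ≫ A.hom)

/-- The inclusion of the fibre. -/
noncomputable abbrev fibι : fibOver g w ⟶ A := Over.homMk (g.left.fiberι w) rfl

/-- The projection of the fibre to the point. -/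
noncomputable abbrev fibπ : fibOver g w ⟶ ptOver W w :=
  Over.homMk (g.left.fiberToSpecResidueField w) (by
    change g.left.fiberToSpecResidueField w ≫ W.left.fromSpecResidueField w ≫ W.hom =
      g.left.fiberι w ≫ A.hom
    rw [← Category.assoc, ← g.left.fiber_fac w, Category.assoc, Over.w g])

theorem isPullback_fib : IsPullback (fibι g w) (fibπ g w) g (ptι W w) :=
  IsPullback.of_map_of_faithful (Over.forget S)
    (IsPullback.of_hasPullback g.left (W.left.fromSpecResidueField w))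

end Fibre

/-- **Main lemma.**  Flatness of the maps of scheme-theoretic fibres in a chart diagram obtained by
base change along a chart of `Z`. -/
theorem flat_fiberMap_of_charts {f : X ⟶ Y} {h : Y ⟶ Z} (hfib : FibHyp f h)
    {U V W U' V' : Over S} (a : (yon S).obj U ⟶ X) (b : (yon S).obj V ⟶ Y)
    (c : (yon S).obj W ⟶ Z) (ha : RepWith @Etale a) (hb : RepWith @Etale b)
    (k : U ⟶ V) (comm : a ≫ f = (yon S).map k ≫ b)
    (p₁ : U' ⟶ U) (p₂ : U' ⟶ W) (q₁ : V' ⟶ V) (q₂ : V' ⟶ W) (k' : U' ⟶ V')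
    (sqU : IsPullback ((yon S).map p₁) ((yon S).map p₂) (a ≫ f ≫ h) c)
    (sqV : IsPullback ((yon S).map q₁) ((yon S).map q₂) (b ≫ h) c)
    (e₁ : k' ≫ q₁ = p₁ ≫ k) (e₂ : k' ≫ q₂ = p₂) (w : W.left) :
    Flat (MoreMor.fiberMap k'.left q₂.left w) := by
  -- notation
  set T : Over S := ptOver W w with hT
  set ιw : T ⟶ W := ptι W w with hιw
  set z : (yon S).obj T ⟶ Z := (yon S).map ιw ≫ c with hz
  set Uw : Over S := fibOver (k' ≫ q₂) w with hUw
  set iU : Uw ⟶ U' := fibι (k' ≫ q₂) w with hiU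
  set tU : Uw ⟶ T := fibπ (k' ≫ q₂) w with htU
  have sqFU : IsPullback iU tU (k' ≫ q₂) ιw := isPullback_fib (k' ≫ q₂) w
  set Vw : Over S := fibOver q₂ w with hVw
  set iV : Vw ⟶ V' := fibι q₂ w with hiV
  set tV : Vw ⟶ T := fibπ q₂ w with htV
  have sqFV : IsPullback iV tV q₂ ιw := isPullback_fib q₂ w
  -- the map of fibres over `S`
  have hκ1 : MoreMor.fiberMap k'.left q₂.left w ≫ q₂.left.fiberι w =
      (k'.left ≫ q₂.left).fiberι w ≫ k'.left := pullback.lift_fst _ _ _
  have hκ2 : MoreMor.fiberMap k'.left q₂.left w ≫ q₂.left.fiberToSpecResidueField w =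
      (k'.left ≫ q₂.left).fiberToSpecResidueField w := pullback.lift_snd _ _ _
  let κ : Uw ⟶ Vw := Over.homMk (MoreMor.fiberMap k'.left q₂.left w) (by
    change MoreMor.fiberMap k'.left q₂.left w ≫ q₂.left.fiberι w ≫ V'.hom =
      (k'.left ≫ q₂.left).fiberι w ≫ U'.hom
    rw [← Category.assoc, hκ1, Category.assoc, Over.w k'])
  have hκiV : κ ≫ iV = iU ≫ k' := by
    ext
    exact hκ1
  have hκtV : κ ≫ tV = tU := by
    ext
    exact hκ2
  -- the sheaf-theoretic fibres
  have hX : IsPullback (pullback.fst (f ≫ h) z) (pullback.snd (f ≫ h) z) (f ≫ h) z :=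
    IsPullback.of_hasPullback _ _
  have hY : IsPullback (pullback.fst h z) (pullback.snd h z) h z :=
    IsPullback.of_hasPullback _ _
  set Xz := pullback (f ≫ h) z with hXz
  set Yz := pullback h z with hYz
  set pX : Xz ⟶ X := pullback.fst (f ≫ h) z with hpX
  set qX : Xz ⟶ (yon S).obj T := pullback.snd (f ≫ h) z with hqX
  set pY : Yz ⟶ Y := pullback.fst h z with hpY
  set qY : Yz ⟶ (yon S).obj T := pullback.snd h z with hqY
  have hfzc : (pX ≫ f) ≫ h = qX ≫ z := by rw [Category.assoc]; exact hX.w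
  set fz : Xz ⟶ Yz := hY.lift (pX ≫ f) qX hfzc with hfz
  have hfz1 : fz ≫ pY = pX ≫ f := hY.lift_fst _ _ _
  have hfz2 : fz ≫ qY = qX := hY.lift_snd _ _ _
  -- the charts of the fibres
  have hac : ((yon S).map iU ≫ (yon S).map p₁ ≫ a) ≫ f ≫ h = (yon S).map tU ≫ z := by
    calc ((yon S).map iU ≫ (yon S).map p₁ ≫ a) ≫ f ≫ h
        = (yon S).map iU ≫ ((yon S).map p₁ ≫ a ≫ f ≫ h) := by simp only [Category.assoc]
      _ = (yon S).map iU ≫ ((yon S).map p₂ ≫ c) := by rw [sqU.w]
      _ = (yon S).map (iU ≫ k' ≫ q₂) ≫ c := by rw [e₂, Functor.map_comp, Category.assoc]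
      _ = (yon S).map (tU ≫ ιw) ≫ c := by rw [sqFU.w]
      _ = (yon S).map tU ≫ z := by rw [Functor.map_comp, Category.assoc]
  set a'' : (yon S).obj Uw ⟶ Xz := hX.lift ((yon S).map iU ≫ (yon S).map p₁ ≫ a) ((yon S).map tU) hac
    with ha''
  have ha1 : a'' ≫ pX = (yon S).map iU ≫ (yon S).map p₁ ≫ a := hX.lift_fst _ _ _
  have ha2 : a'' ≫ qX = (yon S).map tU := hX.lift_snd _ _ _
  have hbc : ((yon S).map iV ≫ (yon S).map q₁ ≫ b) ≫ h = (yon S).map tV ≫ z := by
    calc ((yon S).map iV ≫ (yon S).map q₁ ≫ b) ≫ h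
        = (yon S).map iV ≫ ((yon S).map q₁ ≫ b ≫ h) := by simp only [Category.assoc]
      _ = (yon S).map iV ≫ ((yon S).map q₂ ≫ c) := by rw [sqV.w]
      _ = (yon S).map (iV ≫ q₂) ≫ c := by rw [Functor.map_comp, Category.assoc]
      _ = (yon S).map (tV ≫ ιw) ≫ c := by rw [sqFV.w]
      _ = (yon S).map tV ≫ z := by rw [Functor.map_comp, Category.assoc]
  set b'' : (yon S).obj Vw ⟶ Yz := hY.lift ((yon S).map iV ≫ (yon S).map q₁ ≫ b) ((yon S).map tV) hbc
    with hb''
  have hb1 : b'' ≫ pY = (yon S).map iV ≫ (yon S).map q₁ ≫ b := hY.lift_fst _ _ _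
  have hb2 : b'' ≫ qY = (yon S).map tV := hY.lift_snd _ _ _
  -- compatibility
  have comm'' : a'' ≫ fz = (yon S).map κ ≫ b'' := by
    apply hY.hom_ext
    · calc (a'' ≫ fz) ≫ pY = (a'' ≫ pX) ≫ f := by rw [Category.assoc, hfz1, Category.assoc]
        _ = (yon S).map iU ≫ (yon S).map p₁ ≫ (a ≫ f) := by
            rw [ha1]; simp only [Category.assoc]
        _ = (yon S).map iU ≫ (yon S).map p₁ ≫ (yon S).map k ≫ b := by rw [comm]
        _ = (yon S).map (iU ≫ p₁ ≫ k) ≫ b := by
            simp only [Functor.map_comp, Category.assoc]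
        _ = (yon S).map (κ ≫ iV ≫ q₁) ≫ b := by
            rw [← e₁, ← Category.assoc iU, ← hκiV, Category.assoc]
        _ = (yon S).map κ ≫ (yon S).map iV ≫ (yon S).map q₁ ≫ b := by
            simp only [Functor.map_comp, Category.assoc]
        _ = ((yon S).map κ ≫ b'') ≫ pY := by rw [Category.assoc, hb1]
    · rw [Category.assoc, hfz2, ha2, Category.assoc, hb2, ← Functor.map_comp, hκtV]
  -- the charts are etale
  have sqa : IsPullback a'' ((yon S).map iU ≫ (yon S).map p₁) pX a := by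
    refine IsPullback.of_right ?_ (by rw [ha1, Category.assoc]) hX.flip
    rw [ha2]
    have top : IsPullback ((yon S).map tU) ((yon S).map iU) ((yon S).map ιw) ((yon S).map p₂) := by
      have := sqFU.flip.map (yon S)
      rwa [e₂] at this
    exact top.paste_vert sqU.flip
  haveI hstab : (RepWith (S := S) @Etale).IsStableUnderBaseChange :=
    AlgSp.repWith_isStableUnderBaseChange _
  have ha''e : RepWith @Etale a'' :=
    MorphismProperty.of_isPullback (P := RepWith (S := S) @Etale) sqa.flip ha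
  have sqb : IsPullback b'' ((yon S).map iV ≫ (yon S).map q₁) pY b := by
    refine IsPullback.of_right ?_ (by rw [hb1, Category.assoc]) hY.flip
    rw [hb2]
    have top : IsPullback ((yon S).map tV) ((yon S).map iV) ((yon S).map ιw) ((yon S).map q₂) :=
      sqFV.flip.map (yon S)
    exact top.paste_vert sqV.flip
  have hb''e : RepWith @Etale b'' :=
    MorphismProperty.of_isPullback (P := RepWith (S := S) @Etale) sqb.flip hb
  have key := hfib (↥(W.left.residueField w)) (W.left.fromSpecResidueField w ≫ W.hom) z Xz Yz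
    pX qX pY qY fz hX hY hfz1 hfz2
  exact key a'' b'' κ ha''e hb''e comm''

end Groth.Agent.Lib.Helper31.AlgSpFibFlat
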