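import Mathlib
import Groth.Agent.Lib.Helper31.AlgSpFibFlat

/-!
# Fibrewise flatness for algebraic spaces: from chart-level stalk flatness to `LocP @Flat` (helper31)
-/

set_option autoImplicit false
universe u

namespace Groth.Agent.Lib.Helper31.AlgSpFibFlat

open CategoryTheory CategoryTheory.Limits AlgebraicGeometry AlgSp
open Groth.Agent.Lib.Helper52 Groth.Agent.Lib.Helper51
open Groth.Agent.Lib.Helper78.AlgSpLocP Groth.Agent.Lib.Helper78.AlgSpLocPFlat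

variable {S : Scheme.{u}} {X Y Z : AlgSp.Sp S}

/-- Chart-level input: in every chart diagram `U' ⟶ V' ⟶ W` obtained from etale charts
`h_U ⟶ X`, `h_V ⟶ Y` by base change along an etale chart `h_W ⟶ Z`, all stalk maps are flat. -/
def ChartFlat (f : X ⟶ Y) (h : Y ⟶ Z) : Prop :=
  ∀ ⦃U V W U' V' : Over S⦄ (a : (yon S).obj U ⟶ X) (b : (yon S).obj V ⟶ Y)
    (c : (yon S).obj W ⟶ Z), RepWith @Etale a → RepWith @Etale b → RepWith @Etale c →
    ∀ (k : U ⟶ V), a ≫ f = (yon S).map k ≫ b →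
    ∀ (p₁ : U' ⟶ U) (p₂ : U' ⟶ W) (q₁ : V' ⟶ V) (q₂ : V' ⟶ W) (k' : U' ⟶ V'),
    IsPullback ((yon S).map p₁) ((yon S).map p₂) (a ≫ f ≫ h) c →
    IsPullback ((yon S).map q₁) ((yon S).map q₂) (b ≫ h) c →
    k' ≫ q₁ = p₁ ≫ k → k' ≫ q₂ = p₂ → ∀ x : U'.left,
    (q₂.left.stalkMap (k'.left x)).hom.Flat ∧ (k'.left.stalkMap x).hom.Flat

/-- Base change of a chart diagram of `f` along a chart of `Z`. -/
theorem exists_baseChange_chart {f : X ⟶ Y} {h : Y ⟶ Z}
    {U V W : Over S} (a : (yon S).obj U ⟶ X) (b : (yon S).obj V ⟶ Y)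
    (c : (yon S).obj W ⟶ Z) (hc : RepWith @Etale c)
    (k : U ⟶ V) (comm : a ≫ f = (yon S).map k ≫ b) :
    ∃ (U' V' : Over S) (p₁ : U' ⟶ U) (p₂ : U' ⟶ W) (q₁ : V' ⟶ V) (q₂ : V' ⟶ W) (k' : U' ⟶ V'),
      IsPullback ((yon S).map p₁) ((yon S).map p₂) (a ≫ f ≫ h) c ∧
      IsPullback ((yon S).map q₁) ((yon S).map q₂) (b ≫ h) c ∧
      k' ≫ q₁ = p₁ ≫ k ∧ k' ≫ q₂ = p₂ := by
  have sqU := hc.rep.isPullback' (a ≫ f ≫ h)
  have sqV := hc.rep.isPullback' (b ≫ h)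
  have w : (yon S).map (hc.rep.fst' (a ≫ f ≫ h)) ≫ c =
      (yon S).map (hc.rep.snd (a ≫ f ≫ h) ≫ k) ≫ b ≫ h := by
    rw [sqU.w, Functor.map_comp, Category.assoc, ← Category.assoc ((yon S).map k), ← comm,
      Category.assoc]
  obtain ⟨k', hk'⟩ := (yon S).map_surjective (sqV.lift _ _ w)
  refine ⟨_, _, hc.rep.snd (a ≫ f ≫ h), hc.rep.fst' (a ≫ f ≫ h), hc.rep.snd (b ≫ h),
    hc.rep.fst' (b ≫ h), k', sqU.flip, sqV.flip, ?_, ?_⟩
  · exact (yon S).map_injective (by rw [Functor.map_comp, hk']; exact sqV.lift_snd _ _ _)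
  · exact (yon S).map_injective (by rw [Functor.map_comp, hk']; exact sqV.lift_fst _ _ _)

/-- `f` is flat. -/
theorem locP_flat_left {f : X ⟶ Y} {h : Y ⟶ Z} (hZ : IsAlgSpace Z) (H : ChartFlat f h) :
    LocP @Flat f := by
  obtain ⟨W, c, hce, hcs⟩ := hZ.atlas
  intro U V a b k ha hb comm
  obtain ⟨U', V', p₁, p₂, q₁, q₂, k', sqU, sqV, e₁, e₂⟩ :=
    exists_baseChange_chart (h := h) a b c hce k comm
  have hk' : Flat k'.left :=
    Flat.of_stalkMap _ fun x => (H a b c ha hb hce k comm p₁ p₂ q₁ q₂ k' sqU sqV e₁ e₂ x).2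
  have hp₁e : Etale p₁.left := hce.property _ _ _ sqU.flip
  have hp₁s : Surjective p₁.left := hcs.property _ _ _ sqU.flip
  have hq₁e : Etale q₁.left := hce.property _ _ _ sqV.flip
  have s1 : Flat (k'.left ≫ q₁.left) := etLocalST_flat.postcomp _ _ hk' hq₁e
  have e₁' : k'.left ≫ q₁.left = p₁.left ≫ k.left := congrArg CommaMorphism.left e₁
  exact etLocalST_flat.descend _ _ hp₁e hp₁s (e₁' ▸ s1)

/-- If `f` is surjective, `h` is flat. -/
theorem locP_flat_right {f : X ⟶ Y} {h : Y ⟶ Z} (hX : IsAlgSpace X) (H : ChartFlat f h)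
    (hsurj : IsSurjectiveMor f) : LocP @Flat h := by
  obtain ⟨U₀, a₀, ha₀e, ha₀s⟩ := hX.atlas
  intro V W b c l hb hc comm
  -- `U₁ = U₀ ×_Y V`
  have sq₁ := hb.rep.isPullback' (a₀ ≫ f)
  set k₁ : hb.rep.pullback (a₀ ≫ f) ⟶ V := hb.rep.fst' (a₀ ≫ f) with hk₁
  set r₁ : hb.rep.pullback (a₀ ≫ f) ⟶ U₀ := hb.rep.snd (a₀ ≫ f) with hr₁
  have hr₁e : Etale r₁.left := hb.property _ _ _ sq₁
  have ha₁ : RepWith @Etale ((yon S).map r₁ ≫ a₀) :=
    (RepWith (S := S) @Etale).comp_mem _ _ ((repWith_yon_map_iff _ _).2 hr₁e) ha₀e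
  have comm₁ : ((yon S).map r₁ ≫ a₀) ≫ f = (yon S).map k₁ ≫ b := by
    rw [Category.assoc]; exact sq₁.w.symm
  have hk₁s : Surjective k₁.left := by
    refine ⟨fun v => (ofPt_mem_range_map_iff sq₁.flip v).1 ?_⟩
    obtain ⟨x, hx⟩ := hsurj (Points.ofPt b v)
    obtain ⟨x₀, rfl⟩ := surjective_map_of_repWith_surjective ha₀s x
    exact ⟨x₀, by rw [Points.map_comp, hx]⟩
  -- base change along `c`
  obtain ⟨U', V', p₁, p₂, q₁, q₂, k', sqU, sqV, e₁, e₂⟩ :=
    exists_baseChange_chart (h := h) ((yon S).map r₁ ≫ a₀) b c hc k₁ comm₁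
  have hq₁e : Etale q₁.left := hc.property _ _ _ sqV.flip
  -- `k'` is surjective
  have sqk : IsPullback ((yon S).map k') ((yon S).map p₁) ((yon S).map q₁) ((yon S).map k₁) := by
    refine IsPullback.of_right ?_ ?_ sqV.flip
    · have := sqU.flip
      rw [← e₂, Functor.map_comp] at this
      have e : ((yon S).map r₁ ≫ a₀) ≫ f ≫ h = (yon S).map k₁ ≫ b ≫ h := by
        rw [← Category.assoc, comm₁, Category.assoc]
      rwa [e] at this
    · rw [← Functor.map_comp, ← Functor.map_comp, e₁]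
  have sqk' : IsPullback k'.left p₁.left q₁.left k₁.left := isPullback_left_of_yon sqk
  have hk's : Surjective k'.left :=
    MorphismProperty.of_isPullback (P := @Surjective) sqk'.flip hk₁s
  have hq₂ : Flat q₂.left := by
    refine Flat.of_stalkMap _ fun y => ?_
    obtain ⟨x, rfl⟩ := hk's.surj y
    exact (H _ b c ha₁ hb hc k₁ comm₁ p₁ p₂ q₁ q₂ k' sqU sqV e₁ e₂ x).1
  -- the section `V ⟶ V'`
  have ws : (yon S).map (𝟙 V) ≫ b ≫ h = (yon S).map l ≫ c := by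
    rw [CategoryTheory.Functor.map_id, Category.id_comp, comm]
  obtain ⟨s, hs⟩ := (yon S).map_surjective (sqV.lift _ _ ws)
  have hs1 : s ≫ q₁ = 𝟙 V :=
    (yon S).map_injective (by rw [Functor.map_comp, hs]; exact sqV.lift_fst _ _ _)
  have hs2 : s ≫ q₂ = l :=
    (yon S).map_injective (by rw [Functor.map_comp, hs]; exact sqV.lift_snd _ _ _)
  have hs1' : s.left ≫ q₁.left = 𝟙 V.left := congrArg CommaMorphism.left hs1
  have hs2' : s.left ≫ q₂.left = l.left := congrArg CommaMorphism.left hs2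
  have hsf : Flat s.left := by
    refine etLocalST_flat.cancel s.left q₁.left hq₁e ?_
    rw [hs1']
    exact inferInstanceAs (Flat (𝟙 V.left))
  rw [← hs2']
  exact inferInstanceAs (Flat (s.left ≫ q₂.left))

end Groth.Agent.Lib.Helper31.AlgSpFibFlat
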