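import Mathlib
import Groth.Agent.Lib.Helper31.FibCritG

/-!
# Fibrewise flatness criterion, Noetherian case (helper31)

* `core_noeth`: ring level, `A → B → C`, `r` a prime of `C` with `B_q`, `C_r` Noetherian.
* `noeth_package`: scheme level, `X`, `Y` locally Noetherian.
-/

set_option autoImplicit false
set_option maxHeartbeats 1000000
open TensorProduct
namespace Groth.Agent.Lib.Helper31.FibCrit
universe u

theorem quotientMap_flat_congr {S T : Type u} [CommRing S] [CommRing T] (ψ : S →+* T)
    (I : Ideal S) {J J' : Ideal T} (h : J = J') (hle : I ≤ J.comap ψ) (hle' : I ≤ J'.comap ψ) :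
    (Ideal.quotientMap J ψ hle).Flat ↔ (Ideal.quotientMap J' ψ hle').Flat := by
  subst h; rfl

/-- **Fibrewise flatness criterion, Noetherian local rings.** -/
theorem core_noeth {A B C : Type u} [CommRing A] [CommRing B] [CommRing C] [Algebra A B]
    [Algebra B C] [Algebra A C] [IsScalarTower A B C] (r : Ideal C) [r.IsPrime]
    [IsNoetherianRing (Localization.AtPrime (r.under B))] [IsNoetherianRing (Localization.AtPrime r)]
    (hfl : Module.Flat A (Localization.AtPrime r)) (hfib : FibFlatAt A B C r) :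
    Module.Flat A (Localization.AtPrime (r.under B)) ∧ Module.Flat B (Localization.AtPrime r) := by
  let q : Ideal B := r.under B
  let p : Ideal A := r.under A
  haveI : q.LiesOver p := liesOver_under_under A B C r
  haveI : r.LiesOver q := inferInstance
  haveI : r.LiesOver p := inferInstance
  letI aST := Localization.AtPrime.algebraOfLiesOver q r
  letI aRS := Localization.AtPrime.algebraOfLiesOver p q
  letI aRT := Localization.AtPrime.algebraOfLiesOver p r
  let R := Localization.AtPrime p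
  let S := Localization.AtPrime q
  let T := Localization.AtPrime r
  have t4 : IsScalarTower R S T := inferInstance
  let I : Ideal S := p.map (algebraMap A S)
  let J : Ideal T := p.map (algebraMap A T)
  let J' : Ideal T := I.map (algebraMap S T)
  have hJ'eq : J' = J := by
    show Ideal.map (algebraMap S T) (Ideal.map (algebraMap A S) p) = _
    rw [Ideal.map_map, ← IsScalarTower.algebraMap_eq]
  have hψ : I ≤ J.comap (algebraMap S T) := map_le_comap_map A S T p
  have hψ' : I ≤ J'.comap (algebraMap S T) := Ideal.le_comap_map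
  have hc : (Ideal.quotientMap J (algebraMap S T) hψ).Flat := hfib
  have hd : (Ideal.quotientMap J' (algebraMap S T) hψ').Flat :=
    (quotientMap_flat_congr (algebraMap S T) I hJ'eq hψ' hψ).2 hc
  have hmod : Module.Flat (S ⧸ I) (T ⧸ J') := RingHom.flat_algebraMap_iff.mp hd
  have hten : Module.Flat (S ⧸ I) ((S ⧸ I) ⊗[S] T) :=
    Module.Flat.of_linearEquiv
      (Algebra.TensorProduct.quotIdealMapEquivQuotTensor T I).symm.toLinearEquiv
  have hquot : Module.Flat (S ⧸ I) (T ⧸ (I • (⊤ : Submodule S T))) :=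
    (Groth.Agent.Lib.Helper46.FibreFlat.flat_quot_iff I T).2 hten
  have hI : I = (IsLocalRing.maximalIdeal R).map (algebraMap R S) := by
    show Ideal.map (algebraMap A S) p = _
    rw [← Localization.AtPrime.map_eq_maximalIdeal, Ideal.map_map, ← IsScalarTower.algebraMap_eq]
  have hquot' : Module.Flat (S ⧸ (IsLocalRing.maximalIdeal R).map (algebraMap R S))
      (T ⧸ ((IsLocalRing.maximalIdeal R).map (algebraMap R S) • (⊤ : Submodule S T))) :=
    hI ▸ hquot
  have hRT : Module.Flat R T :=
    (Module.flat_iff_of_isLocalization (S := R) (p := p.primeCompl) (M := T)).2 hfl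
  obtain ⟨hRS, hST⟩ := (Groth.Agent.Lib.Helper46.FibreFlat.fibre_crit (A := R) (B := S)
    (C := T) (M := T)).1 ⟨hRT, hquot'⟩
  exact ⟨Module.Flat.trans A R S, Module.Flat.trans B S T⟩

end Groth.Agent.Lib.Helper31.FibCrit

namespace Groth.Agent.Lib.Helper31.FibCrit
universe u
open AlgebraicGeometry CategoryTheory Limits Groth.Agent.Lib.Helper35

theorem flat_atPrime_congr' {A B : Type u} [CommRing A] [CommRing B] [Algebra A B] {q q' : Ideal B}
    [q.IsPrime] [q'.IsPrime] (h : q = q') :
    Module.Flat A (Localization.AtPrime q) ↔ Module.Flat A (Localization.AtPrime q') := by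
  subst h; rfl

theorem isNoetherianRing_atPrime_congr {B : Type u} [CommRing B] {q q' : Ideal B}
    [q.IsPrime] [q'.IsPrime] (h : q = q') (hN : IsNoetherianRing (Localization.AtPrime q)) :
    IsNoetherianRing (Localization.AtPrime q') := by
  subst h; exact hN

/-- **Fibrewise flatness criterion for locally Noetherian schemes** (no finiteness hypotheses on the
morphisms). -/
theorem noeth_package {X Y S : Scheme.{u}} (f : X ⟶ Y) (g : Y ⟶ S)
    [IsLocallyNoetherian X] [IsLocallyNoetherian Y] (x : X)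
    (hflat : ((f ≫ g).stalkMap x).hom.Flat)
    (hfib : ((MoreMor.fiberMap f g (g (f x))).stalkMap ((f ≫ g).asFiber x)).hom.Flat) :
    (g.stalkMap (f x)).hom.Flat ∧ (f.stalkMap x).hom.Flat := by
  classical
  obtain ⟨_, ⟨W, hW : IsAffineOpen W, rfl⟩, hsW, -⟩ :=
    (S.isBasis_affineOpens).exists_subset_of_mem_open (Set.mem_univ (g (f x))) isOpen_univ
  obtain ⟨_, ⟨U, hU : IsAffineOpen U, rfl⟩, hyU, hUW'⟩ :=
    (Y.isBasis_affineOpens).exists_subset_of_mem_open (show f x ∈ g ⁻¹ᵁ W from hsW) (g ⁻¹ᵁ W).2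
  have hUW : U ≤ g ⁻¹ᵁ W := hUW'
  obtain ⟨_, ⟨V, hV : IsAffineOpen V, rfl⟩, hxV, hVU'⟩ :=
    (X.isBasis_affineOpens).exists_subset_of_mem_open (show x ∈ f ⁻¹ᵁ U from hyU) (f ⁻¹ᵁ U).2
  have hVU : V ≤ f ⁻¹ᵁ U := hVU'
  have hVW : V ≤ (f ≫ g) ⁻¹ᵁ W := fun z hz => hUW (hVU hz)
  letI algAB : Algebra Γ(S, W) Γ(Y, U) := (g.appLE W U hUW).hom.toAlgebra
  letI algBC : Algebra Γ(Y, U) Γ(X, V) := (f.appLE U V hVU).hom.toAlgebra
  letI algAC : Algebra Γ(S, W) Γ(X, V) := ((f ≫ g).appLE W V hVW).hom.toAlgebra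
  haveI tower : IsScalarTower Γ(S, W) Γ(Y, U) Γ(X, V) := IsScalarTower.of_algebraMap_eq' (by
    simp only [RingHom.algebraMap_toAlgebra]
    rw [← CommRingCat.hom_comp, Scheme.Hom.appLE_comp_appLE])
  haveI : IsNoetherianRing Γ(Y, U) := IsLocallyNoetherian.component_noetherian ⟨U, hU⟩
  haveI : IsNoetherianRing Γ(X, V) := IsLocallyNoetherian.component_noetherian ⟨V, hV⟩
  let r : Ideal Γ(X, V) := (hV.primeIdealOf ⟨x, hxV⟩).asIdeal
  have hAC : Module.Flat Γ(S, W) (Localization.AtPrime r) :=
    (flat_stalkMap_iff W hW V hV hVW hxV).mp hflat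
  have dg : (g.stalkMap (f x)).hom.Flat ↔ Module.Flat Γ(S, W)
      (Localization.AtPrime (r.under Γ(Y, U))) := by
    rw [flat_stalkMap_iff W hW U hU hUW (hVU hxV)]
    apply flat_atPrime_congr'
    have h1 := congr($(IsAffineOpen.comap_primeIdealOf_appLE U hU V hV hVU hxV).1)
    exact h1.symm
  have df : (f.stalkMap x).hom.Flat ↔ Module.Flat Γ(Y, U) (Localization.AtPrime r) :=
    flat_stalkMap_iff U hU V hV hVU hxV
  have hxι : ((f ≫ g).fiberι (g (f x))) ((f ≫ g).asFiber x) = x := (f ≫ g).fiberι_asFiber x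
  have hxV' : ((f ≫ g).fiberι (g (f x))) ((f ≫ g).asFiber x) ∈ V := by rw [hxι]; exact hxV
  have bridge := fiberMap_stalkMap_flat_iff f g (g (f x)) ((f ≫ g).asFiber x) hW hU hV hUW hVU hxV'
    rfl rfl
  have hr : (hV.primeIdealOf ⟨_, hxV'⟩).asIdeal = r := by
    have : (⟨_, hxV'⟩ : V) = ⟨x, hxV⟩ := Subtype.ext hxι
    rw [this]
  rw [fibFlatAt_congr hr] at bridge
  haveI : IsNoetherianRing (Localization.AtPrime (r.under Γ(Y, U))) :=
    IsLocalization.isNoetherianRing (r.under Γ(Y, U)).primeCompl _ inferInstance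
  haveI : IsNoetherianRing (Localization.AtPrime r) :=
    IsLocalization.isNoetherianRing r.primeCompl _ inferInstance
  have := core_noeth r hAC (bridge.mp hfib)
  exact ⟨dg.mpr this.1, df.mpr this.2⟩

end Groth.Agent.Lib.Helper31.FibCrit
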