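import Mathlib
import Groth.Agent.Lib.Helper31.AlgSpFibFlat3
import Groth.Agent.Lib.Helper31.FibCritN
import Groth.Agent.Lib.Helper78.AlgSpNoethDesc

/-!
# Fibrewise flatness for algebraic spaces: locally Noetherian case (helper31)
-/

set_option autoImplicit false
universe u

namespace Groth.Agent.Lib.Helper31.AlgSpFibFlat

open CategoryTheory CategoryTheory.Limits AlgebraicGeometry AlgSp
open Groth.Agent.Lib.Helper52 Groth.Agent.Lib.Helper51

variable {S : Scheme.{u}} {X Y Z : AlgSp.Sp S}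

/-- An etale chart of a locally Noetherian sheaf is a locally Noetherian scheme. -/
theorem isLocallyNoetherian_of_etale_chart {F : AlgSp.Sp S} (hF : IsLocNoethSp F) {U : Over S}
    (a : (yon S).obj U ⟶ F) (ha : RepWith @Etale a) : IsLocallyNoetherian U.left := by
  obtain ⟨V, p, hp, hs, hPV⟩ := hF
  obtain ⟨W, φ, ψ, sq⟩ := exists_isPullback_of_representable hp.1 a
  haveI hψ : Etale ψ.left := hp.2 a _ ψ sq
  haveI hψs : Surjective ψ.left := hs.2 a _ ψ sq
  haveI hφ : Etale φ.left := ha.2 p _ φ sq.flip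
  haveI : IsLocallyNoetherian V.left := hPV
  haveI : IsLocallyNoetherian W.left := LocallyOfFiniteType.isLocallyNoetherian φ.left
  exact Groth.Agent.Lib.Helper78.AlgSpNoethDesc.isLocallyNoetherian_of_fppf_surjective ψ.left

/-- Chart-level stalk flatness, locally Noetherian case. -/
theorem chartFlat_noeth {f : X ⟶ Y} {h : Y ⟶ Z} (hfib : FibHyp f h)
    (hXn : IsLocNoethSp X) (hYn : IsLocNoethSp Y) (hfl : LocP @Flat (f ≫ h)) :
    ChartFlat f h := by
  intro U V W U' V' a b c ha hb hc k comm p₁ p₂ q₁ q₂ k' sqU sqV e₁ e₂ x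
  haveI hp₁e : Etale p₁.left := hc.property _ _ _ sqU.flip
  haveI hq₁e : Etale q₁.left := hc.property _ _ _ sqV.flip
  have hP2 : p₂.left = k'.left ≫ q₂.left := by rw [← e₂]; rfl
  have ha' : RepWith @Etale ((yon S).map p₁ ≫ a) :=
    (RepWith (S := S) @Etale).comp_mem _ _ ((repWith_yon_map_iff _ _).2 hp₁e) ha
  have c1 : ((yon S).map p₁ ≫ a) ≫ f ≫ h = (yon S).map p₂ ≫ c := by
    rw [Category.assoc]; exact sqU.w
  haveI i2 : Flat (k'.left ≫ q₂.left) := hP2 ▸ hfl _ c p₂ ha' hc c1
  haveI : IsLocallyNoetherian U.left := isLocallyNoetherian_of_etale_chart hXn a ha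
  haveI : IsLocallyNoetherian V.left := isLocallyNoetherian_of_etale_chart hYn b hb
  haveI : IsLocallyNoetherian U'.left := LocallyOfFiniteType.isLocallyNoetherian p₁.left
  haveI : IsLocallyNoetherian V'.left := LocallyOfFiniteType.isLocallyNoetherian q₁.left
  haveI i4 := flat_fiberMap_of_charts hfib a b c ha hb k comm p₁ p₂ q₁ q₂ k' sqU sqV e₁ e₂
    (q₂.left (k'.left x))
  exact Groth.Agent.Lib.Helper31.FibCrit.noeth_package k'.left q₂.left x
    (Flat.stalkMap _ x) (Flat.stalkMap _ _)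

end Groth.Agent.Lib.Helper31.AlgSpFibFlat
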