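import Mathlib
import Groth.Agent.Lib.Helper31.AlgSpBCChart
import Groth.Agent.Lib.Helper21.FieldDimBC

/-!
# The dimension of the local ring of the fibre at a point, for morphisms of algebraic spaces
(helper31)

Chart independence (for morphisms locally of finite type), and scheme-level base change of residue
transcendence degrees for arbitrary pullback squares.
-/

set_option autoImplicit false
universe u

namespace Groth.Agent.Lib.Helper31.AlgSpFlatAt

open CategoryTheory CategoryTheory.Limits AlgebraicGeometry AlgSp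
open Groth.Agent.Lib.Helper52 Groth.Agent.Lib.Helper51
open Groth.Agent.Lib.Helper98.AlgSpPtLocal Groth.Agent.Lib.Helper51.ResTrdeg
  Groth.Agent.Lib.Helper21.FieldDim

theorem withBot_add_nat_cancel {a b : WithBot ℕ∞} (n : ℕ)
    (h : a + ((n : ℕ∞) : WithBot ℕ∞) = b + ((n : ℕ∞) : WithBot ℕ∞)) : a = b := by
  induction a using WithBot.recBotCoe with
  | bot =>
    rw [WithBot.bot_add] at h
    have := WithBot.add_eq_bot.mp h.symm
    rcases this with h1 | h1
    · exact h1.symm
    · exact absurd h1 WithBot.coe_ne_bot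
  | coe a =>
    induction b using WithBot.recBotCoe with
    | bot =>
      rw [WithBot.bot_add] at h
      have := WithBot.add_eq_bot.mp h
      rcases this with h1 | h1
      · exact absurd h1 WithBot.coe_ne_bot
      · exact absurd h1 WithBot.coe_ne_bot
    | coe b =>
      rw [← WithBot.coe_add, ← WithBot.coe_add, WithBot.coe_inj] at h
      have hn : (n : ℕ∞) ≠ ⊤ := ENat.natCast_ne_top n
      rw [WithBot.coe_inj]
      exact (ENat.add_left_injective_of_ne_top hn) h

/-- The residue transcendence degree of a morphism locally of finite type is finite. -/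
theorem resTrdeg_eq_tdR {U V : Scheme.{u}} (h : U ⟶ V) [LocallyOfFiniteType h] (u : U) :
    Dual3.resTrdeg h u = (tdR h u : Cardinal.{u}) := trdegAt_eq_tdR h u

section Scheme

variable {P X Y Y' : Scheme.{u}} {c : P ⟶ X} {h' : P ⟶ Y'} {h : X ⟶ Y} {g : Y' ⟶ Y}

/-- Residue transcendence degrees do not increase under base change. -/
theorem resTrdeg_le_of_isPullback (sq : IsPullback c h' h g) [LocallyOfFiniteType h] (p : P) :
    Dual3.resTrdeg h' p ≤ Dual3.resTrdeg h (c p) := by
  obtain ⟨φ, hφ1, hφ2⟩ : ∃ φ : P ≅ pullback h g, φ.hom ≫ pullback.fst h g = c ∧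
      φ.hom ≫ pullback.snd h g = h' :=
    ⟨sq.isoPullback, sq.isoPullback_hom_fst, sq.isoPullback_hom_snd⟩
  clear sq
  subst hφ1 hφ2
  rw [resTrdeg_etale_comp, Scheme.Hom.comp_apply, resTrdeg_eq_tdR, resTrdeg_eq_tdR]
  exact_mod_cast tdR_snd_le h g (φ.hom p)

/-- Over any pair of compatible points there is a point of the fibre product with the same residue
transcendence degree. -/
theorem exists_resTrdeg_eq_of_isPullback (sq : IsPullback c h' h g) [LocallyOfFiniteType h]
    (x : X) (y' : Y') (hxy : h x = g y') :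
    ∃ p : P, c p = x ∧ h' p = y' ∧ Dual3.resTrdeg h' p = Dual3.resTrdeg h x := by
  obtain ⟨z, hz1, hz2, hz3⟩ := exists_tdR_snd_eq h g x y' hxy
  obtain ⟨φ, hφ1, hφ2⟩ : ∃ φ : P ≅ pullback h g, φ.hom ≫ pullback.fst h g = c ∧
      φ.hom ≫ pullback.snd h g = h' :=
    ⟨sq.isoPullback, sq.isoPullback_hom_fst, sq.isoPullback_hom_snd⟩
  clear sq
  subst hφ1 hφ2
  have hz : φ.hom (φ.inv z) = z := by
    rw [← Scheme.Hom.comp_apply, Iso.inv_hom_id]; rfl
  refine ⟨φ.inv z, ?_, ?_, ?_⟩
  · rw [Scheme.Hom.comp_apply, hz]; exact hz1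
  · rw [Scheme.Hom.comp_apply, hz]; exact hz2
  · rw [resTrdeg_etale_comp, hz, resTrdeg_eq_tdR, resTrdeg_eq_tdR, hz3]

/-- Base change of the dimension of the local ring of the fibre: the sum with the residue
transcendence degree is invariant. -/
theorem fibStalkDim_add_resTrdeg_of_isPullback (sq : IsPullback c h' h g)
    [LocallyOfFiniteType h] [LocallyOfFiniteType h'] (p : P) :
    ringKrullDim ↥((h'.fiber (h' p)).presheaf.stalk (h'.asFiber p)) +
        ((Cardinal.toENat (Dual3.resTrdeg h' p) : ℕ∞) : WithBot ℕ∞) =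
      ringKrullDim ↥((h.fiber (h (c p))).presheaf.stalk (h.asFiber (c p))) +
        ((Cardinal.toENat (Dual3.resTrdeg h (c p)) : ℕ∞) : WithBot ℕ∞) := by
  rw [← fibreDimAt_eq_stalk_add_resTrdeg, ← fibreDimAt_eq_stalk_add_resTrdeg]
  exact (Groth.Agent.S9358.result h g c h' sq 0).1 p

end Scheme

variable {S : Scheme.{u}} {X Y : AlgSp.Sp S}

/-- **Chart independence** of the dimension of the local ring of the fibre at a point. -/
theorem fibStalkDim_transfer (f : X ⟶ Y) (hf : LocP @LocallyOfFiniteType f)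
    {U V U' V' : Over S} (a : (yon S).obj U ⟶ X) (b : (yon S).obj V ⟶ Y) (h : U ⟶ V)
    (ha : RepWith @Etale a) (hb : RepWith @Etale b)
    (comm : a ≫ f = (yon S).map h ≫ b) (u : U.left)
    (a' : (yon S).obj U' ⟶ X) (b' : (yon S).obj V' ⟶ Y) (h' : U' ⟶ V')
    (ha' : RepWith @Etale a') (hb' : RepWith @Etale b')
    (comm' : a' ≫ f = (yon S).map h' ≫ b') (u' : U'.left)
    (hu : Points.ofPt a u = Points.ofPt a' u') :
    ringKrullDim ↥((h.left.fiber (h.left u)).presheaf.stalk (h.left.asFiber u)) =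
      ringKrullDim ↥((h'.left.fiber (h'.left u')).presheaf.stalk (h'.left.asFiber u')) := by
  haveI : LocallyOfFiniteType h.left := hf a b h ha hb comm
  haveI : LocallyOfFiniteType h'.left := hf a' b' h' ha' hb' comm'
  have h1 := fibreDimAt_transfer f a b h ha hb comm u a' b' h' ha' hb' comm' u' hu
  have h2 : Dual3.resTrdeg h'.left u' = Dual3.resTrdeg h.left u :=
    transfer (etLocalPt_resTrdeg (fun t => t = Dual3.resTrdeg h.left u)) f a b h ha hb comm u rfl
      a' b' h' ha' hb' comm' u' hu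
  rw [fibreDimAt_eq_stalk_add_resTrdeg, fibreDimAt_eq_stalk_add_resTrdeg, h2,
    resTrdeg_eq_tdR, Cardinal.toENat_nat] at h1
  exact withBot_add_nat_cancel _ h1

theorem hasAtMor_fibStalkDim_iff_of_chart (f : X ⟶ Y) (hf : LocP @LocallyOfFiniteType f)
    (e : WithBot ℕ∞)
    {U V : Over S} (a : (yon S).obj U ⟶ X) (b : (yon S).obj V ⟶ Y) (h : U ⟶ V)
    (ha : RepWith @Etale a) (hb : RepWith @Etale b)
    (comm : a ≫ f = (yon S).map h ≫ b) (u : U.left) :
    HasAtMor (fun _ _ h u => ringKrullDim ↥((h.fiber (h u)).presheaf.stalk (h.asFiber u)) = e) f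
        (Points.ofPt a u) ↔
      ringKrullDim ↥((h.left.fiber (h.left u)).presheaf.stalk (h.left.asFiber u)) = e := by
  constructor
  · rintro ⟨U', V', a', b', h', u', ha', hb', comm', hu', hd⟩
    rw [fibStalkDim_transfer f hf a b h ha hb comm u a' b' h' ha' hb' comm' u' hu'.symm]
    exact hd
  · intro hd
    exact ⟨U, V, a, b, h, u, ha, hb, comm, rfl, hd⟩

end Groth.Agent.Lib.Helper31.AlgSpFlatAt
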