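import Mathlib
import Groth.Agent.S9687
import Groth.Agent.Lib.Helper78.HasAtEt
import Groth.Agent.Lib.Helper31.AlgSpFibStalkDim
import Groth.Agent.Lib.Helper31.AlgSpFibFlat4

/-!
# The dimension formula on charts, with cardinal-valued bounds (helper31)
-/

set_option autoImplicit false
universe u

namespace Groth.Agent.Lib.Helper31.AlgSpFlatAt

open CategoryTheory CategoryTheory.Limits AlgebraicGeometry AlgSp
open Groth.Agent.Lib.Helper52 Groth.Agent.Lib.Helper51
open Groth.Agent.Lib.Helper98.AlgSpPtLocal Groth.Agent.Lib.Helper78.HasAtEt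

/-- The local ring at the generic point of an irreducible component has dimension zero. -/
theorem ringKrullDim_stalk_eq_zero_of_closure_mem {U : Scheme.{u}} (ξ : U)
    (hξ : closure {ξ} ∈ irreducibleComponents ↥U) : ringKrullDim ↥(U.presheaf.stalk ξ) = 0 := by
  rw [AlgebraicGeometry.ringKrullDim_stalk_eq_coheight]
  have hmax : IsMax ξ := by
    intro y hy
    have hy' : y ⤳ ξ := hy
    have h1 : closure {ξ} ⊆ closure {y} := by
      rw [← specializes_iff_closure_subset]; exact hy'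
    have h2 : closure {y} ⊆ closure {ξ} :=
      hξ.2 (isIrreducible_singleton.closure) h1
    have h3 : ξ ⤳ y := by rw [specializes_iff_closure_subset]; exact h2
    exact h3
  rw [Order.coheight_eq_zero.mpr hmax]
  rfl

/-- Scheme level dimension formula with a cardinal bound `E`. -/
theorem dimension_formula_card {U V : Scheme.{u}} [IsLocallyNoetherian V] (h : U ⟶ V)
    [LocallyOfFiniteType h] (u : U) (E : Cardinal.{u})
    (hE : ∀ ξ : U, closure {ξ} ∈ irreducibleComponents ↥U → ξ ⤳ u → Dual3.resTrdeg h ξ ≤ E) :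
    ringKrullDim ↥(U.presheaf.stalk u) +
        ((Cardinal.toENat (Dual3.resTrdeg h u) : ℕ∞) : WithBot ℕ∞) ≤
      ringKrullDim ↥(V.presheaf.stalk (h u)) + ((Cardinal.toENat E : ℕ∞) : WithBot ℕ∞) := by
  rw [resTrdeg_eq_tdR, Cardinal.toENat_nat]
  by_cases hEfin : E < Cardinal.aleph0
  · obtain ⟨E', rfl⟩ := Cardinal.lt_aleph0.mp hEfin
    rw [Cardinal.toENat_nat]
    exact Groth.Agent.S9687.result h u (Groth.Agent.Lib.Helper21.FieldDim.tdR h u) E'
      (resTrdeg_eq_tdR h u) hE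
  · have hE' : Cardinal.toENat E = ⊤ := by
      rw [Cardinal.toENat_eq_top]
      exact not_lt.mp hEfin
    rw [hE']
    have hbne : ringKrullDim ↥(V.presheaf.stalk (h u)) ≠ ⊥ := by
      have := ringKrullDim_nonneg_of_nontrivial (R := ↥(V.presheaf.stalk (h u)))
      intro h0
      rw [h0] at this
      exact absurd this (by decide)
    obtain ⟨b', hb'⟩ := WithBot.ne_bot_iff_exists.mp hbne
    rw [← hb', ← WithBot.coe_add, add_top]
    exact le_top

variable {S : Scheme.{u}} {X Y : AlgSp.Sp S}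

/-- The dimension formula on a chart diagram of a morphism of algebraic spaces. -/
theorem dimension_formula_chart (f : X ⟶ Y) (hY : IsLocNoethSp Y)
    (hf : LocP @LocallyOfFiniteType f) {U V : Over S} (a₀ : (yon S).obj U ⟶ X)
    (b₀ : (yon S).obj V ⟶ Y) (h : U ⟶ V) (ha₀ : RepWith @Etale a₀) (hb₀ : RepWith @Etale b₀)
    (comm : a₀ ≫ f = (yon S).map h ≫ b₀) (u : U.left) (E : Cardinal.{u})
    (hE : ∀ ξ : Points X, ξ ⤳ Points.ofPt a₀ u →
      HasAt (fun U u => ringKrullDim ↥(U.presheaf.stalk u) = 0) X ξ →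
      ∀ s : Cardinal.{u}, HasAtMor (fun _ _ h u => Dual3.resTrdeg h u = s) f ξ → s ≤ E) :
    ringKrullDim ↥(U.left.presheaf.stalk u) +
        ((Cardinal.toENat (Dual3.resTrdeg h.left u) : ℕ∞) : WithBot ℕ∞) ≤
      ringKrullDim ↥(V.left.presheaf.stalk (h.left u)) +
        ((Cardinal.toENat E : ℕ∞) : WithBot ℕ∞) := by
  haveI : LocallyOfFiniteType h.left := hf a₀ b₀ h ha₀ hb₀ comm
  haveI : IsLocallyNoetherian V.left :=
    Groth.Agent.Lib.Helper31.AlgSpFibFlat.isLocallyNoetherian_of_etale_chart hY b₀ hb₀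
  refine dimension_formula_card h.left u E ?_
  intro ξ hξ hξu
  have h1 : Points.ofPt a₀ ξ ⤳ Points.ofPt a₀ u := hξu.map (Points.continuous_ofPt a₀)
  have h2 : HasAt (fun U u => ringKrullDim ↥(U.presheaf.stalk u) = 0) X (Points.ofPt a₀ ξ) :=
    ⟨U, a₀, ξ, ha₀, rfl, ringKrullDim_stalk_eq_zero_of_closure_mem ξ hξ⟩
  have h3 : HasAtMor (fun _ _ k v => Dual3.resTrdeg k v = Dual3.resTrdeg h.left ξ) f
      (Points.ofPt a₀ ξ) := ⟨U, V, a₀, b₀, h, ξ, ha₀, hb₀, comm, rfl, rfl⟩
  exact hE _ h1 h2 _ h3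

end Groth.Agent.Lib.Helper31.AlgSpFlatAt
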