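import Mathlib
import Groth.Agent.Lib.Helper31.AlgSpFibFlat
import Groth.Agent.S1386

/-!
# Fibrewise flatness for algebraic spaces: finitely presented case (helper31)
-/

set_option autoImplicit false
universe u

namespace Groth.Agent.Lib.Helper31.AlgSpFibFlat

open CategoryTheory CategoryTheory.Limits AlgebraicGeometry AlgSp

variable {S : Scheme.{u}} {X Y Z : AlgSp.Sp S}

/-- In a chart diagram obtained by base change along a chart of `Z`, all stalk maps are flat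
(finitely presented case). -/
theorem flat_stalkMaps_of_charts_fp {f : X ⟶ Y} {h : Y ⟶ Z} (hfib : FibHyp f h)
    (hfp : LocP @LocallyOfFinitePresentation (f ≫ h)) (hfl : LocP @Flat (f ≫ h))
    (hft : LocP @LocallyOfFiniteType h)
    {U V W U' V' : Over S} (a : (yon S).obj U ⟶ X) (b : (yon S).obj V ⟶ Y)
    (c : (yon S).obj W ⟶ Z) (ha : RepWith @Etale a) (hb : RepWith @Etale b)
    (hc : RepWith @Etale c)
    (k : U ⟶ V) (comm : a ≫ f = (yon S).map k ≫ b)
    (p₁ : U' ⟶ U) (p₂ : U' ⟶ W) (q₁ : V' ⟶ V) (q₂ : V' ⟶ W) (k' : U' ⟶ V')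
    (sqU : IsPullback ((yon S).map p₁) ((yon S).map p₂) (a ≫ f ≫ h) c)
    (sqV : IsPullback ((yon S).map q₁) ((yon S).map q₂) (b ≫ h) c)
    (e₁ : k' ≫ q₁ = p₁ ≫ k) (e₂ : k' ≫ q₂ = p₂) (x : U'.left) :
    (q₂.left.stalkMap (k'.left x)).hom.Flat ∧ (k'.left.stalkMap x).hom.Flat := by
  have hp₁e : Etale p₁.left := hc.property _ _ _ sqU.flip
  have hq₁e : Etale q₁.left := hc.property _ _ _ sqV.flip
  have hP2 : p₂.left = k'.left ≫ q₂.left := by rw [← e₂]; rfl
  have ha' : RepWith @Etale ((yon S).map p₁ ≫ a) :=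
    (RepWith (S := S) @Etale).comp_mem _ _ ((repWith_yon_map_iff _ _).2 hp₁e) ha
  have hb' : RepWith @Etale ((yon S).map q₁ ≫ b) :=
    (RepWith (S := S) @Etale).comp_mem _ _ ((repWith_yon_map_iff _ _).2 hq₁e) hb
  have c1 : ((yon S).map p₁ ≫ a) ≫ f ≫ h = (yon S).map p₂ ≫ c := by
    rw [Category.assoc]; exact sqU.w
  have c2 : ((yon S).map q₁ ≫ b) ≫ h = (yon S).map q₂ ≫ c := by
    rw [Category.assoc]; exact sqV.w
  haveI i1 : LocallyOfFinitePresentation (k'.left ≫ q₂.left) := hP2 ▸ hfp _ c p₂ ha' hc c1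
  haveI i2 : Flat (k'.left ≫ q₂.left) := hP2 ▸ hfl _ c p₂ ha' hc c1
  haveI i3 : LocallyOfFiniteType q₂.left := hft _ c q₂ hb' hc c2
  haveI i4 := flat_fiberMap_of_charts hfib a b c ha hb k comm p₁ p₂ q₁ q₂ k' sqU sqV e₁ e₂
    (q₂.left (k'.left x))
  exact ((Groth.Agent.S1386.result k'.left q₂.left).1 x).1
    ⟨Flat.stalkMap _ x, Flat.stalkMap _ _⟩

end Groth.Agent.Lib.Helper31.AlgSpFibFlat
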