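import Groth.Agent.Lib.Helper51.AlgSpPoints2
import Groth.Agent.Lib.Helper51.AlgSpSpecial
import Groth.Agent.Lib.Helper51.SchemeClosedPts
import Groth.Agent.Lib.Helper51.FieldFibre
import Groth.Agent.Lib.Helper51.AlgSpFtPts4
import Groth.Agent.Lib.Helper51.AlgSpPull
import Groth.Agent.Lib.Helper31.AlgSpFlatLocus
import Mathlib.AlgebraicGeometry.Morphisms.Preimmersion

/-!
The fibre of a morphism of algebraic spaces over a point represented by a quasi-compact
monomorphism from the spectrum of a field embeds topologically (helper31).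
-/

set_option autoImplicit false
set_option linter.unusedSectionVars false
universe u
open CategoryTheory CategoryTheory.Limits AlgebraicGeometry Opposite

set_option backward.isDefEq.respectTransparency false

namespace Groth.Agent.Lib.Helper31.AlgSpFibreEmb

open AlgSp Groth.Agent.Lib.Helper51 Groth.Agent.Lib.Helper52 Groth.Agent.Lib.Helper31.AlgSpFlatAt

/-- A continuous map from a discrete space such that every point is cut out by an open of the
target is inducing. -/
theorem isInducing_of_discrete {A B : Type*} [TopologicalSpace A] [TopologicalSpace B]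
    [DiscreteTopology A] (g : A → B) (hg : Continuous g)
    (h : ∀ a, ∃ N : Set B, IsOpen N ∧ g ⁻¹' N = {a}) : Topology.IsInducing g := by
  refine ⟨le_antisymm (continuous_iff_le_induced.1 hg) ?_⟩
  intro O _
  choose N hN hNeq using h
  rw [isOpen_induced_iff]
  refine ⟨⋃ a ∈ O, N a, isOpen_biUnion fun a _ => hN a, ?_⟩
  ext x
  simp only [Set.preimage_iUnion, Set.mem_iUnion, exists_prop]
  constructor
  · rintro ⟨a, ha, hx⟩
    have : x ∈ g ⁻¹' N a := hx
    rw [hNeq a, Set.mem_singleton_iff] at this
    rw [this]; exact ha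
  · intro hx
    refine ⟨x, hx, ?_⟩
    have : x ∈ g ⁻¹' N x := by rw [hNeq x]; rfl
    exact this

variable {S : Scheme.{u}}

/-- On an etale chart, the base change of a quasi-compact monomorphism from the spectrum of a field
is a preimmersion. -/
theorem isPreimmersion_fibre_chart {Y : AlgSp.Sp S} (r : FieldPt Y) (hm : Mono r.toHom)
    (hq : AlgSp.RepWith @QuasiCompact r.toHom)
    {V W : Over S} (b : (AlgSp.yon S).obj V ⟶ Y) (hb : AlgSp.RepWith @Etale b) (φ : W ⟶ V)
    (ψ : W ⟶ r.pt)
    (sq : IsPullback ((AlgSp.yon S).map φ) ((AlgSp.yon S).map ψ) b r.toHom) :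
    IsPreimmersion φ.left := by
  have hψ : Etale ψ.left := hb.2 r.toHom _ ψ sq
  have hmono1 : Mono ((AlgSp.yon S).map φ) := sq.mono_fst_of_mono
  have hmono2 : Mono φ := (AlgSp.yon S).mono_of_mono_map hmono1
  have hmono3 : Mono φ.left := inferInstance
  have hsos : SurjectiveOnStalks φ.left :=
    surjectiveOnStalks_of_mono_of_etale_field (κ := r.K) ψ.left φ.left
  have hdisc : DiscreteTopology ↥W.left := discreteTopology_of_etale_spec_field (κ := r.K) ψ.left
  have hinj : Function.Injective φ.left := φ.left.injective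
  -- all points of `W` lie over the point
  have hfib : ∀ z : ↥W.left, Points.ofPt b (φ.left z) = Points.mk r := by
    intro z
    rw [← ofPt_yon_map_comp, sq.w, ofPt_yon_map_comp]
    exact Points.ofPt_toHom r _
  have hx : ∀ (V' : Over S) (b' : (AlgSp.yon S).obj V' ⟶ Y), IsAffine V'.left →
      AlgSp.RepWith @Etale b' → (Points.ofPt b' ⁻¹' {Points.mk r}).Finite := by
    intro V' b' hV' hb'
    exact finite_fibre_of_quasiCompact_fieldPt r hq b' hb'
  have hind : Topology.IsInducing φ.left := by
    refine isInducing_of_discrete _ φ.left.continuous ?_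
    intro z
    obtain ⟨V', hV', hvV', -⟩ := exists_isAffineOpen_mem_and_subset
      (TopologicalSpace.Opens.mem_top (φ.left z))
    let b' := (AlgSp.yon S).map (opensOverι V V') ≫ b
    have hb' : AlgSp.RepWith @Etale b' := repWith_etale_yon_map_comp _ inferInstance b hb
    have hfin' := hx (opensOver V V') b' hV' hb'
    let Fset : Set ↥V.left := {v' | v' ∈ V' ∧ Points.ofPt b v' = Points.mk r}
    have hFfin : Fset.Finite := by
      refine (hfin'.image (opensOverι V V').left).subset ?_
      rintro v' ⟨hv'1, hv'2⟩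
      refine ⟨⟨v', hv'1⟩, ?_, rfl⟩
      rw [Set.mem_preimage, Set.mem_singleton_iff]
      change Points.ofPt ((AlgSp.yon S).map (opensOverι V V') ≫ b) _ = _
      rw [ofPt_yon_map_comp]
      exact hv'2
    have hcl : IsClosed (⋃ v' ∈ Fset \ {φ.left z}, closure ({v'} : Set ↥V.left)) :=
      (hFfin.subset Set.sdiff_subset).isClosed_biUnion fun _ _ => isClosed_closure
    refine ⟨(V' : Set ↥V.left) \ ⋃ v' ∈ Fset \ {φ.left z}, closure ({v'} : Set ↥V.left),
      V'.2.sdiff hcl, ?_⟩
    ext z'
    simp only [Set.mem_preimage, Set.mem_sdiff, SetLike.mem_coe, Set.mem_iUnion, exists_prop,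
      not_exists, not_and, Set.mem_singleton_iff]
    constructor
    · rintro ⟨h1, h2⟩
      by_contra hne
      have hne' : φ.left z' ≠ φ.left z := fun h => hne (hinj h)
      exact h2 (φ.left z') ⟨⟨h1, hfib z'⟩, hne'⟩ (subset_closure rfl)
    · rintro rfl
      refine ⟨hvV', ?_⟩
      rintro v' ⟨⟨hv'1, hv'2⟩, hne⟩ hmem
      have hs : v' ⤳ φ.left z' := specializes_iff_mem_closure.2 hmem
      exact hne (eq_of_specializes_of_finite_fibres_affine (Points.mk r) hx b hb (φ.left z') v'
        (hfib z') hv'2 hs).symm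
  exact { toSurjectiveOnStalks := hsos, isEmbedding := ⟨hind, hinj⟩ }

/-- A monomorphism of sheaves which on one etale surjective chart of the target is given by an
inducing map of schemes induces an embedding on points. -/
theorem isEmbedding_map_of_chart {Z X : AlgSp.Sp S} (i : Z ⟶ X) [Mono i] {U W : Over S}
    (p : (AlgSp.yon S).obj U ⟶ X) (hp : AlgSp.RepWith @Etale p)
    (hs : AlgSp.RepWith @Surjective p) (ψ : W ⟶ U) (q : (AlgSp.yon S).obj W ⟶ Z)
    (sq : IsPullback q ((AlgSp.yon S).map ψ) i p) (hψ : Topology.IsInducing ψ.left) :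
    Topology.IsEmbedding (Points.map i) := by
  have hinj : Function.Injective (Points.map i) := injective_map_of_mono i
  have hq : AlgSp.RepWith @Etale q := MorphismProperty.of_isPullback sq.flip hp
  have hqs : AlgSp.RepWith @Surjective q := MorphismProperty.of_isPullback sq.flip hs
  have hqsurj := surjective_ofPt_of_repWith_surjective q hqs
  have hpopen := isOpenMap_ofPt_of_etale p hp
  have hcomm : ∀ w : ↥W.left, Points.map i (Points.ofPt q w) = Points.ofPt p (ψ.left w) := by
    intro w
    rw [Points.map_ofPt, sq.w, ofPt_yon_map_comp]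
  have hkey : ∀ (z : Points Z) (u : ↥U.left), Points.map i z = Points.ofPt p u →
      ∃ w : ↥W.left, Points.ofPt q w = z ∧ ψ.left w = u := by
    intro z u hzu
    rw [Points.ofPt_eq_map_ofScheme] at hzu
    obtain ⟨w', hw1, hw2⟩ := exists_point_of_isPullback sq z _ hzu
    obtain ⟨w, rfl⟩ := (Points.schemeEquiv W).surjective w'
    change Points.map _ (Points.ofScheme W w) = _ at hw1
    change Points.map _ (Points.ofScheme W w) = _ at hw2
    rw [map_yon_map_ofScheme] at hw2
    refine ⟨w, ?_, ofScheme_injective U hw2⟩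
    rw [Points.ofPt_eq_map_ofScheme]; exact hw1
  refine ⟨⟨le_antisymm (continuous_iff_le_induced.1 (Points.continuous_map i)) ?_⟩, hinj⟩
  intro O hO
  have hO' : IsOpen (Points.ofPt q ⁻¹' O) := hO.preimage (Points.continuous_ofPt q)
  obtain ⟨OU, hOU, hOUeq⟩ := (hψ.isOpen_iff).1 hO'
  rw [isOpen_induced_iff]
  refine ⟨Points.ofPt p '' OU, hpopen _ hOU, ?_⟩
  ext z
  constructor
  · rintro ⟨u, hu, huz⟩
    obtain ⟨w, rfl, rfl⟩ := hkey z u huz.symm
    have : w ∈ ψ.left ⁻¹' OU := hu
    rw [hOUeq] at this
    exact this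
  · intro hz
    obtain ⟨w, rfl⟩ := hqsurj z
    have hw : w ∈ ψ.left ⁻¹' OU := by rw [hOUeq]; exact hz
    exact ⟨ψ.left w, hw, (hcomm w).symm⟩

end Groth.Agent.Lib.Helper31.AlgSpFibreEmb
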