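import Mathlib
import Groth.Prelude.Def_AlgSpDec
import Groth.Prelude.Def_AlgSp3
import Groth.Agent.Lib.Helper78.HasAtEt
import Groth.Agent.Lib.Helper51.AlgSpSpecial
import Groth.Agent.Lib.Helper51.AlgSpGeneriz
import Groth.Agent.Lib.Helper51.AlgSpCharts

/-!
# Algebraic spaces locally of finite type over a field: dimension zero and discreteness (helper31)
-/

set_option autoImplicit false
universe u

namespace Groth.Agent.Lib.Helper31.AlgSpOverField

open CategoryTheory CategoryTheory.Limits AlgebraicGeometry AlgSp
open Groth.Agent.Lib.Helper52 Groth.Agent.Lib.Helper51 Groth.Agent.Lib.Helper78.HasAtEt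

variable {S : Scheme.{u}}

/-- Etale charts of a space locally of finite type over the base are locally of finite type over
the base. -/
theorem lft_chart {X : Sp S} (p : X ⟶ (yon S).obj (Over.mk (𝟙 S)))
    (hp : LocP @LocallyOfFiniteType p) {U : Over S} (a : (yon S).obj U ⟶ X)
    (ha : RepWith @Etale a) : LocallyOfFiniteType U.hom := by
  obtain ⟨g, hg⟩ := (yon S).map_surjective (a ≫ p)
  have h1 : LocallyOfFiniteType g.left := by
    refine hp a (𝟙 _) g ha (repWith_id @Etale _) ?_
    rw [hg, Category.comp_id]
  have h2 : g.left = U.hom := by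
    have := Over.w g
    simpa using this
  rwa [h2] at h1

/-- A scheme locally of finite type over a field is locally Noetherian. -/
theorem isLocallyNoetherian_of_lft_field {k : Type u} [Field k] {U : Scheme.{u}}
    (f : U ⟶ Spec (CommRingCat.of k)) [LocallyOfFiniteType f] : IsLocallyNoetherian U :=
  LocallyOfFiniteType.isLocallyNoetherian f

/-- A scheme locally of finite type over a field is Jacobson. -/
theorem jacobsonSpace_of_lft_field {k : Type u} [Field k] {U : Scheme.{u}}
    (f : U ⟶ Spec (CommRingCat.of k)) [LocallyOfFiniteType f] : JacobsonSpace ↥U := by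
  haveI : JacobsonSpace ↥(Spec (CommRingCat.of k)) := by
    change JacobsonSpace (PrimeSpectrum k)
    rw [← PrimeSpectrum.isJacobsonRing_iff_jacobsonSpace]
    infer_instance
  exact LocallyOfFiniteType.jacobsonSpace f

/-- A locally Noetherian scheme of dimension at most zero is discrete. -/
theorem discreteTopology_of_dim_le_zero {U : Scheme.{u}} [IsLocallyNoetherian U]
    (h : topologicalKrullDim ↥U ≤ 0) : DiscreteTopology ↥U := by
  haveI := IsLocallyArtinian.of_topologicalKrullDim_le_zero h
  infer_instance

/-- The image of an open point of an etale chart is an open point. -/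
theorem isOpen_singleton_ofPt {X : Sp S} {U : Over S} (a : (yon S).obj U ⟶ X)
    (ha : RepWith @Etale a) (u : ↥U.left) (hu : IsOpen ({u} : Set ↥U.left)) :
    IsOpen ({Points.ofPt a u} : Set (Points X)) := by
  have := isOpenMap_ofPt_of_etale a ha _ hu
  rwa [Set.image_singleton] at this

/-- The order on the points of a scheme: `u ≤ u'` iff `u' ⤳ u`. -/
theorem stalk_dim_zero_iff_isMax {U : Scheme.{u}} (u : U) :
    ringKrullDim (U.presheaf.stalk u) = 0 ↔ IsMax u := by
  rw [ringKrullDim_stalk_eq_coheight, ← Order.coheight_eq_zero]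
  exact_mod_cast Iff.rfl

/-- If the point `x = a(u)` of the space is open, the local ring of a locally Noetherian etale
chart at `u` has dimension zero. -/
theorem stalk_dim_zero_of_isOpen_singleton {X : Sp S} {U : Over S} (a : (yon S).obj U ⟶ X)
    (ha : RepWith @Etale a) [IsLocallyNoetherian U.left] (u : ↥U.left)
    (hx : IsOpen ({Points.ofPt a u} : Set (Points X))) :
    ringKrullDim (U.left.presheaf.stalk u) = 0 := by
  rw [stalk_dim_zero_iff_isMax]
  by_contra hmax
  rw [not_isMax_iff] at hmax
  obtain ⟨u', huu'⟩ := hmax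
  have hs : u' ⤳ u := huu'.le
  have hs' : Points.ofPt a u' ⤳ Points.ofPt a u := hs.map (Points.continuous_ofPt a)
  have he : Points.ofPt a u' = Points.ofPt a u := hs'.mem_open hx rfl
  have hd : ringKrullDim (U.left.presheaf.stalk u') = ringKrullDim (U.left.presheaf.stalk u) :=
    (iff_of_ofPt_eq (etInv_ringKrullDim (ringKrullDim (U.left.presheaf.stalk u))) a ha a ha u' u
      he).2 rfl
  rw [ringKrullDim_stalk_eq_coheight, ringKrullDim_stalk_eq_coheight] at hd
  have hd' : Order.coheight u' = Order.coheight u := by exact_mod_cast hd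
  have hlt := Order.coheight_add_one_le huu'
  rw [hd'] at hlt
  have hfin : ringKrullDim (U.left.presheaf.stalk u) < ⊤ := ringKrullDim_lt_top
  rw [ringKrullDim_stalk_eq_coheight] at hfin
  have hfin' : Order.coheight u < ⊤ := by
    rw [← WithBot.coe_top] at hfin
    exact WithBot.coe_lt_coe.mp hfin
  exact absurd hlt (not_le.mpr (ENat.lt_add_one_iff hfin'.ne |>.mpr le_rfl))


variable {k : Type u} [Field k]

/-- If all etale charts have dimension at most zero, the space of points is discrete. -/
theorem discreteTopology_of_forall_chart_dim_le {X : Sp (Spec (CommRingCat.of k))}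
    (hX : IsAlgSpace X) (p : X ⟶ (yon _).obj (Over.mk (𝟙 _)))
    (hp : LocP @LocallyOfFiniteType p)
    (h : ∀ (U : Over (Spec (CommRingCat.of k))) (a : (yon _).obj U ⟶ X), RepWith @Etale a →
      topologicalKrullDim ↥U.left ≤ 0) : DiscreteTopology (Points X) := by
  rw [discreteTopology_iff_isOpen_singleton]
  intro x
  obtain ⟨U, a, ha, has⟩ := hX.atlas
  obtain ⟨u, rfl⟩ := surjective_ofPt_of_repWith_surjective a has x
  haveI : LocallyOfFiniteType U.hom := lft_chart p hp a ha
  haveI : IsLocallyNoetherian U.left := isLocallyNoetherian_of_lft_field U.hom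
  haveI : DiscreteTopology ↥U.left := discreteTopology_of_dim_le_zero (h U a ha)
  exact isOpen_singleton_ofPt a ha u (isOpen_discrete _)

theorem topologicalKrullDim_nonneg_of_nonempty (Y : Type*) [TopologicalSpace Y] [Nonempty Y] :
    0 ≤ topologicalKrullDim Y := by
  obtain ⟨y⟩ := ‹Nonempty Y›
  haveI : Nonempty (TopologicalSpace.IrreducibleCloseds Y) :=
    ⟨⟨closure {y}, isIrreducible_singleton.closure, isClosed_closure⟩⟩
  exact Order.krullDim_nonneg

/-- If all etale charts have dimension at most zero and the space is nonempty, its dimension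
is zero. -/
theorem dim_eq_zero_of_forall_chart_dim_le {S : Scheme.{u}} {X : Sp S}
    (hX : IsAlgSpace X) [Nonempty (Points X)]
    (h : ∀ (U : Over S) (a : (yon S).obj U ⟶ X), RepWith @Etale a →
      topologicalKrullDim ↥U.left ≤ 0) : AlgSp.dim X = 0 := by
  apply le_antisymm
  · exact iSup_le fun U => iSup_le fun a => iSup_le fun ha => h U a ha
  · obtain ⟨U, a, ha, has⟩ := hX.atlas
    obtain ⟨x⟩ := ‹Nonempty (Points X)›
    obtain ⟨u, -⟩ := surjective_ofPt_of_repWith_surjective a has x
    haveI : Nonempty ↥U.left := ⟨u⟩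
    refine (topologicalKrullDim_nonneg_of_nonempty ↥U.left).trans ?_
    exact le_iSup_of_le U (le_iSup_of_le a (le_iSup_of_le ha le_rfl))

theorem chart_dim_le_dim {S : Scheme.{u}} {X : Sp S} {U : Over S} (a : (yon S).obj U ⟶ X)
    (ha : RepWith @Etale a) : topologicalKrullDim ↥U.left ≤ AlgSp.dim X :=
  le_iSup_of_le U (le_iSup_of_le a (le_iSup_of_le ha le_rfl))

/-- If the space of points is discrete, every chart has dimension at most zero. -/
theorem chart_dim_le_zero_of_discrete {X : Sp (Spec (CommRingCat.of k))}
    (p : X ⟶ (yon _).obj (Over.mk (𝟙 _))) (hp : LocP @LocallyOfFiniteType p)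
    [DiscreteTopology (Points X)] (U : Over (Spec (CommRingCat.of k))) (a : (yon _).obj U ⟶ X)
    (ha : RepWith @Etale a) : topologicalKrullDim ↥U.left ≤ 0 := by
  haveI : LocallyOfFiniteType U.hom := lft_chart p hp a ha
  haveI : IsLocallyNoetherian U.left := isLocallyNoetherian_of_lft_field U.hom
  rw [Groth.Agent.Lib.Helper78.EtaleDim.topologicalKrullDim_eq_iSup]
  exact iSup_le fun u => (stalk_dim_zero_of_isOpen_singleton a ha u (isOpen_discrete _)).le

/-- Decent spaces: nontrivial specializations in a chart give nontrivial chains in the space of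
points. -/
theorem chart_dim_le_zero_of_decent {S : Scheme.{u}} {X : Sp S} (hX : IsAlgSpace X)
    (hd : IsDecent X) (h0 : topologicalKrullDim (Points X) ≤ 0) (U : Over S)
    (a : (yon S).obj U ⟶ X) (ha : RepWith @Etale a) : topologicalKrullDim ↥U.left ≤ 0 := by
  haveI := t0Space_points_of_isDecent hX hd
  unfold topologicalKrullDim at h0 ⊢
  rw [Order.krullDim_nonpos_iff_forall_isMax] at h0 ⊢
  intro T T' hTT'
  have hg : closure {T.2.genericPoint} = T.carrier := T.2.isGenericPoint_genericPoint T.3
  have hg' : closure {T'.2.genericPoint} = T'.carrier := T'.2.isGenericPoint_genericPoint T'.3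
  set u := T.2.genericPoint with hu
  set u' := T'.2.genericPoint with hu'
  have hs : u' ⤳ u := by
    rw [specializes_iff_mem_closure, hg']
    have hmem : u ∈ T.carrier := by rw [← hg]; exact subset_closure rfl
    exact hTT' hmem
  have hs' : Points.ofPt a u' ⤳ Points.ofPt a u := hs.map (Points.continuous_ofPt a)
  let Z : TopologicalSpace.IrreducibleCloseds (Points X) :=
    ⟨closure {Points.ofPt a u}, isIrreducible_singleton.closure, isClosed_closure⟩
  let Z' : TopologicalSpace.IrreducibleCloseds (Points X) :=
    ⟨closure {Points.ofPt a u'}, isIrreducible_singleton.closure, isClosed_closure⟩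
  have hZZ' : Z ≤ Z' := by
    change closure {Points.ofPt a u} ⊆ closure {Points.ofPt a u'}
    rw [← specializes_iff_closure_subset]
    exact hs'
  have hZ'Z : Z' ≤ Z := h0 Z hZZ'
  have hs'' : Points.ofPt a u ⤳ Points.ofPt a u' := by
    rw [specializes_iff_closure_subset]
    exact hZ'Z
  have he : Points.ofPt a u = Points.ofPt a u' := (hs''.antisymm hs').eq
  have huu' : u = u' := eq_of_specializes_of_isDecent hd a ha u u' he hs
  change T'.carrier ⊆ T.carrier
  rw [← hg, ← hg', huu']


/-- Decent spaces with finitely many points, locally of finite type over a field: every chart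
has dimension at most zero. -/
theorem chart_dim_le_zero_of_finite {X : Sp (Spec (CommRingCat.of k))}
    (p : X ⟶ (yon _).obj (Over.mk (𝟙 _))) (hp : LocP @LocallyOfFiniteType p)
    (hd : IsDecent X) [Finite (Points X)] (U : Over (Spec (CommRingCat.of k)))
    (a : (yon _).obj U ⟶ X) (ha : RepWith @Etale a) : topologicalKrullDim ↥U.left ≤ 0 := by
  unfold topologicalKrullDim
  rw [Order.krullDim_nonpos_iff_forall_isMax]
  intro T T' hTT'
  have hg : closure {T.2.genericPoint} = T.carrier := T.2.isGenericPoint_genericPoint T.3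
  have hg' : closure {T'.2.genericPoint} = T'.carrier := T'.2.isGenericPoint_genericPoint T'.3
  set u := T.2.genericPoint with hu
  set u' := T'.2.genericPoint with hu'
  have hs : u' ⤳ u := by
    rw [specializes_iff_mem_closure, hg']
    have hmem : u ∈ T.carrier := by rw [← hg]; exact subset_closure rfl
    exact hTT' hmem
  obtain ⟨U0, hU0, huU0, _⟩ := exists_isAffineOpen_mem_and_subset
    (TopologicalSpace.Opens.mem_top u)
  have hu'U0 : u' ∈ U0 := hs.mem_open U0.2 huU0
  let b := (yon _).map (opensOverι U U0) ≫ a
  have hb : RepWith @Etale b := repWith_etale_yon_map_comp _ inferInstance a ha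
  haveI : IsAffine (opensOver U U0).left := hU0
  have hfin : Finite ↥(opensOver U U0).left := by
    rw [← Set.finite_univ_iff]
    refine Set.Finite.of_finite_fibers (Points.ofPt b) (Set.toFinite _) ?_
    intro x _
    rw [Set.univ_inter]
    obtain ⟨q, hq, _, hqc⟩ := hd x
    rw [← hq]
    exact finite_fibre_of_quasiCompact_fieldPt q hqc b hb
  haveI : LocallyOfFiniteType (opensOver U U0).hom := lft_chart p hp b hb
  haveI : JacobsonSpace ↥(opensOver U U0).left :=
    jacobsonSpace_of_lft_field (opensOver U U0).hom
  haveI : DiscreteTopology ↥(opensOver U U0).left := inferInstance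
  have hsv : (⟨u', hu'U0⟩ : ↥U0) ⤳ ⟨u, huU0⟩ :=
    Topology.IsInducing.subtypeVal.specializes_iff.mp hs
  haveI : DiscreteTopology ↥U0 := ‹DiscreteTopology ↥(opensOver U U0).left›
  have heq : (⟨u', hu'U0⟩ : ↥U0) = ⟨u, huU0⟩ := hsv.eq
  have huu' : u' = u := congrArg Subtype.val heq
  change T'.carrier ⊆ T.carrier
  rw [← hg, ← hg', huu']

end Groth.Agent.Lib.Helper31.AlgSpOverField
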