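import Mathlib
import Groth.Prelude.Def_AlgSpDec
import Groth.Prelude.Def_AlgSp3
import Groth.Prelude.Def_Flat
import Groth.Agent.Lib.Helper31.AlgSpOverField
import Groth.Agent.Lib.Helper38.ImmDescent

/-!
# Algebraic spaces locally of finite type over a field: isolated points (helper31)
-/

set_option autoImplicit false
universe u

namespace Groth.Agent.Lib.Helper31.AlgSpOverField

open CategoryTheory CategoryTheory.Limits AlgebraicGeometry AlgSp
open Groth.Agent.Lib.Helper52 Groth.Agent.Lib.Helper51 Groth.Agent.Lib.Helper78.HasAtEt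

section Top

theorem one_le_of_not_le_zero (a : WithBot ℕ∞) (h : ¬ a ≤ 0) : 1 ≤ a := by
  induction a using WithBot.recBotCoe with
  | bot => exact absurd bot_le h
  | coe n =>
    have h' : ¬ n ≤ 0 := fun hn => h (by exact_mod_cast hn)
    have : 1 ≤ n := by
      rw [Order.one_le_iff_ne_zero]
      intro h0
      exact h' (h0 ▸ le_rfl)
    exact_mod_cast this

theorem exists_open_dim_le_zero_of_localDim_eq_zero {Y : Type*} [TopologicalSpace Y] (y : Y)
    (h : FlatMor.localDim Y y = 0) :
    ∃ W : TopologicalSpace.Opens Y, y ∈ W ∧ topologicalKrullDim (W : Set Y) ≤ 0 := by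
  by_contra hne
  push Not at hne
  have h1 : (1 : WithBot ℕ∞) ≤ FlatMor.localDim Y y :=
    le_iInf fun W => one_le_of_not_le_zero _ (not_le.mpr (hne W.1 W.2))
  rw [h] at h1
  exact absurd h1 (by simp)

theorem localDim_nonneg {Y : Type*} [TopologicalSpace Y] (y : Y) : 0 ≤ FlatMor.localDim Y y := by
  refine le_iInf fun W => ?_
  haveI : Nonempty ↥(W.1 : Set Y) := ⟨⟨y, W.2⟩⟩
  exact topologicalKrullDim_nonneg_of_nonempty _

theorem localDim_eq_zero_of_isOpen_singleton {Y : Type*} [TopologicalSpace Y] (y : Y)
    (h : IsOpen ({y} : Set Y)) : FlatMor.localDim Y y = 0 := by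
  refine le_antisymm ?_ (localDim_nonneg y)
  refine iInf_le_of_le ⟨⟨{y}, h⟩, rfl⟩ ?_
  haveI : DiscreteTopology ↥(({y} : Set Y)) := inferInstance
  exact topologicalKrullDim_zero_of_discreteTopology _

/-- In a Noetherian quasi-sober space, a closed subset stable under generization is open. -/
theorem isOpen_of_isClosed_of_stableUnderGeneralization {Y : Type*} [TopologicalSpace Y]
    [TopologicalSpace.NoetherianSpace Y] [QuasiSober Y] {F : Set Y} (hc : IsClosed F)
    (hg : StableUnderGeneralization F) : IsOpen F := by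
  rw [← isClosed_compl_iff]
  have hfin := TopologicalSpace.NoetherianSpace.finite_irreducibleComponents (α := Y)
  have heq : Fᶜ = ⋃ Z ∈ {Z ∈ irreducibleComponents Y | Disjoint Z F}, Z := by
    ext w
    simp only [Set.mem_compl_iff, Set.mem_iUnion, Set.mem_ofPred_eq, exists_prop]
    constructor
    · intro hw
      refine ⟨irreducibleComponent w, ⟨irreducibleComponent_mem_irreducibleComponents w, ?_⟩,
        mem_irreducibleComponent⟩
      rw [Set.disjoint_left]
      intro z hzZ hzF
      have hgen := (isIrreducible_irreducibleComponent (x := w)).isGenericPoint_genericPoint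
        isClosed_irreducibleComponent
      set η := (isIrreducible_irreducibleComponent (x := w)).genericPoint
      have h1 : η ⤳ z := by
        rw [specializes_iff_mem_closure, hgen.def]
        exact hzZ
      have h2 : η ∈ F := hg h1 hzF
      have h3 : irreducibleComponent w ⊆ F := by
        rw [← hgen.def]
        exact hc.closure_subset_iff.mpr (Set.singleton_subset_iff.mpr h2)
      exact hw (h3 mem_irreducibleComponent)
    · rintro ⟨Z, ⟨-, hZ⟩, hwZ⟩ hwF
      exact Set.disjoint_left.mp hZ hwZ hwF
  rw [heq]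
  refine Set.Finite.isClosed_biUnion (hfin.subset fun Z h => h.1) fun Z hZ => ?_
  exact isClosed_of_mem_irreducibleComponents Z hZ.1

end Top

section Sch

/-- In a locally Noetherian scheme, a point of local dimension zero is open. -/
theorem isOpen_singleton_of_localDim_eq_zero {U : Scheme.{u}} [IsLocallyNoetherian U] (u : U)
    (h : FlatMor.localDim ↥U u = 0) : IsOpen ({u} : Set ↥U) := by
  obtain ⟨W0, huW, hW⟩ := exists_open_dim_le_zero_of_localDim_eq_zero u h
  let W : U.Opens := W0
  have hW' : topologicalKrullDim ↥W.toScheme ≤ 0 := hW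
  haveI : DiscreteTopology ↥W.toScheme := discreteTopology_of_dim_le_zero hW'
  haveI hd : DiscreteTopology ↥W := ‹DiscreteTopology ↥W.toScheme›
  have h1 : IsOpen ({⟨u, huW⟩} : Set ↥W) := isOpen_discrete _
  have h2 := W.2.isOpenEmbedding_subtypeVal.isOpenMap _ h1
  rwa [Set.image_singleton] at h2

end Sch

section Sp

variable {k : Type u} [Field k]

/-- An open subscheme of a chart as a chart. -/
theorem exists_open_subchart {S : Scheme.{u}} {X : Sp S} {U : Over S} (a : (yon S).obj U ⟶ X)
    (ha : RepWith @Etale a) (W : U.left.Opens) :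
    ∃ (b : (yon S).obj (opensOver U W) ⟶ X), RepWith @Etale b ∧
      ∀ w : ↥(opensOver U W).left, Points.ofPt b w = Points.ofPt a (w : ↥W).1 := by
  refine ⟨(yon S).map (opensOverι U W) ≫ a, repWith_etale_yon_map_comp _ inferInstance a ha, ?_⟩
  intro w
  rw [ofPt_yon_map_comp]
  rfl

/-- If `x = a(u)` is an open point of the space, the chart has local dimension zero at `u`. -/
theorem localDim_chart_eq_zero_of_isOpen {S : Scheme.{u}} {X : Sp S} {U : Over S}
    (a : (yon S).obj U ⟶ X) (ha : RepWith @Etale a) [IsLocallyNoetherian U.left] (u : ↥U.left)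
    (hx : IsOpen ({Points.ofPt a u} : Set (Points X))) : FlatMor.localDim ↥U.left u = 0 := by
  let W : U.left.Opens :=
    ⟨Points.ofPt a ⁻¹' {Points.ofPt a u}, hx.preimage (Points.continuous_ofPt a)⟩
  refine le_antisymm ?_ (localDim_nonneg u)
  refine iInf_le_of_le ⟨W, rfl⟩ ?_
  change topologicalKrullDim ↥(W.1 : Set ↥U.left) ≤ 0
  rw [Groth.Agent.Lib.Helper78.EtaleDim.topologicalKrullDim_open_eq_iSup W]
  refine iSup_le fun w' => ?_
  have hw'' : Points.ofPt a w'.1 = Points.ofPt a u := w'.2
  have hxw' : IsOpen ({Points.ofPt a w'.1} : Set (Points X)) := by rw [hw'']; exact hx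
  exact (stalk_dim_zero_of_isOpen_singleton a ha w'.1 hxw').le

/-- An open point is closed (spaces locally of finite type over a field). -/
theorem isClosed_singleton_of_isOpen {X : Sp (Spec (CommRingCat.of k))} (hX : IsAlgSpace X)
    (p : X ⟶ (yon _).obj (Over.mk (𝟙 _))) (hp : LocP @LocallyOfFiniteType p) (x : Points X)
    (hx : IsOpen ({x} : Set (Points X))) : IsClosed ({x} : Set (Points X)) := by
  obtain ⟨V, b, hb, hbs⟩ := hX.atlas
  haveI : LocallyOfFiniteType V.hom := lft_chart p hp b hb
  haveI : IsLocallyNoetherian V.left := isLocallyNoetherian_of_lft_field V.hom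
  haveI : JacobsonSpace ↥V.left := jacobsonSpace_of_lft_field V.hom
  let W : V.left.Opens := ⟨Points.ofPt b ⁻¹' {x}, hx.preimage (Points.continuous_ofPt b)⟩
  -- every point of `W` is closed in `V`
  have hclosed : ∀ w : ↥V.left, w ∈ W → IsClosed ({w} : Set ↥V.left) := by
    intro w hw
    have hw' : Points.ofPt b w = x := hw
    have hxw : IsOpen ({Points.ofPt b w} : Set (Points X)) := by rw [hw']; exact hx
    have hdim : FlatMor.localDim ↥V.left w = 0 := localDim_chart_eq_zero_of_isOpen b hb w hxw
    have hopen := isOpen_singleton_of_localDim_eq_zero w hdim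
    exact isClosed_singleton_of_isLocallyClosed_singleton hopen.isLocallyClosed
  -- hence `W` is closed
  have hWc : IsClosed (W : Set ↥V.left) := by
    apply isClosed_of_closure_subset
    intro v hv
    have hv' : v ∈ closure (Set.range W.ι) := by
      rwa [Scheme.Opens.range_ι]
    obtain ⟨w, hw⟩ := Groth.Agent.Lib.Helper38.ImmDescent.exists_specializes_of_mem_closure_range
      W.ι hv'
    have h1 : IsClosed ({W.ι w} : Set ↥V.left) := hclosed _ w.2
    have h2 : v ∈ ({W.ι w} : Set ↥V.left) := by
      rw [← h1.closure_eq, ← specializes_iff_mem_closure]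
      exact hw
    rw [Set.mem_singleton_iff] at h2
    rw [h2]
    exact w.2
  rw [← isOpen_compl_iff]
  have heq : ({x} : Set (Points X))ᶜ = Points.ofPt b '' ((W : Set ↥V.left)ᶜ) := by
    ext y
    constructor
    · intro hy
      obtain ⟨v, rfl⟩ := surjective_ofPt_of_repWith_surjective b hbs y
      exact ⟨v, fun hv => hy hv, rfl⟩
    · rintro ⟨v, hv, rfl⟩
      exact fun h => hv h
  rw [heq]
  exact isOpenMap_ofPt_of_etale b hb _ hWc.isOpen_compl

/-- A closed point without proper generizations is open. -/
theorem isOpen_singleton_of_isClosed {X : Sp (Spec (CommRingCat.of k))} (hX : IsAlgSpace X)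
    (p : X ⟶ (yon _).obj (Over.mk (𝟙 _))) (hp : LocP @LocallyOfFiniteType p) (x : Points X)
    (hc : IsClosed ({x} : Set (Points X))) (hg : ∀ x' : Points X, x' ⤳ x → x' = x) :
    IsOpen ({x} : Set (Points X)) := by
  obtain ⟨U, a, ha, has⟩ := hX.atlas
  obtain ⟨u, hu⟩ := surjective_ofPt_of_repWith_surjective a has x
  haveI : LocallyOfFiniteType U.hom := lft_chart p hp a ha
  haveI : IsLocallyNoetherian U.left := isLocallyNoetherian_of_lft_field U.hom
  obtain ⟨U0, hU0, huU0, _⟩ := exists_isAffineOpen_mem_and_subset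
    (TopologicalSpace.Opens.mem_top u)
  haveI : IsNoetherianRing Γ(U.left, U0) := IsLocallyNoetherian.component_noetherian ⟨U0, hU0⟩
  haveI : TopologicalSpace.NoetherianSpace ↥U0 := noetherianSpace_of_isAffineOpen U0 hU0
  haveI : QuasiSober ↥U0 := U0.2.isOpenEmbedding_subtypeVal.quasiSober
  let F0 : Set ↥U0 := {w | Points.ofPt a w.1 = x}
  have hF0c : IsClosed F0 :=
    (hc.preimage (Points.continuous_ofPt a)).preimage continuous_subtype_val
  have hF0g : StableUnderGeneralization F0 := by
    intro w w' hw'w hw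
    have h1 : w'.1 ⤳ w.1 := hw'w.map continuous_subtype_val
    have h2 : Points.ofPt a w'.1 ⤳ Points.ofPt a w.1 := h1.map (Points.continuous_ofPt a)
    have hw0 : Points.ofPt a w.1 = x := hw
    rw [hw0] at h2
    exact hg _ h2
  have hF0o := isOpen_of_isClosed_of_stableUnderGeneralization hF0c hF0g
  have h2 := U0.2.isOpenEmbedding_subtypeVal.isOpenMap _ hF0o
  have h3 := isOpenMap_ofPt_of_etale a ha _ h2
  have h4 : Points.ofPt a '' (Subtype.val '' F0) = {x} := by
    ext y
    constructor
    · rintro ⟨_, ⟨w, hw, rfl⟩, rfl⟩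
      exact hw
    · intro hy
      rw [Set.mem_singleton_iff] at hy
      exact ⟨u, ⟨⟨u, huU0⟩, hu, rfl⟩, hu.trans hy.symm⟩
  exact (congrArg IsOpen h4).mp h3

/-- Isolated points are the points of dimension zero. -/
theorem isOpen_singleton_iff_hasAt_localDim {X : Sp (Spec (CommRingCat.of k))}
    (hX : IsAlgSpace X) (p : X ⟶ (yon _).obj (Over.mk (𝟙 _)))
    (hp : LocP @LocallyOfFiniteType p) (x : Points X) :
    IsOpen ({x} : Set (Points X)) ↔ HasAt (fun U u => FlatMor.localDim ↥U u = 0) X x := by
  constructor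
  · intro hx
    obtain ⟨U, a, ha, has⟩ := hX.atlas
    obtain ⟨u, hu⟩ := surjective_ofPt_of_repWith_surjective a has x
    haveI : LocallyOfFiniteType U.hom := lft_chart p hp a ha
    haveI : IsLocallyNoetherian U.left := isLocallyNoetherian_of_lft_field U.hom
    refine ⟨U, a, u, ha, hu, localDim_chart_eq_zero_of_isOpen a ha u ?_⟩
    rw [hu]
    exact hx
  · rintro ⟨U, a, u, ha, hu, hd⟩
    haveI : LocallyOfFiniteType U.hom := lft_chart p hp a ha
    haveI : IsLocallyNoetherian U.left := isLocallyNoetherian_of_lft_field U.hom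
    have := isOpen_singleton_of_localDim_eq_zero u hd
    rw [← hu]
    exact isOpen_singleton_ofPt a ha u this

/-- Decent spaces: a chart landing in a subset of dimension at most zero has dimension at most
zero. -/
theorem chart_dim_le_zero_of_decent_of_subset {S : Scheme.{u}} {X : Sp S} (hX : IsAlgSpace X)
    (hd : IsDecent X) (W : Set (Points X)) (h0 : topologicalKrullDim ↥W ≤ 0) (U : Over S)
    (a : (yon S).obj U ⟶ X) (ha : RepWith @Etale a) (hW : ∀ u : ↥U.left, Points.ofPt a u ∈ W) :
    topologicalKrullDim ↥U.left ≤ 0 := by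
  haveI := t0Space_points_of_isDecent hX hd
  unfold topologicalKrullDim at h0 ⊢
  rw [Order.krullDim_nonpos_iff_forall_isMax] at h0 ⊢
  intro T T' hTT'
  have hg : closure {T.2.genericPoint} = T.carrier := T.2.isGenericPoint_genericPoint T.3
  have hg' : closure {T'.2.genericPoint} = T'.carrier := T'.2.isGenericPoint_genericPoint T'.3
  set u := T.2.genericPoint with hu
  set u' := T'.2.genericPoint with hu'
  have hs : u' ⤳ u := by
    rw [specializes_iff_mem_closure, hg']
    have hmem : u ∈ T.carrier := by rw [← hg]; exact subset_closure rfl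
    exact hTT' hmem
  let g : ↥U.left → ↥W := fun v => ⟨Points.ofPt a v, hW v⟩
  have hgc : Continuous g := (Points.continuous_ofPt a).subtype_mk hW
  have hs' : g u' ⤳ g u := hs.map hgc
  let Z : TopologicalSpace.IrreducibleCloseds ↥W :=
    ⟨closure {g u}, isIrreducible_singleton.closure, isClosed_closure⟩
  let Z' : TopologicalSpace.IrreducibleCloseds ↥W :=
    ⟨closure {g u'}, isIrreducible_singleton.closure, isClosed_closure⟩
  have hZZ' : Z ≤ Z' := by
    change closure {g u} ⊆ closure {g u'}
    rw [← specializes_iff_closure_subset]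
    exact hs'
  have hZ'Z : Z' ≤ Z := h0 Z hZZ'
  have hs'' : g u ⤳ g u' := by
    rw [specializes_iff_closure_subset]
    exact hZ'Z
  have he0 : g u = g u' := (hs''.antisymm hs').eq
  have he : Points.ofPt a u = Points.ofPt a u' := congrArg Subtype.val he0
  have huu' : u = u' := eq_of_specializes_of_isDecent hd a ha u u' he hs
  change T'.carrier ⊆ T.carrier
  rw [← hg, ← hg', huu']

/-- Decent spaces: a point of local dimension zero of the space of points is open. -/
theorem isOpen_singleton_of_localDim_points_eq_zero {X : Sp (Spec (CommRingCat.of k))}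
    (hX : IsAlgSpace X) (p : X ⟶ (yon _).obj (Over.mk (𝟙 _)))
    (hp : LocP @LocallyOfFiniteType p) (hd : IsDecent X) (x : Points X)
    (h : FlatMor.localDim (Points X) x = 0) : IsOpen ({x} : Set (Points X)) := by
  obtain ⟨W, hxW, hW⟩ := exists_open_dim_le_zero_of_localDim_eq_zero x h
  obtain ⟨U, a, ha, has⟩ := hX.atlas
  obtain ⟨u, hu⟩ := surjective_ofPt_of_repWith_surjective a has x
  let U' : U.left.Opens := ⟨Points.ofPt a ⁻¹' W, W.2.preimage (Points.continuous_ofPt a)⟩
  have huU' : u ∈ U' := by
    change Points.ofPt a u ∈ W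
    rw [hu]; exact hxW
  obtain ⟨b, hb, hbw⟩ := exists_open_subchart a ha U'
  have hbW : ∀ w : ↥(opensOver U U').left, Points.ofPt b w ∈ (W : Set (Points X)) := by
    intro w
    rw [hbw w]
    exact (w : ↥U').2
  have hdim := chart_dim_le_zero_of_decent_of_subset hX hd (W : Set (Points X)) hW _ b hb hbW
  haveI : LocallyOfFiniteType (opensOver U U').hom := lft_chart p hp b hb
  haveI : IsLocallyNoetherian (opensOver U U').left :=
    isLocallyNoetherian_of_lft_field (opensOver U U').hom
  haveI : DiscreteTopology ↥(opensOver U U').left := discreteTopology_of_dim_le_zero hdim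
  have h1 := isOpen_singleton_ofPt b hb (⟨u, huU'⟩ : ↥U') (isOpen_discrete _)
  have h2 : Points.ofPt b (⟨u, huU'⟩ : ↥U') = x := (hbw _).trans hu
  rwa [h2] at h1

end Sp

end Groth.Agent.Lib.Helper31.AlgSpOverField
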