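import Mathlib
import Groth.Agent.Lib.Helper31.AlgSpOverField2

/-!
# Algebraic spaces all of whose etale charts are locally Noetherian and Jacobson: dimension zero,
discreteness and isolated points (helper31; generalisation of `AlgSpOverField`, `AlgSpOverField2`
to an arbitrary base)
-/

set_option autoImplicit false
universe u

namespace Groth.Agent.Lib.Helper31.AlgSpNJ

open CategoryTheory CategoryTheory.Limits AlgebraicGeometry AlgSp
open Groth.Agent.Lib.Helper52 Groth.Agent.Lib.Helper51 Groth.Agent.Lib.Helper78.HasAtEt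
open Groth.Agent.Lib.Helper31.AlgSpOverField

/-- All etale scheme charts of `X` are locally Noetherian and Jacobson. -/
def ChartsNJ {S : Scheme.{u}} (X : Sp S) : Prop :=
  ∀ (U : Over S) (a : (yon S).obj U ⟶ X), RepWith @Etale a →
    IsLocallyNoetherian U.left ∧ JacobsonSpace ↥U.left

/-- If all etale charts have dimension at most zero, the space of points is discrete. -/
theorem discreteTopology_of_forall_chart_dim_le {S : Scheme.{u}} {X : Sp S}
    (hX : IsAlgSpace X) (H : ChartsNJ X)
    (h : ∀ (U : Over S) (a : (yon _).obj U ⟶ X), RepWith @Etale a →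
      topologicalKrullDim ↥U.left ≤ 0) : DiscreteTopology (Points X) := by
  rw [discreteTopology_iff_isOpen_singleton]
  intro x
  obtain ⟨U, a, ha, has⟩ := hX.atlas
  obtain ⟨u, rfl⟩ := surjective_ofPt_of_repWith_surjective a has x
  have hNJ := H _ a ha
  haveI : IsLocallyNoetherian U.left := hNJ.1
  haveI : DiscreteTopology ↥U.left := discreteTopology_of_dim_le_zero (h U a ha)
  exact isOpen_singleton_ofPt a ha u (isOpen_discrete _)

/-- If the space of points is discrete, every chart has dimension at most zero. -/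
theorem chart_dim_le_zero_of_discrete {S : Scheme.{u}} {X : Sp S}
    (H : ChartsNJ X)
    [DiscreteTopology (Points X)] (U : Over S) (a : (yon _).obj U ⟶ X)
    (ha : RepWith @Etale a) : topologicalKrullDim ↥U.left ≤ 0 := by
  have hNJ := H _ a ha
  haveI : IsLocallyNoetherian U.left := hNJ.1
  rw [Groth.Agent.Lib.Helper78.EtaleDim.topologicalKrullDim_eq_iSup]
  exact iSup_le fun u => (stalk_dim_zero_of_isOpen_singleton a ha u (isOpen_discrete _)).le

/-- Decent spaces with finitely many points, locally of finite type over a field: every chart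
has dimension at most zero. -/
theorem chart_dim_le_zero_of_finite {S : Scheme.{u}} {X : Sp S}
    (H : ChartsNJ X)
    (hd : IsDecent X) [Finite (Points X)] (U : Over S)
    (a : (yon _).obj U ⟶ X) (ha : RepWith @Etale a) : topologicalKrullDim ↥U.left ≤ 0 := by
  unfold topologicalKrullDim
  rw [Order.krullDim_nonpos_iff_forall_isMax]
  intro T T' hTT'
  have hg : closure {T.2.genericPoint} = T.carrier := T.2.isGenericPoint_genericPoint T.3
  have hg' : closure {T'.2.genericPoint} = T'.carrier := T'.2.isGenericPoint_genericPoint T'.3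
  set u := T.2.genericPoint with hu
  set u' := T'.2.genericPoint with hu'
  have hs : u' ⤳ u := by
    rw [specializes_iff_mem_closure, hg']
    have hmem : u ∈ T.carrier := by rw [← hg]; exact subset_closure rfl
    exact hTT' hmem
  obtain ⟨U0, hU0, huU0, _⟩ := exists_isAffineOpen_mem_and_subset
    (TopologicalSpace.Opens.mem_top u)
  have hu'U0 : u' ∈ U0 := hs.mem_open U0.2 huU0
  let b := (yon _).map (opensOverι U U0) ≫ a
  have hb : RepWith @Etale b := repWith_etale_yon_map_comp _ inferInstance a ha
  haveI : IsAffine (opensOver U U0).left := hU0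
  have hfin : Finite ↥(opensOver U U0).left := by
    rw [← Set.finite_univ_iff]
    refine Set.Finite.of_finite_fibers (Points.ofPt b) (Set.toFinite _) ?_
    intro x _
    rw [Set.univ_inter]
    obtain ⟨q, hq, _, hqc⟩ := hd x
    rw [← hq]
    exact finite_fibre_of_quasiCompact_fieldPt q hqc b hb
  have hNJ := H _ b hb
  haveI : JacobsonSpace ↥(opensOver U U0).left := hNJ.2
  haveI : DiscreteTopology ↥(opensOver U U0).left := inferInstance
  have hsv : (⟨u', hu'U0⟩ : ↥U0) ⤳ ⟨u, huU0⟩ :=
    Topology.IsInducing.subtypeVal.specializes_iff.mp hs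
  haveI : DiscreteTopology ↥U0 := ‹DiscreteTopology ↥(opensOver U U0).left›
  have heq : (⟨u', hu'U0⟩ : ↥U0) = ⟨u, huU0⟩ := hsv.eq
  have huu' : u' = u := congrArg Subtype.val heq
  change T'.carrier ⊆ T.carrier
  rw [← hg, ← hg', huu']

/-- An open point is closed (spaces locally of finite type over a field). -/
theorem isClosed_singleton_of_isOpen {S : Scheme.{u}} {X : Sp S} (hX : IsAlgSpace X)
    (H : ChartsNJ X) (x : Points X)
    (hx : IsOpen ({x} : Set (Points X))) : IsClosed ({x} : Set (Points X)) := by
  obtain ⟨V, b, hb, hbs⟩ := hX.atlas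
  have hNJ := H _ b hb
  haveI : IsLocallyNoetherian V.left := hNJ.1
  haveI : JacobsonSpace ↥V.left := hNJ.2
  let W : V.left.Opens := ⟨Points.ofPt b ⁻¹' {x}, hx.preimage (Points.continuous_ofPt b)⟩
  -- every point of `W` is closed in `V`
  have hclosed : ∀ w : ↥V.left, w ∈ W → IsClosed ({w} : Set ↥V.left) := by
    intro w hw
    have hw' : Points.ofPt b w = x := hw
    have hxw : IsOpen ({Points.ofPt b w} : Set (Points X)) := by rw [hw']; exact hx
    have hdim : FlatMor.localDim ↥V.left w = 0 := localDim_chart_eq_zero_of_isOpen b hb w hxw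
    have hopen := isOpen_singleton_of_localDim_eq_zero w hdim
    exact isClosed_singleton_of_isLocallyClosed_singleton hopen.isLocallyClosed
  -- hence `W` is closed
  have hWc : IsClosed (W : Set ↥V.left) := by
    apply isClosed_of_closure_subset
    intro v hv
    have hv' : v ∈ closure (Set.range W.ι) := by
      rwa [Scheme.Opens.range_ι]
    obtain ⟨w, hw⟩ := Groth.Agent.Lib.Helper38.ImmDescent.exists_specializes_of_mem_closure_range
      W.ι hv'
    have h1 : IsClosed ({W.ι w} : Set ↥V.left) := hclosed _ w.2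
    have h2 : v ∈ ({W.ι w} : Set ↥V.left) := by
      rw [← h1.closure_eq, ← specializes_iff_mem_closure]
      exact hw
    rw [Set.mem_singleton_iff] at h2
    rw [h2]
    exact w.2
  rw [← isOpen_compl_iff]
  have heq : ({x} : Set (Points X))ᶜ = Points.ofPt b '' ((W : Set ↥V.left)ᶜ) := by
    ext y
    constructor
    · intro hy
      obtain ⟨v, rfl⟩ := surjective_ofPt_of_repWith_surjective b hbs y
      exact ⟨v, fun hv => hy hv, rfl⟩
    · rintro ⟨v, hv, rfl⟩
      exact fun h => hv h
  rw [heq]
  exact isOpenMap_ofPt_of_etale b hb _ hWc.isOpen_compl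

/-- A closed point without proper generizations is open. -/
theorem isOpen_singleton_of_isClosed {S : Scheme.{u}} {X : Sp S} (hX : IsAlgSpace X)
    (H : ChartsNJ X) (x : Points X)
    (hc : IsClosed ({x} : Set (Points X))) (hg : ∀ x' : Points X, x' ⤳ x → x' = x) :
    IsOpen ({x} : Set (Points X)) := by
  obtain ⟨U, a, ha, has⟩ := hX.atlas
  obtain ⟨u, hu⟩ := surjective_ofPt_of_repWith_surjective a has x
  have hNJ := H _ a ha
  haveI : IsLocallyNoetherian U.left := hNJ.1
  obtain ⟨U0, hU0, huU0, _⟩ := exists_isAffineOpen_mem_and_subset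
    (TopologicalSpace.Opens.mem_top u)
  haveI : IsNoetherianRing Γ(U.left, U0) := IsLocallyNoetherian.component_noetherian ⟨U0, hU0⟩
  haveI : TopologicalSpace.NoetherianSpace ↥U0 := noetherianSpace_of_isAffineOpen U0 hU0
  haveI : QuasiSober ↥U0 := U0.2.isOpenEmbedding_subtypeVal.quasiSober
  let F0 : Set ↥U0 := {w | Points.ofPt a w.1 = x}
  have hF0c : IsClosed F0 :=
    (hc.preimage (Points.continuous_ofPt a)).preimage continuous_subtype_val
  have hF0g : StableUnderGeneralization F0 := by
    intro w w' hw'w hw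
    have h1 : w'.1 ⤳ w.1 := hw'w.map continuous_subtype_val
    have h2 : Points.ofPt a w'.1 ⤳ Points.ofPt a w.1 := h1.map (Points.continuous_ofPt a)
    have hw0 : Points.ofPt a w.1 = x := hw
    rw [hw0] at h2
    exact hg _ h2
  have hF0o := isOpen_of_isClosed_of_stableUnderGeneralization hF0c hF0g
  have h2 := U0.2.isOpenEmbedding_subtypeVal.isOpenMap _ hF0o
  have h3 := isOpenMap_ofPt_of_etale a ha _ h2
  have h4 : Points.ofPt a '' (Subtype.val '' F0) = {x} := by
    ext y
    constructor
    · rintro ⟨_, ⟨w, hw, rfl⟩, rfl⟩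
      exact hw
    · intro hy
      rw [Set.mem_singleton_iff] at hy
      exact ⟨u, ⟨⟨u, huU0⟩, hu, rfl⟩, hu.trans hy.symm⟩
  exact (congrArg IsOpen h4).mp h3

/-- Isolated points are the points of dimension zero. -/
theorem isOpen_singleton_iff_hasAt_localDim {S : Scheme.{u}} {X : Sp S}
    (hX : IsAlgSpace X) (H : ChartsNJ X) (x : Points X) :
    IsOpen ({x} : Set (Points X)) ↔ HasAt (fun U u => FlatMor.localDim ↥U u = 0) X x := by
  constructor
  · intro hx
    obtain ⟨U, a, ha, has⟩ := hX.atlas
    obtain ⟨u, hu⟩ := surjective_ofPt_of_repWith_surjective a has x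
    have hNJ := H _ a ha
    haveI : IsLocallyNoetherian U.left := hNJ.1
    refine ⟨U, a, u, ha, hu, localDim_chart_eq_zero_of_isOpen a ha u ?_⟩
    rw [hu]
    exact hx
  · rintro ⟨U, a, u, ha, hu, hd⟩
    have hNJ := H _ a ha
    haveI : IsLocallyNoetherian U.left := hNJ.1
    have := isOpen_singleton_of_localDim_eq_zero u hd
    rw [← hu]
    exact isOpen_singleton_ofPt a ha u this

/-- Decent spaces: a point of local dimension zero of the space of points is open. -/
theorem isOpen_singleton_of_localDim_points_eq_zero {S : Scheme.{u}} {X : Sp S}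
    (hX : IsAlgSpace X) (H : ChartsNJ X) (hd : IsDecent X) (x : Points X)
    (h : FlatMor.localDim (Points X) x = 0) : IsOpen ({x} : Set (Points X)) := by
  obtain ⟨W, hxW, hW⟩ := exists_open_dim_le_zero_of_localDim_eq_zero x h
  obtain ⟨U, a, ha, has⟩ := hX.atlas
  obtain ⟨u, hu⟩ := surjective_ofPt_of_repWith_surjective a has x
  let U' : U.left.Opens := ⟨Points.ofPt a ⁻¹' W, W.2.preimage (Points.continuous_ofPt a)⟩
  have huU' : u ∈ U' := by
    change Points.ofPt a u ∈ W
    rw [hu]; exact hxW
  obtain ⟨b, hb, hbw⟩ := exists_open_subchart a ha U'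
  have hbW : ∀ w : ↥(opensOver U U').left, Points.ofPt b w ∈ (W : Set (Points X)) := by
    intro w
    rw [hbw w]
    exact (w : ↥U').2
  have hdim := chart_dim_le_zero_of_decent_of_subset hX hd (W : Set (Points X)) hW _ b hb hbW
  have hNJ := H _ b hb
  haveI : IsLocallyNoetherian (opensOver U U').left := hNJ.1
  haveI : DiscreteTopology ↥(opensOver U U').left := discreteTopology_of_dim_le_zero hdim
  have h1 := isOpen_singleton_ofPt b hb (⟨u, huU'⟩ : ↥U') (isOpen_discrete _)
  have h2 : Points.ofPt b (⟨u, huU'⟩ : ↥U') = x := (hbw _).trans hu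
  rwa [h2] at h1

end Groth.Agent.Lib.Helper31.AlgSpNJ
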