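import Mathlib
import Groth.Agent.Lib.Helper31.AlgSpOverField3
import Groth.Agent.Lib.Helper31.AlgSpFibreEmb
import Groth.Agent.Lib.Helper98.AlgSpLqf
import Groth.Agent.Lib.Helper98.AlgSpPtLocal
import Groth.Agent.Lib.Helper78.AlgSpLocP3
import Groth.Agent.Lib.Helper78.AlgSpLocPLoft
import Groth.Agent.Lib.Helper78.AlgSpFibre
import Groth.Agent.Lib.Helper51.AlgSpDecent
import Groth.Agent.Lib.Helper62.DimLoc4

/-!
# Fibres of a morphism locally of finite type of algebraic spaces over a field point (helper31)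
-/

set_option autoImplicit false
universe u

namespace Groth.Agent.Lib.Helper31.AlgSpFibreRel

open CategoryTheory CategoryTheory.Limits AlgebraicGeometry AlgSp
open Groth.Agent.Lib.Helper52 Groth.Agent.Lib.Helper51 Groth.Agent.Lib.Helper78.HasAtEt
open Groth.Agent.Lib.Helper31.AlgSpOverField Groth.Agent.Lib.Helper31.AlgSpNJ
open Groth.Agent.Lib.Helper31.AlgSpFlatAt Groth.Agent.Lib.Helper31.AlgSpFibreEmb
open Groth.Agent.Lib.Helper98.AlgSpPtLocal Groth.Agent.Lib.Helper98.AlgSpLqf
open Groth.Agent.Lib.Helper78.AlgSpFibre Groth.Agent.Lib.Helper78.AlgSpLocP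
  Groth.Agent.Lib.Helper78.AlgSpLocPLoft

section Top

variable {A B : Type*} [TopologicalSpace A] [TopologicalSpace B] (e : A ≃ₜ B) (a : A)

theorem homeo_isOpen_singleton : IsOpen ({e a} : Set B) ↔ IsOpen ({a} : Set A) := by
  rw [← e.isOpen_preimage]
  have : e ⁻¹' {e a} = {a} := by
    ext z; simp
  rw [this]

theorem homeo_isClosed_singleton : IsClosed ({e a} : Set B) ↔ IsClosed ({a} : Set A) := by
  rw [← e.isClosed_preimage]
  have : e ⁻¹' {e a} = {a} := by
    ext z; simp
  rw [this]

theorem homeo_noGen : (∀ b' : B, b' ⤳ e a → b' = e a) ↔ (∀ a' : A, a' ⤳ a → a' = a) := by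
  constructor
  · intro h a' ha'
    exact e.injective (h (e a') (ha'.map e.continuous))
  · intro h b' hb'
    have h1 : e.symm b' ⤳ e.symm (e a) := hb'.map e.symm.continuous
    rw [e.symm_apply_apply] at h1
    have := h _ h1
    rw [← this, e.apply_symm_apply]

theorem homeo_localDim : FlatMor.localDim B (e a) = FlatMor.localDim A a :=
  (Groth.Agent.Lib.Helper62.DimLoc.localDim_eq_of_isOpenEmbedding e e.isOpenEmbedding a).symm

end Top

variable {S : Scheme.{u}} {X Y : AlgSp.Space S} (f : X ⟶ Y)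
  (hf : AlgSp.LocP @LocallyOfFiniteType f.hom) (r : AlgSp.FieldPt Y.obj)
  {Xk : AlgSp.Sp S} {fst : Xk ⟶ X.obj} {snd : Xk ⟶ (AlgSp.yon S).obj r.pt}
  (hsq : IsPullback fst snd f.hom r.toHom)

include hsq in
theorem isAlgSpace_fibre : IsAlgSpace Xk :=
  isAlgSpace_of_isPullback hsq Y.property.diag X.property (IsAlgSpace.yon_obj r.pt)

include hf hsq in
theorem lft_snd : LocP @LocallyOfFiniteType snd :=
  locP_of_isPullback etLocalST_loft hsq (repAll_of_isAlgSpace Y.property)
    (by obtain ⟨U, a, h1, h2⟩ := X.property.atlas; exact ⟨U, a, h1, h2⟩)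
    (by obtain ⟨U, a, h1, h2⟩ := Y.property.atlas; exact ⟨U, a, h1, h2⟩) hf

/-- The structure morphism of an etale chart of the fibre. -/
noncomputable def chartHom {U : Over S} (a : (yon S).obj U ⟶ Xk) : U ⟶ r.pt :=
  (yon S).preimage (a ≫ snd)

include hf hsq in
theorem lft_chartHom {U : Over S} (a : (yon S).obj U ⟶ Xk) (ha : RepWith @Etale a) :
    LocallyOfFiniteType (chartHom r (snd := snd) a).left := by
  have h1 : RepWith @Etale (𝟙 ((yon S).obj r.pt)) := by
    rw [← (yon S).map_id]; exact (repWith_yon_map_iff _ _).2 (by dsimp; infer_instance)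
  refine lft_snd f hf r hsq a (𝟙 _) (chartHom r a) ha h1 ?_
  rw [Category.comp_id]
  exact ((yon S).map_preimage _).symm

include hf hsq in
theorem chartsNJ_fibre : ChartsNJ Xk := by
  intro U a ha
  haveI : LocallyOfFiniteType (chartHom r (snd := snd) a).left := lft_chartHom f hf r hsq a ha
  exact ⟨isLocallyNoetherian_of_lft_field (k := r.K) (chartHom r (snd := snd) a).left,
    jacobsonSpace_of_lft_field (k := r.K) (chartHom r (snd := snd) a).left⟩

include hf hsq in
theorem hasAtMor_lqf_chart_iff {U : Over S} (a : (yon S).obj U ⟶ Xk) (ha : RepWith @Etale a)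
    (u : ↥U.left) :
    HasAtMor LqfNear snd (Points.ofPt a u) ↔ FlatMor.localDim ↥U.left u = 0 := by
  haveI : LocallyOfFiniteType (chartHom r (snd := snd) a).left := lft_chartHom f hf r hsq a ha
  haveI : Subsingleton ↥r.pt.left := inferInstanceAs (Subsingleton (PrimeSpectrum r.K))
  have h1 : RepWith @Etale (𝟙 ((yon S).obj r.pt)) := by
    rw [← (yon S).map_id]; exact (repWith_yon_map_iff _ _).2 (by dsimp; infer_instance)
  have comm : a ≫ snd = (yon S).map (chartHom r (snd := snd) a) ≫ 𝟙 _ := by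
    rw [Category.comp_id]; exact ((yon S).map_preimage _).symm
  rw [hasAtMor_iff_of_chart etLocalPt_lqfNear snd a (𝟙 _) (chartHom r a) ha h1 comm u,
    lqfNear_iff_fibreDimAt, fibreDimAt_eq_localDim_of_subsingleton]

include hf hsq in
/-- The fibre has local dimension zero at a point iff `f` is quasi-finite at its image. -/
theorem hasAt_localDim_iff_lqf (xt : Points Xk) :
    HasAt (fun U u => FlatMor.localDim ↥U u = 0) Xk xt ↔
      HasAtMor LqfNear f.hom (Points.map fst xt) := by
  obtain ⟨G⟩ := exists_goodChart f.hom (𝟙 Y.obj) X.property Y.property Y.property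
  haveI : LocallyOfFiniteType G.k.left := hf G.a G.b G.k G.ha G.hb G.comm_f
  have key : HasAtMor LqfNear snd xt ↔ HasAtMor LqfNear f.hom (Points.map fst xt) :=
    hasAtMor_baseChange_iff etLocalPt_lqfNear G
      (fun mU k'' mV sq u'' => lqfNear_baseChange_iff G.k.left mU k'' mV sq u'')
      (IsAlgSpace.yon_obj r.pt) r.toHom snd (𝟙 _) fst r.toHom IsPullback.of_id_snd hsq xt
  rw [← key]
  constructor
  · rintro ⟨U, a, u, ha, rfl, hd⟩
    exact (hasAtMor_lqf_chart_iff f hf r hsq a ha u).2 hd
  · intro h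
    obtain ⟨U, a, ha, has⟩ := (isAlgSpace_fibre f r hsq).atlas
    obtain ⟨u, rfl⟩ := surjective_ofPt_of_repWith_surjective a has xt
    exact ⟨U, a, u, ha, rfl, (hasAtMor_lqf_chart_iff f hf r hsq a ha u).1 h⟩

include hsq in
/-- All points of the fibre map to the point. -/
theorem map_f_map_fst (xt : Points Xk) :
    Points.map f.hom (Points.map fst xt) = Points.mk r := by
  rw [← Points.map_comp, hsq.w, Points.map_comp]
  have h1 : Points.map r.toHom (Points.map snd xt) ∈ Set.range (Points.map r.toHom) := ⟨_, rfl⟩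
  rw [range_map_yon_field r.str r.toHom, Set.mem_singleton_iff] at h1
  rw [h1]
  exact Points.ofPt_toHom r _

include hsq in
theorem range_map_fst :
    Set.range (Points.map fst) = Points.map f.hom ⁻¹' {Points.mk r} := by
  apply Set.Subset.antisymm
  · rintro _ ⟨z, rfl⟩
    exact map_f_map_fst f r hsq z
  · intro x hx
    rw [Set.mem_preimage, Set.mem_singleton_iff] at hx
    have h2 : Points.map f.hom x = Points.map r.toHom
        (Points.ofScheme r.pt (IsLocalRing.closedPoint r.K)) := by
      rw [hx, ← Points.ofPt_eq_map_ofScheme]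
      exact (Points.ofPt_toHom r _).symm
    obtain ⟨w, hw1, -⟩ := exists_point_of_isPullback hsq x _ h2
    exact ⟨w, hw1⟩

include hsq in
/-- For a quasi-compact monomorphic field point the fibre is homeomorphic to the topological
fibre. -/
theorem isEmbedding_map_fst (hm : Mono r.toHom) (hq : AlgSp.RepWith @QuasiCompact r.toHom) :
    Topology.IsEmbedding (Points.map fst) := by
  have hmono : Mono fst := hsq.mono_fst_of_mono
  have hrep : AlgSp.RepWith @QuasiCompact fst := MorphismProperty.of_isPullback hsq.flip hq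
  obtain ⟨G⟩ := exists_goodChart f.hom (𝟙 Y.obj) X.2 Y.2 Y.2
  obtain ⟨Vk, φ, ψ, sqV⟩ := exists_isPullback_of_representable G.hb.1 r.toHom
  have hφ : IsPreimmersion φ.left := isPreimmersion_fibre_chart r hm hq G.b G.hb φ ψ sqV
  have sqW := hrep.1.isPullback G.a
  have sq' := sqW.paste_horiz hsq.flip
  rw [G.comm_f] at sq'
  obtain ⟨l, -, sqS⟩ := exists_isPullback_left_of_isPullback sqV.flip sq'
  have hψ' : IsPreimmersion (hrep.1.snd G.a).left :=
    MorphismProperty.of_isPullback (P := @IsPreimmersion) sqS hφ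
  exact isEmbedding_map_of_chart fst G.a G.ha G.has _ _ sqW
    (hrep.1.snd G.a).left.isEmbedding.isInducing

/-- The homeomorphism of the fibre over a quasi-compact monomorphic field point with the
topological fibre. -/
noncomputable def fibreHomeo (hm : Mono r.toHom) (hq : AlgSp.RepWith @QuasiCompact r.toHom) :
    Points Xk ≃ₜ ↥(Points.map f.hom ⁻¹' {Points.mk r}) :=
  (isEmbedding_map_fst f r hsq hm hq).toHomeomorph.trans
    (Homeomorph.setCongr (range_map_fst f r hsq))

theorem fibreHomeo_apply (hm : Mono r.toHom) (hq : AlgSp.RepWith @QuasiCompact r.toHom)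
    (xt : Points Xk) : ((fibreHomeo f r hsq hm hq) xt : Points X.obj) = Points.map fst xt := rfl

include hf hsq in
theorem isOpen_iff_closed_noGen (xt : Points Xk) :
    IsOpen ({xt} : Set (Points Xk)) ↔
      IsClosed ({xt} : Set (Points Xk)) ∧ ∀ x' : Points Xk, x' ⤳ xt → x' = xt :=
  ⟨fun hx => ⟨isClosed_singleton_of_isOpen (isAlgSpace_fibre f r hsq) (chartsNJ_fibre f hf r hsq) xt hx,
    fun x' hx' => hx'.mem_open hx rfl⟩,
    fun h => isOpen_singleton_of_isClosed (isAlgSpace_fibre f r hsq) (chartsNJ_fibre f hf r hsq) xt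
      h.1 h.2⟩

include hf hsq in
theorem isOpen_iff_hasAt (xt : Points Xk) :
    IsOpen ({xt} : Set (Points Xk)) ↔ HasAt (fun U u => FlatMor.localDim ↥U u = 0) Xk xt :=
  isOpen_singleton_iff_hasAt_localDim (isAlgSpace_fibre f r hsq) (chartsNJ_fibre f hf r hsq) xt

include hf hsq in
theorem isOpen_iff_lqf (xt : Points Xk) :
    IsOpen ({xt} : Set (Points Xk)) ↔ HasAtMor LqfNear f.hom (Points.map fst xt) :=
  (isOpen_iff_hasAt f hf r hsq xt).trans (hasAt_localDim_iff_lqf f hf r hsq xt)

include hf hsq in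
theorem localDim_points_iff_isOpen (hd : IsDecent Xk) (xt : Points Xk) :
    FlatMor.localDim (Points Xk) xt = 0 ↔ IsOpen ({xt} : Set (Points Xk)) :=
  ⟨isOpen_singleton_of_localDim_points_eq_zero (isAlgSpace_fibre f r hsq)
    (chartsNJ_fibre f hf r hsq) hd xt, localDim_eq_zero_of_isOpen_singleton xt⟩

/-- Over a decent target, the topological fibre is homeomorphic to the fibre over a suitable
field point in the class. -/
theorem exists_fibreHomeo_of_isDecent (hY : IsDecent Y.obj) :
    ∃ (r' : FieldPt Y.obj) (Xk' : Sp S) (fst' : Xk' ⟶ X.obj)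
      (snd' : Xk' ⟶ (AlgSp.yon S).obj r'.pt) (_ : IsPullback fst' snd' f.hom r'.toHom)
      (e : Points Xk' ≃ₜ ↥(Points.map f.hom ⁻¹' {Points.mk r})),
      (∀ z, (e z : Points X.obj) = Points.map fst' z) ∧ (IsDecent X.obj → IsDecent Xk') := by
  obtain ⟨r', hr', hm, hq⟩ := hY (Points.mk r)
  have sq' := IsPullback.of_hasPullback f.hom r'.toHom
  have hset : Points.map f.hom ⁻¹' {Points.mk r'} = Points.map f.hom ⁻¹' {Points.mk r} := by
    rw [hr']
  refine ⟨r', _, _, _, sq', (fibreHomeo f r' sq' hm hq).trans (Homeomorph.setCongr hset),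
    fun z => rfl, fun hX => ?_⟩
  exact isDecent_of_isPullback sq' Y.property.diag hX (isDecent_yon_obj r'.pt)

end Groth.Agent.Lib.Helper31.AlgSpFibreRel
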