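import Mathlib
import Groth.Agent.Lib.Helper31.AlgSpFibreRel

/-!
# Fibres of a morphism locally of finite type over a field point: discreteness and dimension zero
(helper31)
-/

set_option autoImplicit false
universe u

namespace Groth.Agent.Lib.Helper31.AlgSpFibreRel

open CategoryTheory CategoryTheory.Limits AlgebraicGeometry AlgSp
open Groth.Agent.Lib.Helper52 Groth.Agent.Lib.Helper51 Groth.Agent.Lib.Helper78.HasAtEt
open Groth.Agent.Lib.Helper31.AlgSpOverField Groth.Agent.Lib.Helper31.AlgSpNJ
open Groth.Agent.Lib.Helper98.AlgSpPtLocal Groth.Agent.Lib.Helper98.AlgSpLqf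

variable {S : Scheme.{u}} {X Y : AlgSp.Space S} (f : X ⟶ Y)
  (hf : AlgSp.LocP @LocallyOfFiniteType f.hom) (r : AlgSp.FieldPt Y.obj)
  {Xk : AlgSp.Sp S} {fst : Xk ⟶ X.obj} {snd : Xk ⟶ (AlgSp.yon S).obj r.pt}
  (hsq : IsPullback fst snd f.hom r.toHom)

include hsq in
theorem nonempty_fibre (hy : Points.mk r ∈ Set.range (Points.map f.hom)) :
    Nonempty (Points Xk) := by
  obtain ⟨x, hx⟩ := hy
  have : x ∈ Set.range (Points.map fst) := by
    rw [range_map_fst f r hsq]; exact hx
  obtain ⟨xt, -⟩ := this
  exact ⟨xt⟩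

include hf hsq in
theorem discrete_iff_lqf :
    DiscreteTopology (Points Xk) ↔
      ∀ x : Points X.obj, Points.map f.hom x = Points.mk r → HasAtMor LqfNear f.hom x := by
  constructor
  · intro hd x hx
    have : x ∈ Set.range (Points.map fst) := by
      rw [range_map_fst f r hsq]; exact hx
    obtain ⟨xt, rfl⟩ := this
    exact (isOpen_iff_lqf f hf r hsq xt).1 (isOpen_discrete _)
  · intro h
    rw [discreteTopology_iff_isOpen_singleton]
    intro xt
    exact (isOpen_iff_lqf f hf r hsq xt).2 (h _ (map_f_map_fst f r hsq xt))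

include hf hsq in
theorem discrete_iff_dim [Nonempty (Points Xk)] :
    DiscreteTopology (Points Xk) ↔ AlgSp.dim Xk = 0 := by
  constructor
  · intro hdisc
    exact dim_eq_zero_of_forall_chart_dim_le (isAlgSpace_fibre f r hsq)
      (fun U a ha => chart_dim_le_zero_of_discrete (chartsNJ_fibre f hf r hsq) U a ha)
  · intro hdim
    exact discreteTopology_of_forall_chart_dim_le (isAlgSpace_fibre f r hsq)
      (chartsNJ_fibre f hf r hsq) (fun U a ha => (chart_dim_le_dim a ha).trans hdim.le)

include hf hsq in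
theorem discrete_of_decent_of_dim (hd : IsDecent Xk)
    (h0 : topologicalKrullDim (Points Xk) = 0) : DiscreteTopology (Points Xk) :=
  discreteTopology_of_forall_chart_dim_le (isAlgSpace_fibre f r hsq) (chartsNJ_fibre f hf r hsq)
    (chart_dim_le_zero_of_decent (isAlgSpace_fibre f r hsq) hd h0.le)

include hf hsq in
theorem discrete_of_decent_of_finite (hd : IsDecent Xk) [Finite (Points Xk)] :
    DiscreteTopology (Points Xk) :=
  discreteTopology_of_forall_chart_dim_le (isAlgSpace_fibre f r hsq) (chartsNJ_fibre f hf r hsq)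
    (fun U a ha => chart_dim_le_zero_of_finite (chartsNJ_fibre f hf r hsq) hd U a ha)

/-- Over a decent target, the topological fibre is homeomorphic to the fibre over a suitable
field point in the class. -/
theorem exists_fibreHomeo_of_isDecent' (hY : IsDecent Y.obj) :
    ∃ (r' : FieldPt Y.obj) (Xk' : Sp S) (fst' : Xk' ⟶ X.obj)
      (snd' : Xk' ⟶ (AlgSp.yon S).obj r'.pt) (_ : IsPullback fst' snd' f.hom r'.toHom)
      (_ : Points Xk' ≃ₜ ↥(Points.map f.hom ⁻¹' {Points.mk r})),
      Points.mk r' = Points.mk r ∧ (IsDecent X.obj → IsDecent Xk') := by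
  obtain ⟨r', hr', hm, hq⟩ := hY (Points.mk r)
  have sq' := IsPullback.of_hasPullback f.hom r'.toHom
  have hset : Points.map f.hom ⁻¹' {Points.mk r'} = Points.map f.hom ⁻¹' {Points.mk r} := by
    rw [hr']
  refine ⟨r', _, _, _, sq', (fibreHomeo f r' sq' hm hq).trans (Homeomorph.setCongr hset),
    hr', fun hX => ?_⟩
  exact isDecent_of_isPullback sq' Y.property.diag hX (isDecent_yon_obj r'.pt)

end Groth.Agent.Lib.Helper31.AlgSpFibreRel
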