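import Mathlib
import Groth.Agent.S8661
import Groth.Agent.S9729
import Groth.Agent.S9730
import Groth.Agent.S9699
import Groth.Agent.Lib.Helper98.LciLocal
import Groth.Agent.Lib.Helper98.AlgSpPtLocal
import Groth.Agent.Lib.Helper30.AlgSpNear
import Groth.Agent.Lib.Helper8.BK6
import Groth.Agent.Lib.Helper9.RootLCI2
import Groth.Agent.Lib.Helper31.AlgSpBCChart
import Groth.Agent.Lib.Helper51.AlgSpOpen
import Groth.Agent.Lib.Helper51.AlgSpPoints2

/-!
# The Koszul (lci) locus of a morphism of algebraic spaces (helper31)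

* `etLocalST_lci` : `AlgSp.lci` is etale local on the source and target (`EtLocalST`).
* `near_lci_iff` : `Near lci h u ↔ Synt.IsKoszulAt h u`.
* `isZariskiLocalAtSource_lci`.
* `hasAtMor_baseChange_iff₂` : variant of helper98's `hasAtMor_baseChange_iff` whose scheme level
  hypothesis only concerns base changes coming from the base `W` of the good chart.
-/

set_option autoImplicit false
set_option linter.style.haveILetI false
universe u

namespace Groth.Agent.Lib.Helper31.AlgSpLciLocus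

open CategoryTheory CategoryTheory.Limits AlgebraicGeometry AlgSp
open Groth.Agent.Lib.Helper78.AlgSpLocP
open Groth.Agent.Lib.Helper98.AlgSpPtLocal
open Groth.Agent.Lib.Helper30.Near
open Groth.Agent.Lib.Helper9

theorem etLocalST_lci : EtLocalST (AlgSp.lci.{u}) where
  precomp e h he hh := by
    haveI : Etale e := he
    exact Groth.Agent.S8661.result e h (fun a => RootLCI2.isKoszulAt_of_smooth e a) hh
  postcomp h e hh he := by
    haveI : Etale e := he
    exact Groth.Agent.S8661.result h e hh (fun b => RootLCI2.isKoszulAt_of_smooth e b)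
  cancel g e he hge := by
    haveI : Etale e := he
    exact fun x => Groth.Agent.S9729.result g e hge x
  descend e h he hs hh := by
    haveI : Etale e := he
    haveI : Surjective e := hs
    exact (Groth.Agent.S9730.result e (Groth.Agent.S9699.result e) h).1 hh

/-- A Koszul point has an open neighbourhood on which the morphism is Koszul everywhere. -/
theorem near_of_isKoszulAt {U V : Scheme.{u}} (h : U ⟶ V) (u : U) (hK : Synt.IsKoszulAt h u) :
    Near AlgSp.lci U V h u := by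
  obtain ⟨V₀, hV₀, hyV, -⟩ := exists_isAffineOpen_mem_and_subset (x := h u) (U := ⊤) trivial
  obtain ⟨U₀, e, hxU, hL⟩ := LciMor2.exists_affine_isLCI_of_isKoszulAt h u hK ⟨V₀, hV₀⟩ hyV
  refine ⟨U₀.1, hxU, fun w => ?_⟩
  haveI : IsAffine U₀.1.toScheme := U₀.2
  have haff : IsAffineOpen (⊤ : U₀.1.toScheme.Opens) := isAffineOpen_top _
  have e' : (⊤ : U₀.1.toScheme.Opens) ≤ (U₀.1.ι ≫ h) ⁻¹ᵁ V₀ := fun y _ => e y.2
  have e'' : U₀.1.ι ''ᵁ (⊤ : U₀.1.toScheme.Opens) ≤ h ⁻¹ᵁ V₀ := by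
    rintro _ ⟨y, -, rfl⟩
    exact e y.2
  refine LciMor2.isKoszulAt_of_affine_isLCI (U₀.1.ι ≫ h) w ⟨⊤, haff⟩ ⟨V₀, hV₀⟩ e' trivial ?_
  show @LCI.IsLCI Γ(V, V₀) _ Γ(U₀.1.toScheme, ⊤) _ ((U₀.1.ι ≫ h).appLE V₀ ⊤ e').hom.toAlgebra
  rw [← LciMor2.appLE_ι_image h U₀.1 ⊤ V₀ e'' e']
  have htop : U₀.1.ι ''ᵁ (⊤ : U₀.1.toScheme.Opens) = U₀.1 := by
    ext y
    constructor
    · rintro ⟨z, -, rfl⟩
      exact z.2
    · intro hy
      exact ⟨⟨y, hy⟩, trivial, rfl⟩
  exact (Scheme.Hom.appLE_congr (f := h) e rfl htop.symm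
    (fun {R S} φ => @LCI.IsLCI R inferInstance S inferInstance φ.hom.toAlgebra)).1 hL

theorem near_lci_iff {U V : Scheme.{u}} (h : U ⟶ V) (u : U) :
    Near AlgSp.lci U V h u ↔ Synt.IsKoszulAt h u := by
  constructor
  · rintro ⟨W, hu, hW⟩
    exact Groth.Agent.Lib.Helper98.LciLocal.isKoszulAt_of_ι_comp h W ⟨u, hu⟩ (hW ⟨u, hu⟩)
  · exact near_of_isKoszulAt h u

instance respectsIso_lci : (AlgSp.lci.{u}).RespectsIso := by
  apply MorphismProperty.RespectsIso.mk
  · intro X Y Z e f hf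
    exact etLocalST_lci.precomp e.hom f inferInstance hf
  · intro X Y Z e f hf
    exact etLocalST_lci.postcomp f e.hom hf inferInstance

instance isZariskiLocalAtSource_lci : IsZariskiLocalAtSource (AlgSp.lci.{u}) := by
  refine IsZariskiLocalAtSource.mk' ?_ ?_
  · intro X Y f U hf
    exact etLocalST_lci.precomp U.ι f inferInstance hf
  · intro X Y f ι U hU hf x
    have hx : x ∈ (⊤ : X.Opens) := trivial
    rw [← hU] at hx
    obtain ⟨i, hi⟩ := TopologicalSpace.Opens.mem_iSup.1 hx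
    exact Groth.Agent.Lib.Helper98.LciLocal.isKoszulAt_of_ι_comp f (U i) ⟨x, hi⟩ (hf i ⟨x, hi⟩)


section Charts

open Groth.Agent.Lib.Helper52 Groth.Agent.Lib.Helper51
open Groth.Agent.Lib.Helper31.AlgSpFlatAt

variable {S : Scheme.{u}} {X Y Z X' Y' Z' : AlgSp.Sp S}

/-- **Base change of a good chart.** -/
theorem exists_baseChange_chart₂ {f : X ⟶ Y} {h : Y ⟶ Z} (G : GoodChart f h)
    (hZ' : IsAlgSpace Z')
    (g : Z' ⟶ Z) (f' : X' ⟶ Y') (h' : Y' ⟶ Z') (pX : X' ⟶ X) (pY : Y' ⟶ Y)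
    (sqY : IsPullback pY h' h g) (sqX : IsPullback pX f' f pY) :
    ∃ (U'' V'' W'' : Over S) (a'' : (yon S).obj U'' ⟶ X') (b'' : (yon S).obj V'' ⟶ Y')
      (k'' : U'' ⟶ V'') (l'' : V'' ⟶ W'') (mU : U'' ⟶ G.U) (mV : V'' ⟶ G.V) (m : W'' ⟶ G.W),
      RepWith @Etale a'' ∧ RepWith @Surjective a'' ∧ RepWith @Etale b'' ∧
      RepWith @Surjective b'' ∧ a'' ≫ f' = (yon S).map k'' ≫ b'' ∧
      a'' ≫ pX = (yon S).map mU ≫ G.a ∧ b'' ≫ pY = (yon S).map mV ≫ G.b ∧
      IsPullback mU.left k''.left G.k.left mV.left ∧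
      IsPullback mV.left l''.left G.l.left m.left := by
  obtain ⟨W'₁, c'₁, hc'₁, hc'₁s⟩ := hZ'.atlas
  -- the chart `W''` of `Z'`
  have sqW := G.hc.rep.isPullback' (c'₁ ≫ g)
  set W'' : Over S := G.hc.rep.pullback (c'₁ ≫ g) with hW''
  set m : W'' ⟶ G.W := G.hc.rep.fst' (c'₁ ≫ g) with hm
  set r₁ : W'' ⟶ W'₁ := G.hc.rep.snd (c'₁ ≫ g) with hr₁
  have hr₁e : Etale r₁.left := G.hc.property _ _ _ sqW
  have hr₁s : Surjective r₁.left := G.hcs.property _ _ _ sqW
  obtain ⟨c'', hc''def⟩ : ∃ c'' : (yon S).obj W'' ⟶ Z', c'' = (yon S).map r₁ ≫ c'₁ := ⟨_, rfl⟩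
  have hc''e : RepWith @Etale c'' := by
    rw [hc''def]
    exact (RepWith (S := S) @Etale).comp_mem _ _ ((repWith_yon_map_iff _ _).2 hr₁e) hc'₁
  have hc''s : RepWith @Surjective c'' := by
    rw [hc''def]
    exact (RepWith (S := S) @Surjective).comp_mem _ _ ((repWith_yon_map_iff _ _).2 hr₁s) hc'₁s
  have hcomm : (yon S).map m ≫ G.c = c'' ≫ g := by
    rw [hc''def, Category.assoc]; exact sqW.w
  -- the charts `V''`, `U''`
  obtain ⟨V'', mV, l'', sqVo, sqVs⟩ := Groth.Agent.Lib.Helper30.isPullback_over' G.l m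
  obtain ⟨U'', mU, k'', sqUo, sqUs⟩ := Groth.Agent.Lib.Helper30.isPullback_over' G.k mV
  have sqVy := sqVo.map (yon S)
  have sqUy := sqUo.map (yon S)
  -- the chart map of `Y'`
  have bigV : IsPullback ((yon S).map mV ≫ (yon S).map G.nV) ((yon S).map l'') (G.b₁ ≫ h)
      (c'' ≫ g) := by
    have := sqVy.paste_horiz G.sqV
    rwa [hcomm] at this
  have wV : ((yon S).map mV ≫ G.b) ≫ h = ((yon S).map l'' ≫ c'') ≫ g := by
    rw [Category.assoc, G.comm_h, ← Category.assoc, sqVy.w, Category.assoc, hcomm, Category.assoc]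
  obtain ⟨b'', hb''1, hb''2⟩ : ∃ b'' : (yon S).obj V'' ⟶ Y', b'' ≫ pY = (yon S).map mV ≫ G.b ∧
      b'' ≫ h' = (yon S).map l'' ≫ c'' :=
    ⟨sqY.lift _ _ wV, sqY.lift_fst _ _ _, sqY.lift_snd _ _ _⟩
  have hb''1' : b'' ≫ pY = ((yon S).map mV ≫ (yon S).map G.nV) ≫ G.b₁ := by
    rw [hb''1, Category.assoc]
  have hb''e : RepWith @Etale b'' :=
    repWith_lift_of_big @Etale sqY G.b₁ c'' G.hb₁ hc''e _ _ bigV b'' hb''1' hb''2
  have hb''s : RepWith @Surjective b'' :=
    repWith_lift_of_big @Surjective sqY G.b₁ c'' G.hb₁s hc''s _ _ bigV b'' hb''1' hb''2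
  -- the chart map of `X'`
  have bigU : IsPullback ((yon S).map mU ≫ (yon S).map G.nU) ((yon S).map k'') (G.a₁ ≫ f)
      (b'' ≫ pY) := by
    have := sqUy.paste_horiz G.sqU
    rwa [← hb''1] at this
  have wU : ((yon S).map mU ≫ G.a) ≫ f = ((yon S).map k'' ≫ b'') ≫ pY := by
    rw [Category.assoc, G.comm_f, ← Category.assoc, sqUy.w, Category.assoc, Category.assoc, hb''1]
  obtain ⟨a'', ha''1, ha''2⟩ : ∃ a'' : (yon S).obj U'' ⟶ X', a'' ≫ pX = (yon S).map mU ≫ G.a ∧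
      a'' ≫ f' = (yon S).map k'' ≫ b'' :=
    ⟨sqX.lift _ _ wU, sqX.lift_fst _ _ _, sqX.lift_snd _ _ _⟩
  have ha''1' : a'' ≫ pX = ((yon S).map mU ≫ (yon S).map G.nU) ≫ G.a₁ := by
    rw [ha''1, Category.assoc]
  have ha''e : RepWith @Etale a'' :=
    repWith_lift_of_big @Etale sqX G.a₁ b'' G.ha₁ hb''e _ _ bigU a'' ha''1' ha''2
  have ha''s : RepWith @Surjective a'' :=
    repWith_lift_of_big @Surjective sqX G.a₁ b'' G.ha₁s hb''s _ _ bigU a'' ha''1' ha''2
  exact ⟨U'', V'', W'', a'', b'', k'', l'', mU, mV, m, ha''e, ha''s, hb''e, hb''s, ha''2, ha''1, hb''1,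
    sqUs, sqVs⟩


/-- **Base change of the Koszul locus** for `X ⟶ Y ⟶ Z` with `X` and `Y` flat and locally of finite
presentation over `Z` (on a good chart). -/
theorem hasAtMor_lci_baseChange_iff {f : X ⟶ Y} {h : Y ⟶ Z} (G : GoodChart f h)
    [Flat G.l.left] [Flat (G.k.left ≫ G.l.left)] [LocallyOfFinitePresentation G.l.left]
    [LocallyOfFinitePresentation (G.k.left ≫ G.l.left)]
    (hZ' : IsAlgSpace Z') (g : Z' ⟶ Z) (f' : X' ⟶ Y') (h' : Y' ⟶ Z') (pX : X' ⟶ X) (pY : Y' ⟶ Y)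
    (sqY : IsPullback pY h' h g) (sqX : IsPullback pX f' f pY) (x' : Points X') :
    HasAtMor (Near AlgSp.lci) f' x' ↔ HasAtMor (Near AlgSp.lci) f (Points.map pX x') := by
  have hQ := etLocalPt_near etLocalST_lci.{u}
  obtain ⟨U'', V'', W'', a'', b'', k'', l'', mU, mV, m, ha''e, ha''s, hb''e, hb''s, ha''2, ha''1,
    hb''1, sqUs, sqVs⟩ := exists_baseChange_chart₂ G hZ' g f' h' pX pY sqY sqX
  obtain ⟨u'', rfl⟩ := surjective_ofPt_of_repWith_surjective a'' ha''s x'
  rw [Points.map_ofPt, ha''1, ofPt_yon_map_comp,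
    hasAtMor_iff_of_chart hQ f G.a G.b G.k G.ha G.hb G.comm_f,
    hasAtMor_iff_of_chart hQ f' a'' b'' k'' ha''e hb''e ha''2 u'', near_lci_iff, near_lci_iff]
  have hX : IsPullback mU.left (k''.left ≫ l''.left) (G.k.left ≫ G.l.left) m.left :=
    sqUs.paste_vert sqVs
  exact ⟨Groth.Agent.Lib.Helper8.BK6.isKoszulAt_of_baseChange sqVs hX sqUs.w u'',
    Groth.Agent.Lib.Helper8.BK6.isKoszulAt_baseChange sqVs hX sqUs.w u''⟩

/-- A morphism of algebraic spaces is lci iff it is Koszul near every point. -/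
theorem locP_lci_iff (hX : IsAlgSpace X) (hY : IsAlgSpace Y) (f : X ⟶ Y) :
    LocP AlgSp.lci f ↔ ∀ x, HasAtMor (Near AlgSp.lci) f x := by
  constructor
  · intro hL x
    obtain ⟨U₀, a₀, ha₀, ha₀s⟩ := hX.atlas
    obtain ⟨V, b, hb, hbs⟩ := hY.atlas
    obtain ⟨U, j, h, sq, hja, hjs⟩ :=
      Groth.Agent.Lib.Helper78.AlgSpBasic.exists_chart_diagram f a₀ ha₀ b hb
    obtain ⟨u, rfl⟩ := surjective_ofPt_of_repWith_surjective _ (hjs ha₀s hbs) x
    have comm : ((yon S).map j ≫ a₀) ≫ f = (yon S).map h ≫ b := by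
      rw [Category.assoc]; exact sq.w.symm
    have hP := hL _ b h hja hb comm
    exact ⟨U, V, _, b, h, u, hja, hb, comm, rfl, ⊤, trivial,
      etLocalST_lci.precomp _ _ inferInstance hP⟩
  · intro H
    exact locP_of_forall_hasAtMor_near etLocalST_lci f H

/-- The Koszul locus is open. -/
theorem isOpen_hasAtMor_lci {f : X ⟶ Y} {h : Y ⟶ Z} (G : GoodChart f h) :
    IsOpen {x : Points X | HasAtMor (Near AlgSp.lci) f x} :=
  isOpen_hasAtMor (etLocalPt_near etLocalST_lci.{u}) G (isOpen_near AlgSp.lci G.k.left)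

/-- An open subspace of an algebraic space is an algebraic space. -/
theorem isAlgSpace_of_openImm' {W B : AlgSp.Sp S} (w : W ⟶ B) (hw : RepWith @IsOpenImmersion w)
    (hB : IsAlgSpace B) : IsAlgSpace W := by
  haveI : Mono w := mono_of_repWith (fun g (_ : IsOpenImmersion g) => inferInstance) hw
  refine ⟨representable_diag_of_mono w hB.diag, ?_⟩
  obtain ⟨U, p, hp, hs⟩ := hB.atlas
  have sq := hw.1.isPullback p
  exact ⟨hw.1.pullback p, hw.1.fst p, MorphismProperty.of_isPullback sq.flip hp,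
    MorphismProperty.of_isPullback sq.flip hs⟩

/-- "Koszul at `x`" in the open-neighbourhood form agrees with the chart form. -/
theorem locPNear_lci_iff (hX : IsAlgSpace X) (hY : IsAlgSpace Y) (f : X ⟶ Y) (x : Points X) :
    LocPNear AlgSp.lci f x ↔ HasAtMor (Near AlgSp.lci) f x := by
  constructor
  · rintro ⟨W, j, hj, ⟨w, rfl⟩, hL⟩
    have hW : IsAlgSpace W := isAlgSpace_of_openImm' j hj hX
    have hje : RepWith @Etale j :=
      MorphismProperty.relative_monotone (fun A B k hk => by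
        have : IsOpenImmersion k.left := hk
        change Etale k.left
        infer_instance) _ hj
    obtain ⟨U₀, a₀, ha₀, ha₀s⟩ := hW.atlas
    obtain ⟨V, b, hb, hbs⟩ := hY.atlas
    obtain ⟨U, jU, h, sq, hja, hjs⟩ :=
      Groth.Agent.Lib.Helper78.AlgSpBasic.exists_chart_diagram (j ≫ f) a₀ ha₀ b hb
    obtain ⟨u, rfl⟩ := surjective_ofPt_of_repWith_surjective _ (hjs ha₀s hbs) w
    have comm0 : ((yon S).map jU ≫ a₀) ≫ (j ≫ f) = (yon S).map h ≫ b := by
      rw [Category.assoc]; exact sq.w.symm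
    have comm : (((yon S).map jU ≫ a₀) ≫ j) ≫ f = (yon S).map h ≫ b := by
      rw [Category.assoc]; exact comm0
    have hP := hL ((yon S).map jU ≫ a₀) b h hja hb comm0
    have hae : RepWith @Etale (((yon S).map jU ≫ a₀) ≫ j) :=
      (RepWith (S := S) @Etale).comp_mem _ _ hja hje
    refine ⟨U, V, _, b, h, u, hae, hb, comm, ?_, ⊤, trivial,
      etLocalST_lci.precomp _ _ inferInstance hP⟩
    rw [Points.map_ofPt]
  · intro H
    obtain ⟨G⟩ := exists_goodChart f (𝟙 Y) hX hY hY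
    have hO : IsOpen {y : Points X | HasAtMor (Near AlgSp.lci) f y} := isOpen_hasAtMor_lci G
    refine ⟨openSp X _, openSpι X _, repWith_isOpenImmersion_openSpι _ hO, ?_, ?_⟩
    · rw [range_map_openSpι]
      exact H
    · exact locP_openSpι_comp etLocalST_lci f _ hO (fun y hy => hy)

end Charts

end Groth.Agent.Lib.Helper31.AlgSpLciLocus
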