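import Mathlib
import Groth.Agent.Lib.Helper31.AlgSpLciLocus
import Groth.Agent.Lib.Helper78.AlgSpLocPFpqc
import Groth.Agent.S8658
import Groth.Agent.S8662

/-!
# `AlgSp.IsLCIMor` is fpqc local on the base (helper31)

* `lci_of_flat_section_cover` : descent of lci along a flat map with local sections (no qc).
* instances `IsZariskiLocalAtTarget lci`, `lci.DescendsAlong fpqc`.
* `locP_lci_of_isPullback_flat` : flat base change of `LocP lci`.
* `locP_lci_of_fpqc_cover_base` : descent of `LocP lci` along fpqc coverings of the base.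
-/

set_option autoImplicit false
set_option linter.style.haveILetI false
universe u

namespace Groth.Agent.Lib.Helper31.AlgSpLciFpqc

open CategoryTheory CategoryTheory.Limits AlgebraicGeometry AlgSp
open Groth.Agent.Lib.Helper9
open Groth.Agent.Lib.Helper31.AlgSpLciLocus
open Groth.Agent.Lib.Helper78.AlgSpLocP

/-- Koszul-ness at every point descends along a flat base change `g` of the target which admits
sections locally for an open surjective map `α` (no quasi-compactness, `g` need not be open). -/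
theorem lci_of_flat_section_cover {U V V' A : Scheme.{u}} (h : U ⟶ V) (g : V' ⟶ V) [Flat g]
    (α : A ⟶ V) (θ : A ⟶ V') (hθ : θ ≫ g = α)
    (hopen : IsOpenMap α) (hsurj : Function.Surjective α)
    (H : ∀ z, Synt.IsKoszulAt (pullback.snd h g) z) : ∀ x, Synt.IsKoszulAt h x := by
  intro x
  obtain ⟨V₀, hV₀, hxV₀, -⟩ :=
    exists_isAffineOpen_mem_and_subset (x := h x) (U := ⊤) trivial
  have hgθ : ∀ a : A, g (θ a) = α a := fun a => by
    rw [← Scheme.Hom.comp_apply, hθ]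
  have hex : ∀ v : V₀, ∃ N : V'.Opens, IsAffineOpen N ∧ N ≤ g ⁻¹ᵁ V₀ ∧
      v.1 ∈ α '' (θ ⁻¹' (N : Set V')) := by
    intro v
    obtain ⟨a, ha⟩ := hsurj v.1
    have htW : θ a ∈ (g ⁻¹ᵁ V₀ : V'.Opens) := by
      show g (θ a) ∈ V₀
      rw [hgθ, ha]; exact v.2
    obtain ⟨_, ⟨N, hN, rfl⟩, htN, hsub⟩ :=
      V'.isBasis_affineOpens.exists_subset_of_mem_open htW (g ⁻¹ᵁ V₀).2
    exact ⟨N, hN, hsub, a, htN, ha⟩
  choose N hNaff hNle hNmem using hex
  obtain ⟨t, ht⟩ := hV₀.isCompact.elim_finite_subcover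
    (fun v : V₀ => α '' (θ ⁻¹' (N v : Set V')))
    (fun v => hopen _ ((N v).2.preimage θ.continuous))
    (fun y hy => Set.mem_iUnion.2 ⟨⟨y, hy⟩, hNmem _⟩)
  haveI : ∀ j : t, IsAffine ((N j.1 : V'.Opens) : Scheme.{u}) := fun j => hNaff j.1
  let k : (∐ fun j : t => ((N j.1 : V'.Opens) : Scheme.{u})) ⟶ V' :=
    Sigma.desc (fun j : t => (N j.1).ι)
  haveI : Flat k := IsZariskiLocalAtSource.sigmaDesc (P := @Flat) (fun j => inferInstance)
  have hkι : ∀ (j : t) (n : ((N j.1 : V'.Opens) : Scheme.{u})),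
      k ((Sigma.ι (fun j : t => ((N j.1 : V'.Opens) : Scheme.{u})) j) n) = (N j.1).ι n := by
    intro j n
    rw [← Scheme.Hom.comp_apply, Sigma.ι_desc]
  have hpt : ∀ z : ↥(∐ fun j : t => ((N j.1 : V'.Opens) : Scheme.{u})), (k ≫ g) z ∈ V₀ := by
    intro z
    obtain ⟨⟨j, n⟩, rfl⟩ :=
      (sigmaMk (fun j : t => ((N j.1 : V'.Opens) : Scheme.{u}))).surjective z
    rw [sigmaMk_mk, Scheme.Hom.comp_apply, hkι]
    exact hNle j.1 n.2
  have hrange : Set.range (k ≫ g) ⊆ Set.range V₀.ι := by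
    rintro _ ⟨z, rfl⟩
    rw [Scheme.Opens.range_ι]
    exact hpt z
  let g₀ : (∐ fun j : t => ((N j.1 : V'.Opens) : Scheme.{u})) ⟶ V₀.toScheme :=
    IsOpenImmersion.lift V₀.ι (k ≫ g) hrange
  have hg₀ : g₀ ≫ V₀.ι = k ≫ g := IsOpenImmersion.lift_fac _ _ _
  haveI : Flat g₀ :=
    MorphismProperty.of_postcomp (W := @Flat) (W' := @IsOpenImmersion) g₀ V₀.ι inferInstance
      (by rw [hg₀]; infer_instance)
  haveI : IsAffine V₀.toScheme := hV₀
  haveI : Surjective g₀ := by
    refine ⟨fun v => ?_⟩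
    obtain ⟨j, hj, a, ha, hαa⟩ := Set.mem_iUnion₂.1 (ht v.2)
    refine ⟨(Sigma.ι (fun j : t => ((N j.1 : V'.Opens) : Scheme.{u})) ⟨j, hj⟩) ⟨θ a, ha⟩, ?_⟩
    apply V₀.ι.injective
    rw [← Scheme.Hom.comp_apply, hg₀, Scheme.Hom.comp_apply, hkι]
    exact (hgθ a).trans hαa
  -- the pullback squares
  have sqR := isPullback_morphismRestrict h V₀
  have hcond : (pullback.snd h (k ≫ g) ≫ g₀) ≫ V₀.ι = pullback.fst h (k ≫ g) ≫ h := by
    rw [Category.assoc, hg₀]; exact (pullback.condition).symm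
  have sq1 : IsPullback (sqR.lift (pullback.snd h (k ≫ g) ≫ g₀) (pullback.fst h (k ≫ g)) hcond)
      (pullback.snd h (k ≫ g)) (h ∣_ V₀) g₀ := by
    refine IsPullback.of_right ?_ (sqR.lift_fst _ _ _) sqR.flip
    rw [sqR.lift_snd, hg₀]
    exact IsPullback.of_hasPullback h (k ≫ g)
  have hcond2 : pullback.fst h (k ≫ g) ≫ h = (pullback.snd h (k ≫ g) ≫ k) ≫ g := by
    rw [Category.assoc]; exact pullback.condition
  have sq2 : IsPullback (pullback.lift (pullback.fst h (k ≫ g)) (pullback.snd h (k ≫ g) ≫ k) hcond2)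
      (pullback.snd h (k ≫ g)) (pullback.snd h g) k := by
    refine IsPullback.of_right ?_ (pullback.lift_snd _ _ _) (IsPullback.of_hasPullback h g)
    rw [pullback.lift_fst]
    exact IsPullback.of_hasPullback h (k ≫ g)
  have h1 : ∀ z, Synt.IsKoszulAt (pullback.snd h (k ≫ g)) z :=
    Groth.Agent.S8658.result (pullback.snd h g) k _ _ sq2 H
  have h2 : ∀ z, Synt.IsKoszulAt (h ∣_ V₀) z :=
    Groth.Agent.S8662.result (h ∣_ V₀) g₀ _ _ sq1 h1
  have h3 : ∀ z, Synt.IsKoszulAt ((h ⁻¹ᵁ V₀).ι ≫ h) z := by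
    rw [← morphismRestrict_ι]
    exact LciMor2.isKoszulAt_comp _ _ h2 (fun y => RootLCI2.isKoszulAt_of_smooth _ y)
  exact Groth.Agent.Lib.Helper98.LciLocal.isKoszulAt_of_ι_comp h (h ⁻¹ᵁ V₀) ⟨x, hxV₀⟩ (h3 _)


instance isZariskiLocalAtTarget_lci : IsZariskiLocalAtTarget (AlgSp.lci.{u}) := by
  refine IsZariskiLocalAtTarget.mk' ?_ ?_
  · intro X Y f U hf
    exact Groth.Agent.S8658.result f U.ι (f ∣_ U) (f ⁻¹ᵁ U).ι
      (isPullback_morphismRestrict f U).flip hf
  · intro X Y f ι U hU hf x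
    have hx : f x ∈ (⊤ : Y.Opens) := trivial
    rw [← hU] at hx
    obtain ⟨i, hi⟩ := TopologicalSpace.Opens.mem_iSup.1 hx
    have h3 : ∀ z, Synt.IsKoszulAt ((f ⁻¹ᵁ U i).ι ≫ f) z := by
      rw [← morphismRestrict_ι]
      exact LciMor2.isKoszulAt_comp _ _ (hf i) (fun y => RootLCI2.isKoszulAt_of_smooth _ y)
    exact Groth.Agent.Lib.Helper98.LciLocal.isKoszulAt_of_ι_comp f (f ⁻¹ᵁ U i) ⟨x, hi⟩ (h3 _)

instance descendsAlong_lci : (AlgSp.lci.{u}).DescendsAlong
    (@Surjective ⊓ @Flat ⊓ @QuasiCompact : MorphismProperty Scheme.{u}) where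
  of_isPullback := by
    intro A X Y Z fst snd f g sq hf hfst
    haveI : Surjective f := hf.1.1
    haveI : Flat f := hf.1.2
    haveI : QuasiCompact f := hf.2
    exact Groth.Agent.S8662.result g f fst snd sq.flip hfst


section BaseChange

open Groth.Agent.Lib.Helper52 Groth.Agent.Lib.Helper51 Groth.Agent.Lib.Helper78.AlgSpFibre
open Groth.Agent.Lib.Helper78.AlgSpBasic

variable {S : Scheme.{u}}

/-- **Base change.**  `LocP P` is stable under arbitrary base change (for `P` etale local on the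
source-and-target and stable under base change), when source and target have etale atlases and maps
from schemes to the target are representable. -/
theorem locP_lci_of_isPullback_flat {X Y X' Y' : Sp S}
    {f : X ⟶ Y} {g : Y' ⟶ Y} {fst : X' ⟶ X} {f' : X' ⟶ Y'} (sq : IsPullback fst f' f g)
    (hYrep : RepAll Y)
    (hX : ∃ (U : Over S) (a : (yon S).obj U ⟶ X), RepWith @Etale a ∧ RepWith @Surjective a)
    (hY : ∃ (V : Over S) (b : (yon S).obj V ⟶ Y), RepWith @Etale b ∧ RepWith @Surjective b)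
    (hg : LocP @Flat g) (hf : LocP AlgSp.lci f) : LocP AlgSp.lci f' := by
  have hP := etLocalST_lci.{u}
  obtain ⟨U₀, a₀, ha₀, ha₀s⟩ := hX
  obtain ⟨V, b, hb, hbs⟩ := hY
  obtain ⟨U, j, h, sq₀, ha, has⟩ := exists_chart_diagram f a₀ ha₀ b hb
  have has := has ha₀s hbs
  obtain ⟨a, ha_def⟩ : ∃ a : (yon S).obj U ⟶ X, a = (yon S).map j ≫ a₀ := ⟨_, rfl⟩
  rw [← ha_def] at ha has
  have comm : a ≫ f = (yon S).map h ≫ b := by
    rw [ha_def, Category.assoc]; exact sq₀.w.symm
  have hPh : AlgSp.lci h.left := hf a b h ha hb comm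
  intro U' V' a' b' h' ha' hb' comm'
  -- the base change of `u = a ≫ f` along `t = b' ≫ g`
  obtain ⟨u, hu⟩ : ∃ u : (yon S).obj U ⟶ Y, u = a ≫ f := ⟨_, rfl⟩
  obtain ⟨t, ht_def⟩ : ∃ t : (yon S).obj V' ⟶ Y, t = b' ≫ g := ⟨_, rfl⟩
  have comm₂ : u = (yon S).map h ≫ b := hu.trans comm
  have ht : Representable t := hYrep t
  have sq₁ := ht.isPullback' u
  set r : ht.pullback u ⟶ V' := ht.fst' u with hr
  set s : ht.pullback u ⟶ U := ht.snd u with hs
  -- the chart `c` of `X'`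
  have wc : ((yon S).map s ≫ a) ≫ f = ((yon S).map r ≫ b') ≫ g := by
    rw [Category.assoc, Category.assoc, ← hu, ← ht_def]; exact sq₁.w.symm
  set c : (yon S).obj (ht.pullback u) ⟶ X' := sq.lift _ _ wc with hc
  have hc₁ : c ≫ fst = (yon S).map s ≫ a := sq.lift_fst _ _ _
  have hc₂ : c ≫ f' = (yon S).map r ≫ b' := sq.lift_snd _ _ _
  -- Claim B : `P r`
  have hPr : AlgSp.lci r.left := by
    have sqV₁ := hb.rep.isPullback' t
    set s₁ : hb.rep.pullback t ⟶ V := hb.rep.fst' t with hs₁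
    set s₂ : hb.rep.pullback t ⟶ V' := hb.rep.snd t with hs₂
    have hs₂e : Etale s₂.left := hb.property _ _ _ sqV₁
    have wk : (yon S).map (s ≫ h) ≫ b = (yon S).map r ≫ t := by
      rw [Functor.map_comp, Category.assoc, ← comm₂]; exact sq₁.w.symm
    obtain ⟨k, hk⟩ := (yon S).map_surjective (sqV₁.lift _ _ wk)
    have e₁ : k ≫ s₁ = s ≫ h := (yon S).map_injective (by
      rw [Functor.map_comp, hk]; exact sqV₁.lift_fst _ _ _)
    have e₂ : k ≫ s₂ = r := (yon S).map_injective (by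
      rw [Functor.map_comp, hk]; exact sqV₁.lift_snd _ _ _)
    have big : IsPullback ((yon S).map k ≫ (yon S).map s₂) ((yon S).map s) t
        ((yon S).map h ≫ b) := by
      rw [← Functor.map_comp, e₂, ← comm₂]; exact sq₁
    have left : IsPullback ((yon S).map k) ((yon S).map s) ((yon S).map s₁) ((yon S).map h) :=
      IsPullback.of_right big (by rw [← Functor.map_comp, ← Functor.map_comp, e₁]) sqV₁.flip
    have hs₂b : RepWith @Etale ((yon S).map s₂ ≫ b') :=
      (RepWith (S := S) @Etale).comp_mem _ _ ((repWith_yon_map_iff _ _).2 hs₂e) hb'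
    haveI : Flat s₁.left := hg ((yon S).map s₂ ≫ b') b s₁ hs₂b hb (by
      rw [Category.assoc, ← ht_def]; exact sqV₁.w.symm)
    have left' : IsPullback k s s₁ h := IsPullback.of_map (yon S) e₁ left
    have left'' : IsPullback s.left k.left h.left s₁.left := (left'.map (Over.forget S)).flip
    have hPk : AlgSp.lci k.left :=
      Groth.Agent.S8658.result h.left s₁.left k.left s.left left'' hPh
    have : r.left = k.left ≫ s₂.left := congrArg CommaMorphism.left e₂.symm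
    rw [this]
    exact hP.postcomp _ _ hPk hs₂e
  -- Claim A : `c` is etale
  set c₂ : pullback a fst ⟶ X' := pullback.snd a fst with hc₂_def
  have sqQ : IsPullback (pullback.fst a fst) c₂ a fst := IsPullback.of_hasPullback a fst
  have hc₂e : RepWith @Etale c₂ := MorphismProperty.of_isPullback sqQ ha
  have hc₂s : RepWith @Surjective c₂ := MorphismProperty.of_isPullback sqQ has
  set c₁ : (yon S).obj (ht.pullback u) ⟶ pullback a fst :=
    pullback.lift ((yon S).map s) c hc₁.symm with hc₁_def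
  have hc₁₁ : c₁ ≫ pullback.fst a fst = (yon S).map s := pullback.lift_fst _ _ _
  have hc₁₂ : c₁ ≫ c₂ = c := pullback.lift_snd _ _ _
  have right : IsPullback (pullback.fst a fst) (c₂ ≫ f') u g := by
    rw [hu]; exact sqQ.paste_vert sq
  have sqc₁ : IsPullback c₁ ((yon S).map r) (c₂ ≫ f') b' := by
    refine IsPullback.of_right ?_ ?_ right
    · rw [hc₁₁, ← ht_def]; exact sq₁.flip
    · rw [← Category.assoc, hc₁₂, hc₂]
  have hc₁e : RepWith @Etale c₁ := MorphismProperty.of_isPullback sqc₁.flip hb'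
  have hce : RepWith @Etale c := by
    rw [← hc₁₂]; exact (RepWith (S := S) @Etale).comp_mem _ _ hc₁e hc₂e
  -- Claim C : weak surjectivity
  have hsurj : ∀ t₀ : ↥U'.left, Points.ofPt a' t₀ ∈ Set.range (Points.map c) := by
    intro t₀
    obtain ⟨q, hq⟩ := surjective_map_of_repWith_surjective hc₂s (Points.ofPt a' t₀)
    have hq' : Points.map (c₂ ≫ f') q = Points.map b' (Points.ofScheme V' (h'.left t₀)) := by
      rw [Points.map_comp, hq, Points.map_ofPt, comm', ofPt_yon_map_comp,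
        Points.ofPt_eq_map_ofScheme]
    obtain ⟨w, hw₁, -⟩ := exists_point_of_isPullback sqc₁ q _ hq'
    exact ⟨w, by rw [← hc₁₂, Points.map_comp, hw₁, hq]⟩
  exact transfer' hP f' c b' r hce hb' hc₂ hPr a' b' h' ha' hb' comm' hsurj


end BaseChange

section Descent

open Groth.Agent.Lib.Helper52 Groth.Agent.Lib.Helper51 Groth.Agent.Lib.Helper78.AlgSpFibre
open Groth.Agent.Lib.Helper78.AlgSpBasic Groth.Agent.Lib.Helper78.FpqcFamily
open Groth.Agent.Lib.Helper31.AlgSpFlatAt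

/-- descent of `LocP lci` along an fpqc covering of the target. -/
theorem locP_lci_of_fpqc_cover_base
    {S : Scheme.{u}} {X Y : Sp S} {ι : Type u} (Yi : ι → Sp S)
    (g : ∀ i, Yi i ⟶ Y) (hX : IsAlgSpace X) (hY : IsAlgSpace Y) (hYi : ∀ i, IsAlgSpace (Yi i))
    (hcov : IsFpqcCover Yi g) (f : X ⟶ Y)
    (Xi : ι → Sp S) (p : ∀ i, Xi i ⟶ Yi i) (q : ∀ i, Xi i ⟶ X)
    (hXi : ∀ i, IsAlgSpace (Xi i)) (sq : ∀ i, IsPullback (q i) (p i) f (g i))
    (H : ∀ i, LocP AlgSp.lci (p i)) : LocP AlgSp.lci f := by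
  have hP := etLocalST_lci.{u}
  obtain ⟨U₀, a₀, ha₀, ha₀s⟩ := hX.atlas
  obtain ⟨V, b, hb, hbs⟩ := hY.atlas
  obtain ⟨U, j, h, sq₀, ha, has⟩ := exists_chart_diagram f a₀ ha₀ b hb
  have has := has ha₀s hbs
  obtain ⟨u₀, hu₀⟩ : ∃ u₀ : (yon S).obj U₀ ⟶ Y, u₀ = a₀ ≫ f := ⟨_, rfl⟩
  rw [← hu₀] at sq₀
  have comm : ((yon S).map j ≫ a₀) ≫ f = (yon S).map h ≫ b := by
    rw [Category.assoc, ← hu₀]; exact sq₀.w.symm
  refine locP_of_chart hP f _ b h ha has hb comm ?_
  refine IsZariskiLocalAtTarget.of_forall_exists_morphismRestrict (P := AlgSp.lci) fun y => ?_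
  -- an affine neighbourhood of `y`
  obtain ⟨V₀, hV₀, hyV₀, -⟩ := exists_isAffineOpen_mem_and_subset
    (TopologicalSpace.Opens.mem_top y)
  refine ⟨V₀, hyV₀, ?_⟩
  set ι₀ := opensOverι V V₀ with hι₀
  obtain ⟨m, W, c, hW, hc, hsurj, hl⟩ := hcov.2 (opensOver V V₀) hV₀ ((yon S).map ι₀ ≫ b)
  have key : ∀ jj : Fin m, ∃ (Uj : Over S) (e : Uj ⟶ U) (r : Uj ⟶ W jj),
      IsPullback e.left r.left h.left ((c jj).left ≫ V₀.ι) ∧ AlgSp.lci r.left := by
    intro jj
    obtain ⟨i, l, hl⟩ := hl jj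
    obtain ⟨cι, hcι⟩ : ∃ cι : W jj ⟶ V, cι = c jj ≫ ι₀ := ⟨_, rfl⟩
    obtain ⟨t, ht⟩ : ∃ t : (yon S).obj (W jj) ⟶ Y, t = (yon S).map cι ≫ b := ⟨_, rfl⟩
    have hlt : l ≫ g i = t := by
      rw [ht, hcι, Functor.map_comp, Category.assoc]; exact hl
    have hcιleft : cι.left = (c jj).left ≫ V₀.ι := by rw [hcι]; rfl
    haveI : Flat (c jj).left := hc jj
    haveI : Flat cι.left := by
      rw [hcιleft]
      exact MorphismProperty.comp_mem (W := @Flat) _ _ (hc jj) (inferInstance : Flat V₀.ι)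
    -- `U_j = U₀ ×_Y W`
    have htrep : Representable t := repAll_of_isAlgSpace hY t
    have sqj := htrep.isPullback' u₀
    set r : htrep.pullback u₀ ⟶ W jj := htrep.fst' u₀ with hr
    set s : htrep.pullback u₀ ⟶ U₀ := htrep.snd u₀ with hs
    -- `e : U_j ⟶ U`
    have we : (yon S).map (r ≫ cι) ≫ b = (yon S).map s ≫ u₀ := by
      rw [Functor.map_comp, Category.assoc, ← ht]; exact sqj.w
    obtain ⟨e, he⟩ := (yon S).map_surjective (sq₀.lift _ _ we)
    have e₁ : e ≫ h = r ≫ cι := (yon S).map_injective (by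
      rw [Functor.map_comp, he]; exact sq₀.lift_fst _ _ _)
    have e₂ : e ≫ j = s := (yon S).map_injective (by
      rw [Functor.map_comp, he]; exact sq₀.lift_snd _ _ _)
    have sqe : IsPullback ((yon S).map e) ((yon S).map r) ((yon S).map h) ((yon S).map cι) := by
      refine IsPullback.of_right ?_ (by rw [← Functor.map_comp, ← Functor.map_comp, e₁]) sq₀.flip
      rw [← Functor.map_comp, e₂, ← ht]
      exact sqj.flip
    have sqe' : IsPullback e r h cι := IsPullback.of_map (yon S) e₁ sqe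
    have sqe'' : IsPullback e.left r.left h.left cι.left := sqe'.map (Over.forget S)
    refine ⟨_, e, r, by rw [← hcιleft]; exact sqe'', ?_⟩
    -- an atlas of `Y i` and the chart `W'` of `W` over it
    obtain ⟨Vi, bi, hbi, hbis⟩ := (hYi i).atlas
    obtain ⟨W', ω₂, ω₁, sqW'⟩ := exists_isPullback_of_representable hbi.1 l
    haveI : Etale ω₁.left := hbi.2 l _ ω₁ sqW'
    haveI : Surjective ω₁.left := hbis.2 l _ ω₁ sqW'
    -- `B = V_i ×_Y V`
    obtain ⟨B, β₂, β₁, sqB⟩ := exists_isPullback_of_representable hb.1 (bi ≫ g i)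
    haveI : Etale β₁.left := hb.2 (bi ≫ g i) _ β₁ sqB
    have hβ₁bi : RepWith @Etale ((yon S).map β₁ ≫ bi) :=
      (RepWith (S := S) @Etale).comp_mem _ _
        ((repWith_yon_map_iff _ _).2 (inferInstance : Etale β₁.left)) hbi
    have hBw : ((yon S).map β₁ ≫ bi) ≫ g i = (yon S).map β₂ ≫ b := by
      rw [Category.assoc]; exact sqB.w.symm
    haveI : Flat β₂.left := hcov.1 i ((yon S).map β₁ ≫ bi) b β₂ hβ₁bi hb hBw
    -- `θ : W' ⟶ B`
    have wθ : (yon S).map (ω₁ ≫ cι) ≫ b = (yon S).map ω₂ ≫ (bi ≫ g i) := by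
      rw [Functor.map_comp, Category.assoc, ← ht, ← hlt, ← Category.assoc, ← sqW'.w,
        Category.assoc]
    obtain ⟨θ, hθ⟩ := (yon S).map_surjective (sqB.lift _ _ wθ)
    have hθ₂ : θ ≫ β₂ = ω₁ ≫ cι := (yon S).map_injective (by
      rw [Functor.map_comp, hθ]; exact sqB.lift_fst _ _ _)
    -- the base change `h_B` of `h` to `B` is lci
    obtain ⟨UB, υ₁, υ₂, sqUBo, sqUBs⟩ := Groth.Agent.Lib.Helper30.isPullback_over' h β₂
    have sqUBy := sqUBo.map (yon S)
    have bigB : IsPullback ((yon S).map υ₁ ≫ (yon S).map j) ((yon S).map υ₂) (a₀ ≫ f)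
        (((yon S).map β₁ ≫ bi) ≫ g i) := by
      rw [hBw, ← hu₀]
      exact sqUBy.paste_horiz sq₀.flip
    have wξ : (((yon S).map υ₁ ≫ (yon S).map j) ≫ a₀) ≫ f =
        ((yon S).map υ₂ ≫ ((yon S).map β₁ ≫ bi)) ≫ g i := by
      rw [Category.assoc, bigB.w]; simp only [Category.assoc]
    set ξ := (sq i).lift _ _ wξ with hξ
    have hξ₁ : ξ ≫ q i = ((yon S).map υ₁ ≫ (yon S).map j) ≫ a₀ := (sq i).lift_fst _ _ _
    have hξ₂ : ξ ≫ p i = (yon S).map υ₂ ≫ ((yon S).map β₁ ≫ bi) := (sq i).lift_snd _ _ _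
    have hξe : RepWith @Etale ξ :=
      repWith_lift_of_big @Etale (sq i) a₀ ((yon S).map β₁ ≫ bi) ha₀ hβ₁bi _ _ bigB ξ hξ₁ hξ₂
    have hlciB : AlgSp.lci υ₂.left := H i ξ ((yon S).map β₁ ≫ bi) υ₂ hξe hβ₁bi hξ₂
    -- `C = W' ×_V B` with its section
    obtain ⟨C, γ₁, γ₂, sqCo, sqCs⟩ := Groth.Agent.Lib.Helper30.isPullback_over' (ω₁ ≫ cι) β₂
    haveI : Flat (ω₁ ≫ cι).left := by
      show Flat (ω₁.left ≫ cι.left)
      infer_instance
    haveI : Flat γ₁.left := MorphismProperty.of_isPullback (P := @Flat) sqCs.flip inferInstance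
    haveI : Flat γ₂.left := MorphismProperty.of_isPullback (P := @Flat) sqCs inferInstance
    have wσ : 𝟙 W' ≫ (ω₁ ≫ cι) = θ ≫ β₂ := by rw [Category.id_comp, hθ₂]
    set σ := sqCo.lift (𝟙 W') θ wσ with hσ
    have hσ₁ : σ ≫ γ₁ = 𝟙 W' := sqCo.lift_fst _ _ _
    have hσ₁' : σ.left ≫ γ₁.left = 𝟙 W'.left := by
      have := congrArg CommaMorphism.left hσ₁
      exact this
    -- descent along `ω₁` (etale surjective)
    refine Groth.Agent.Lib.Helper98.LciLocal.lci_of_flat_openMap_surjective r.left ω₁.left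
      ω₁.left.isOpenMap ω₁.left.surjective ?_
    -- descent along `γ₁` (flat with a section)
    refine lci_of_flat_section_cover (pullback.snd r.left ω₁.left) γ₁.left (𝟙 W'.left) σ.left hσ₁'
      (by exact IsOpenMap.id) (by exact Function.surjective_id) ?_
    -- the base change to `C` is a flat base change of `h_B`
    have sqA := IsPullback.of_hasPullback (pullback.snd r.left ω₁.left) γ₁.left
    have sqB' := IsPullback.of_hasPullback r.left ω₁.left
    have bigC := (sqA.paste_horiz sqB').paste_horiz sqe''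
    have hbot : (γ₁.left ≫ ω₁.left) ≫ cι.left = γ₂.left ≫ β₂.left := by
      rw [Category.assoc]; exact sqCs.w
    rw [hbot] at bigC
    have sqfin : IsPullback (sqUBs.lift _ _ bigC.w)
        (pullback.snd (pullback.snd r.left ω₁.left) γ₁.left) υ₂.left γ₂.left :=
      IsPullback.of_right (by rw [sqUBs.lift_fst]; exact bigC) (sqUBs.lift_snd _ _ _) sqUBs
    exact Groth.Agent.S8658.result υ₂.left γ₂.left _ _ sqfin hlciB
  choose Uj e r hsq hr using key
  exact descent_finite_family_restrict AlgSp.lci h.left V₀ hV₀ (fun j => (W j).left) hW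
    (fun j => (c j).left) hc hsurj (fun j => (Uj j).left) (fun j => (e j).left)
    (fun j => (r j).left) hsq hr

/-- `IsLCIMor` is fpqc local on the base. -/
theorem isLocalOnBase_fpqc_lci (S : Scheme.{u}) :
    AlgSp.IsLocalOnBase (AlgSp.IsFpqcCover (S := S)) AlgSp.IsLCIMor := by
  intro ι Y Yi g hY hYi hcov X f hX Xi p q hXi sq
  constructor
  · intro hf i
    exact locP_lci_of_isPullback_flat (sq i) (repAll_of_isAlgSpace hY) hX.atlas hY.atlas
      (hcov.1 i) hf
  · intro H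
    exact locP_lci_of_fpqc_cover_base Yi g hX hY hYi hcov f Xi p q hXi sq H

end Descent

end Groth.Agent.Lib.Helper31.AlgSpLciFpqc
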