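import Mathlib
import Groth.Agent.Lib.Helper31.AlgSpFibreDim
import Groth.Agent.Lib.Helper31.AlgSpFibFlat4
import Groth.Agent.Lib.Helper21.EtaleLocalDim
import Groth.Agent.Lib.Helper73.FlatRelDim3

/-!
# Dimension at a point of an algebraic space, dimension formula for flat morphisms (helper31)
-/

set_option autoImplicit false
universe u

namespace Groth.Agent.Lib.Helper31.AlgSpFlatAt

open CategoryTheory CategoryTheory.Limits AlgebraicGeometry AlgSp
open Groth.Agent.Lib.Helper52 Groth.Agent.Lib.Helper51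

variable {S : Scheme.{u}} {X Y : AlgSp.Sp S}

/-- **Chart independence of the dimension at a point.** -/
theorem localDim_transfer {U U' : Over S} (a : (yon S).obj U ⟶ X) (ha : RepWith @Etale a)
    (u : U.left) (a' : (yon S).obj U' ⟶ X) (ha' : RepWith @Etale a') (u' : U'.left)
    (hu : Points.ofPt a u = Points.ofPt a' u') :
    FlatMor.localDim U.left u = FlatMor.localDim U'.left u' := by
  have sqU := ha.rep.isPullback' a'
  set p₁ : ha.rep.pullback a' ⟶ U := ha.rep.fst' a' with hp₁
  set p₂ : ha.rep.pullback a' ⟶ U' := ha.rep.snd a' with hp₂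
  haveI hp₂e : Etale p₂.left := ha.property _ _ _ sqU
  haveI hp₁e : Etale p₁.left := ha'.property _ _ _ sqU.flip
  obtain ⟨w, hw1, hw2⟩ := exists_of_ofPt_eq_ofPt sqU hu
  rw [← hw1, ← hw2, ← Groth.Agent.Lib.Helper21.EtaleLocalDim.localDim_eq_of_etale p₁.left w,
    ← Groth.Agent.Lib.Helper21.EtaleLocalDim.localDim_eq_of_etale p₂.left w]

/-- The dimension at a point can be computed on any etale chart through the point. -/
theorem hasAt_localDim_iff_of_chart (d : WithBot ℕ∞) {U : Over S} (a : (yon S).obj U ⟶ X)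
    (ha : RepWith @Etale a) (u : U.left) :
    HasAt (fun U u => FlatMor.localDim ↥U u = d) X (Points.ofPt a u) ↔
      FlatMor.localDim U.left u = d := by
  constructor
  · rintro ⟨U', a', u', ha', hu', hd⟩
    rw [localDim_transfer a ha u a' ha' u' hu'.symm]
    exact hd
  · intro hd
    exact ⟨U, a, u, ha, rfl, hd⟩

/-- Scheme level: constant local fibre dimension `d` gives relative dimension `d`. -/
theorem hasRelDim_of_forall_fibreDimAt {U V : Scheme.{u}} (h : U ⟶ V) [LocallyOfFiniteType h]
    (d : ℕ) (hd : ∀ u : U, FlatMor.fibreDimAt h u = (d : WithBot ℕ∞)) : Cyc.HasRelDim h d := by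
  rw [Groth.Agent.Lib.Helper73.FlatRelDim.hasRelDim_iff]
  intro ζ hζ
  obtain ⟨ζ', m, hsp, hf, -, hm, hF⟩ :=
    Groth.Agent.Lib.Helper73.SchemeDim.exists_maximal_in_fibre_trdeg_eq_fibreDimAt h ζ
  have : ζ' = ζ := hζ ζ' hsp hf
  subst this
  rw [hd] at hF
  have : d = m := by exact_mod_cast hF
  rw [hm, this]

/-- **Dimension formula** for a flat morphism locally of finite type whose chart has constant local
fibre dimension `d`. -/
theorem localDim_eq_add_of_chart (f : X ⟶ Y) (hX : IsLocNoethSp X) (hY : IsLocNoethSp Y)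
    {U V : Over S} (a : (yon S).obj U ⟶ X) (b : (yon S).obj V ⟶ Y) (h : U ⟶ V)
    (ha : RepWith @Etale a) (hb : RepWith @Etale b) (comm : a ≫ f = (yon S).map h ≫ b)
    [Flat h.left] [LocallyOfFiniteType h.left] (d : ℕ)
    (hd : ∀ u : U.left, FlatMor.fibreDimAt h.left u = (d : WithBot ℕ∞)) (u : U.left)
    (dX dY : WithBot ℕ∞) (hx : HasAt (fun U u => FlatMor.localDim ↥U u = dX) X (Points.ofPt a u))
    (hy : HasAt (fun U u => FlatMor.localDim ↥U u = dY) Y (Points.map f (Points.ofPt a u))) :
    dX = dY + (d : WithBot ℕ∞) := by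
  haveI : IsLocallyNoetherian U.left :=
    Groth.Agent.Lib.Helper31.AlgSpFibFlat.isLocallyNoetherian_of_etale_chart hX a ha
  haveI : IsLocallyNoetherian V.left :=
    Groth.Agent.Lib.Helper31.AlgSpFibFlat.isLocallyNoetherian_of_etale_chart hY b hb
  have h1 := Groth.Agent.Lib.Helper73.FlatRelDim.localDim_eq_add_of_flat_hasRelDim h.left d
    (hasRelDim_of_forall_fibreDimAt h.left d hd) u
  have h2 := (hasAt_localDim_iff_of_chart dX a ha u).1 hx
  have h3 : Points.map f (Points.ofPt a u) = Points.ofPt b (h.left u) := by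
    rw [Points.map_ofPt, comm, ofPt_yon_map_comp]
  rw [h3] at hy
  have h4 := (hasAt_localDim_iff_of_chart dY b hb (h.left u)).1 hy
  rw [← h2, ← h4]
  exact h1

end Groth.Agent.Lib.Helper31.AlgSpFlatAt
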