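import Mathlib
import Groth.Agent.Lib.Helper31.AlgSpDeformInst

/-!
# Cartesian morphisms of thickenings with finite order source thickening (helper31)

* ring level: finite type lifts along a pushout whose *source* thickening has nilpotent kernel;
* scheme level: `locallyOfFiniteType_of_isPullback_of_isNilpotent_ker`;
* `locP_of_finThick_cartesian`.
-/

set_option autoImplicit false
universe u

namespace Groth.Agent.Lib.Helper31.AlgSpFlatAt

open CategoryTheory CategoryTheory.Limits AlgebraicGeometry AlgSp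
open Groth.Agent.Lib.Helper52 Groth.Agent.Lib.Helper51 Groth.Agent.Lib.Helper78.AlgSpLocP
open Groth.Agent.Lib.Helper7

section ring

variable {A' B' A B : CommRingCat.{u}} {φ' : A' ⟶ B'} {π : A' ⟶ A} {ψ : B' ⟶ B} {φ : A ⟶ B}

/-- Finite type lifts along a thickening of the base whose base change to the source has nilpotent
kernel. -/
theorem finiteType_of_isPushout_of_isNilpotent_ker (h : IsPushout φ' π ψ φ)
    (hπ : Function.Surjective π.hom) (hnil : IsNilpotent (RingHom.ker ψ.hom))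
    (hφ : φ.hom.FiniteType) : φ'.hom.FiniteType := by
  classical
  obtain ⟨hψ, hkerψ⟩ := ThickRing.surjective_and_ker_of_isPushout h hπ
  have hw : ∀ x, ψ.hom (φ'.hom x) = φ.hom (π.hom x) := fun x => by
    have := congr($(h.w).hom x)
    simpa using this
  algebraize [φ'.hom, φ.hom]
  obtain ⟨s, hs⟩ := (inferInstance : Algebra.FiniteType A B).out
  choose t ht using fun b : B => hψ b
  let s' : Finset B' := s.image t
  let C : Subalgebra A' B' := Algebra.adjoin A' (s' : Set B')
  suffices hC : C = ⊤ by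
    refine ⟨⟨s', hC⟩⟩
  have himg : ∀ b : B, ∃ c ∈ C, ψ.hom c = b := by
    intro b
    have hb : b ∈ Algebra.adjoin A (s : Set B) := by rw [hs]; trivial
    induction hb using Algebra.adjoin_induction with
    | mem x hx =>
      refine ⟨t x, Algebra.subset_adjoin ?_, ht x⟩
      exact Finset.mem_coe.mpr (Finset.mem_image_of_mem t hx)
    | algebraMap r =>
      obtain ⟨r', rfl⟩ := hπ r
      exact ⟨algebraMap A' B' r', C.algebraMap_mem r', hw r'⟩
    | add x y _ _ hx hy =>
      obtain ⟨c, hc, rfl⟩ := hx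
      obtain ⟨c', hc', rfl⟩ := hy
      exact ⟨c + c', C.add_mem hc hc', map_add _ _ _⟩
    | mul x y _ _ hx hy =>
      obtain ⟨c, hc, rfl⟩ := hx
      obtain ⟨c', hc', rfl⟩ := hy
      exact ⟨c * c', C.mul_mem hc hc', map_mul _ _ _⟩
  have hsup : Subalgebra.toSubmodule C ⊔ (RingHom.ker π.hom) • (⊤ : Submodule A' B') = ⊤ := by
    rw [eq_top_iff]
    intro b _
    obtain ⟨c, hc, hcb⟩ := himg (ψ.hom b)
    have hmem : b - c ∈ RingHom.ker ψ.hom := by
      rw [RingHom.mem_ker, map_sub, hcb, sub_self]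
    rw [hkerψ] at hmem
    have hmem' : b - c ∈ (RingHom.ker π.hom) • (⊤ : Submodule A' B') := by
      have := Ideal.smul_top_eq_map (R := A') (S := B') (RingHom.ker π.hom)
      rw [this]
      exact hmem
    have : b = c + (b - c) := by ring
    rw [this]
    exact Submodule.add_mem_sup hc hmem'
  obtain ⟨k, hk⟩ := hnil
  have h1 := ThickRing.sup_pow_smul_top_eq_top _ _ hsup k
  have h2 : (RingHom.ker π.hom ^ k) • (⊤ : Submodule A' B') = ⊥ := by
    rw [Ideal.smul_top_eq_map, Ideal.map_pow]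
    have : Ideal.map (algebraMap A' B') (RingHom.ker π.hom) = RingHom.ker ψ.hom := hkerψ.symm
    rw [this, hk]
    rfl
  rw [h2, sup_bot_eq] at h1
  exact Subalgebra.toSubmodule_injective (by rw [h1]; rfl)

end ring

/-- Locally of finite type lifts along a cartesian morphism of thickenings whose source thickening
has nilpotent kernel. -/
theorem locallyOfFiniteType_of_isPullback_of_isNilpotent_ker
    {X X' T T' : Scheme.{u}} {iX : X ⟶ X'} {iT : T ⟶ T'} {f : X ⟶ T} {f' : X' ⟶ T'}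
    (hc : IsPullback iX f f' iT) [IsClosedImmersion iT] (hnil : IsNilpotent iX.ker)
    (hf : LocallyOfFiniteType f) : LocallyOfFiniteType f' := by
  have hiX : IsClosedImmersion iX := MorphismProperty.of_isPullback hc.flip ‹_›
  refine ThickBridge.of_isPullback_of_lift (P := @LocallyOfFiniteType) (Q := RingHom.FiniteType)
    hc ?_ hf
  intro V' hV' U' hU' e B ψ φ hpo hφ
  have h1 := ThickRing.surjective_and_ker_of_isPushout hpo (iT.app_surjective V' hV')
  have h2 := ThickRing.surjective_and_ker_of_isPushout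
    (ThickBridge.isPushout_appLE hc V' hV' U' hU' e) (iT.app_surjective V' hV')
  have h3 : IsNilpotent (RingHom.ker ψ.hom) := by
    rw [h1.2, ← h2.2]
    exact ThickBridge.isNilpotent_ker_app iX hnil U' hU'
  exact finiteType_of_isPushout_of_isNilpotent_ker hpo (iT.app_surjective V' hV') h3 hφ

variable {S : Scheme.{u}}

/-- Shrink the source chart of a chart diagram to an affine neighbourhood of a given point. -/
theorem exists_affine_source_chart {X Y : Sp S} (f : X ⟶ Y) {U V : Over S}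
    (a : (yon S).obj U ⟶ X) (b : (yon S).obj V ⟶ Y) (h : U ⟶ V) (ha : RepWith @Etale a)
    (comm : a ≫ f = (yon S).map h ≫ b) (u : U.left) :
    ∃ (U₀ : Over S) (a₀ : (yon S).obj U₀ ⟶ X) (h₀ : U₀ ⟶ V) (u₀ : U₀.left),
      IsAffine U₀.left ∧ RepWith @Etale a₀ ∧ a₀ ≫ f = (yon S).map h₀ ≫ b ∧
      Points.ofPt a₀ u₀ = Points.ofPt a u := by
  obtain ⟨U₀', hU₀', hu⟩ : ∃ U₀' : U.left.Opens, IsAffineOpen U₀' ∧ u ∈ U₀' := by
    obtain ⟨U₀', hU₀', hw, -⟩ := TopologicalSpace.Opens.isBasis_iff_nbhd.mp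
      U.left.isBasis_affineOpens (TopologicalSpace.Opens.mem_top u)
    exact ⟨U₀', hU₀', hw⟩
  let U₀ : Over S := Over.mk (U₀'.ι ≫ U.hom)
  let ιU : U₀ ⟶ U := Over.homMk U₀'.ι rfl
  have hιU : RepWith @Etale ((yon S).map ιU) :=
    (repWith_yon_map_iff _ _).2 (inferInstanceAs (Etale U₀'.ι))
  refine ⟨U₀, (yon S).map ιU ≫ a, ιU ≫ h, ⟨u, hu⟩, hU₀',
    (RepWith (S := S) @Etale).comp_mem _ _ hιU ha, ?_, ?_⟩
  · rw [Category.assoc, comm, Functor.map_comp, Category.assoc]
  · exact ofPt_yon_map_comp ιU a ⟨u, hu⟩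

/-- **`LocP P` lifts along a cartesian morphism of thickenings with finite order source.** -/
theorem locP_of_finThick_cartesian {P : MorphismProperty Scheme.{u}} (hP : EtLocalST P)
    [IsZariskiLocalAtSource P]
    (hlift : ∀ {A A' B B' : Scheme.{u}} (iA : A ⟶ A') (iB : B ⟶ B') (g : A ⟶ B) (g' : A' ⟶ B'),
      thick iA → thick iB → IsPullback iA g g' iB → IsNilpotent iA.ker → P g → P g')
    {X X' Y Y' : Sp S} (hX' : IsAlgSpace X') (hY' : IsAlgSpace Y') (i : X ⟶ X') (j : Y ⟶ Y')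
    (f : X ⟶ Y) (f' : X' ⟶ Y') (hi : IsFinThickMor i) (hj : IsThickMor j)
    (hcart : IsPullback i f f' j) (hf : LocP P f) : LocP P f' := by
  obtain ⟨n, hit, hin⟩ := hi
  refine locP_of_pointwise_charts hP f' fun x' => ?_
  obtain ⟨U', V', a', b', h', u', ha', hb', comm', rfl⟩ := exists_chart_at f' hX' hY' x'
  obtain ⟨U₀, a₀, h₀, u₀, hU₀, ha₀, comm₀, hu₀⟩ :=
    exists_affine_source_chart f' a' b' h' ha' comm' u'
  obtain ⟨U, V, pU, pV, kU, kV, h, hpU, hpV, comm, hkU, hkV, sqa, -, sq⟩ :=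
    Groth.Agent.Lib.Helper78.AlgSpThickChart.exists_thick_chart i j f f' hit hj hcart a₀ b' h₀
      ha₀ hb' comm₀
  have hpow : powZero n kU.left := hin a₀ pU kU hU₀ ha₀ sqa
  exact ⟨U₀, V', a₀, b', h₀, ha₀, hb', comm₀, ⟨u₀, hu₀⟩,
    hlift kU.left kV.left h.left h₀.left hkU hkV sq ⟨n + 1, hpow⟩ (hf pU pV h hpU hpV comm)⟩

/-- Both directions. -/
theorem locP_iff_of_finThick_cartesian {P : MorphismProperty Scheme.{u}} (hP : EtLocalST P)
    [IsZariskiLocalAtSource P] [P.IsStableUnderBaseChange]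
    (hlift : ∀ {A A' B B' : Scheme.{u}} (iA : A ⟶ A') (iB : B ⟶ B') (g : A ⟶ B) (g' : A' ⟶ B'),
      thick iA → thick iB → IsPullback iA g g' iB → IsNilpotent iA.ker → P g → P g')
    {X X' Y Y' : Sp S} (hX' : IsAlgSpace X') (hY' : IsAlgSpace Y') (i : X ⟶ X') (j : Y ⟶ Y')
    (f : X ⟶ Y) (f' : X' ⟶ Y') (hi : IsFinThickMor i) (hj : IsThickMor j)
    (hcart : IsPullback i f f' j) : LocP P f ↔ LocP P f' := by
  constructor
  · exact locP_of_finThick_cartesian hP hlift hX' hY' i j f f' hi hj hcart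
  · intro hf'
    exact Groth.Agent.Lib.Helper78.AlgSpLocP.locP_of_isPullback hP hcart
      (Groth.Agent.Lib.Helper78.AlgSpFibre.repAll_of_isAlgSpace hY') hX'.atlas hY'.atlas hf'

end Groth.Agent.Lib.Helper31.AlgSpFlatAt
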