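import Mathlib
import Groth.Agent.Lib.Helper31.AlgSpThickCart
import Groth.Agent.Lib.Helper24.LfpOfComp

/-!
# Deformations over an arbitrary thickening, finitely presented case (helper31)

`X' ⟶ Y' ⟶ B'` with `Y'` locally of finite type over `B'`, `X'` flat and locally of finite
presentation over `B'`, and `B ⟶ B'` any thickening.
-/

set_option autoImplicit false
universe u

namespace Groth.Agent.Lib.Helper31.AlgSpFlatAt

open CategoryTheory CategoryTheory.Limits AlgebraicGeometry AlgSp
open Groth.Agent.Lib.Helper52 Groth.Agent.Lib.Helper51 Groth.Agent.Lib.Helper78.AlgSpLocP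
open Groth.Agent.Lib.Helper7 Groth.Agent.Lib.Helper78

section Scheme

variable {X X' Y Y' : Scheme.{u}} {iX : X ⟶ X'} {iY : Y ⟶ Y'} {f : X ⟶ Y} {f' : X' ⟶ Y'}

/-- Smoothness lifts along a cartesian morphism of thickenings when the target morphism is flat and
locally of finite presentation. -/
theorem smooth_of_isPullback_thick (sq : IsPullback iX f f' iY) (hY : thick iY) [Flat f']
    [LocallyOfFinitePresentation f'] (hf : Smooth f) : Smooth f' := by
  have hiY : IsClosedImmersion iY := hY.1
  have hiY' : Surjective iY := hY.2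
  apply Smooth.of_smooth_fiberToSpecResidueField
  intro y'
  obtain ⟨t₀, ht₀⟩ := Deform.exists_lift_of_isReduced (Y'.fromSpecResidueField y') iY
  have hpaste : IsPullback (pullback.fst f t₀ ≫ iX) (pullback.snd f t₀) f' (t₀ ≫ iY) :=
    (IsPullback.of_hasPullback f t₀).paste_horiz sq
  rw [ht₀] at hpaste
  have h1 : pullback.snd f' (Y'.fromSpecResidueField y') =
      hpaste.isoPullback.inv ≫ pullback.snd f t₀ := by
    rw [Iso.eq_inv_comp]
    exact hpaste.isoPullback_hom_snd
  change Smooth (pullback.snd f' (Y'.fromSpecResidueField y'))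
  rw [h1]
  exact (MorphismProperty.cancel_left_of_respectsIso @Smooth _ _).mpr inferInstance

/-- Etaleness lifts along a cartesian morphism of thickenings when the target morphism is flat and
locally of finite presentation. -/
theorem etale_of_isPullback_thick (sq : IsPullback iX f f' iY) (hY : thick iY) [Flat f']
    [LocallyOfFinitePresentation f'] (hf : Etale f) : Etale f' := by
  have hiY : IsClosedImmersion iY := hY.1
  have hiY' : Surjective iY := hY.2
  haveI : FormallyUnramified f' :=
    ThickBridge.formallyUnramified_of_isPullback_of_thickening sq inferInstance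
  exact Etale.of_formallyUnramified_of_flat f'

end Scheme

variable {S : Scheme.{u}}

theorem locP_inf {P Q : MorphismProperty Scheme.{u}} {F G : Sp S} {f : F ⟶ G}
    (hP : LocP P f) (hQ : LocP Q f) : LocP (P ⊓ Q) f :=
  fun _ _ a b h ha hb comm => ⟨hP a b h ha hb comm, hQ a b h ha hb comm⟩

/-- If `f ≫ g` is locally of finite presentation and `g` is locally of finite type then `f` is locally
of finite presentation. -/
theorem locP_lfp_of_comp {X Y Z : Sp S} (f : X ⟶ Y) (g : Y ⟶ Z) (hX : IsAlgSpace X)
    (hY : IsAlgSpace Y) (hZ : IsAlgSpace Z) (hfg : LocP @LocallyOfFinitePresentation (f ≫ g))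
    (hg : LocP @LocallyOfFiniteType g) : LocP @LocallyOfFinitePresentation f := by
  obtain ⟨G⟩ := exists_goodChart f g hX hY hZ
  refine locP_of_pointwise_charts AlgSpLocPLofp.etLocalST_lofp f fun x => ?_
  haveI : LocallyOfFinitePresentation (G.k.left ≫ G.l.left) :=
    hfg G.a G.c (G.k ≫ G.l) G.ha G.hc G.comm_fh
  haveI : LocallyOfFiniteType G.l.left := hg G.b G.c G.l G.hb G.hc G.comm_h
  exact ⟨G.U, G.V, G.a, G.b, G.k, G.ha, G.hb, G.comm_f,
    surjective_ofPt_of_repWith_surjective G.a G.has x,
    Groth.Agent.Lib.Helper24.locallyOfFinitePresentation_of_comp G.k.left G.l.left⟩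

end Groth.Agent.Lib.Helper31.AlgSpFlatAt
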