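import Mathlib
import Groth.Agent.Lib.Helper31.AlgSpWhere
import Groth.Agent.Lib.Helper24.LfpOfComp

/-!
# The image of the flat locus is open (helper31)
-/

set_option autoImplicit false
universe u

namespace Groth.Agent.Lib.Helper31.AlgSpFlatAt

open CategoryTheory CategoryTheory.Limits AlgebraicGeometry AlgSp
open Groth.Agent.Lib.Helper52 Groth.Agent.Lib.Helper51

/-- Scheme level: the image of the flat locus of `k` is open. -/
theorem isOpen_image_flatAt {U V W : Scheme.{u}} (k : U ⟶ V) (l : V ⟶ W)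
    [LocallyOfFinitePresentation (k ≫ l)] [Flat (k ≫ l)] [LocallyOfFiniteType l] :
    IsOpen (k '' {u : U | FlatAt k u}) := by
  have hopen := isOpen_flatAt k l
  set U₀ : U.Opens := ⟨{u : U | FlatAt k u}, hopen⟩ with hU₀
  haveI : LocallyOfFinitePresentation k :=
    Groth.Agent.Lib.Helper24.locallyOfFinitePresentation_of_comp k l
  haveI : Flat (U₀.ι ≫ k) := by
    refine Flat.of_stalkMap _ fun u₀ => ?_
    have : FlatAt k (U₀.ι u₀) := u₀.2
    exact flatAt_precomp U₀.ι k u₀ this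
  have h1 : IsOpen (Set.range (U₀.ι ≫ k)) := (U₀.ι ≫ k).isOpenMap.isOpen_range
  have h2 : Set.range (U₀.ι ≫ k) = k '' {u : U | FlatAt k u} := by
    ext v
    constructor
    · rintro ⟨u₀, rfl⟩
      exact ⟨U₀.ι u₀, u₀.2, rfl⟩
    · rintro ⟨u, hu, rfl⟩
      exact ⟨⟨u, hu⟩, rfl⟩
  rwa [h2] at h1

variable {S : Scheme.{u}} {X Y Z : AlgSp.Sp S}

/-- The image of the flat locus of `f : X ⟶ Y` (with `X` flat lfp over `Z`, `Y` lft over `Z`) is
open in the points of `Y`. -/
theorem isOpen_image_isFlatAtMor {f : X ⟶ Y} {h : Y ⟶ Z} (G : GoodChart f h)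
    (hfp : LocP @LocallyOfFinitePresentation (f ≫ h)) (hfl : LocP @Flat (f ≫ h))
    (hft : LocP @LocallyOfFiniteType h) :
    IsOpen (Points.map f '' {x : Points X | IsFlatAtMor f x}) := by
  haveI := G.lfp hfp
  haveI := G.flat hfl
  haveI := G.lft hft
  have e : ∀ u, Points.map f (Points.ofPt G.a u) = Points.ofPt G.b (G.k.left u) := by
    intro u
    rw [Points.map_ofPt, G.comm_f]
    exact ofPt_yon_map_comp _ _ _
  have h1 : Points.map f '' {x : Points X | IsFlatAtMor f x} =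
      Points.ofPt G.b '' (G.k.left '' {u : G.U.left | FlatAt G.k.left u}) := by
    ext y
    constructor
    · rintro ⟨x, hx, rfl⟩
      obtain ⟨u, rfl⟩ := surjective_ofPt_of_repWith_surjective G.a G.has x
      exact ⟨G.k.left u, ⟨u, (G.isFlatAtMor_iff u).1 hx, rfl⟩, (e u).symm⟩
    · rintro ⟨_, ⟨u, hu, rfl⟩, rfl⟩
      exact ⟨Points.ofPt G.a u, (G.isFlatAtMor_iff u).2 hu, e u⟩
  rw [h1]
  exact isOpenMap_ofPt_of_etale G.b G.hb _ (isOpen_image_flatAt G.k.left G.l.left)

end Groth.Agent.Lib.Helper31.AlgSpFlatAt
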