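import Mathlib.Algebra.Polynomial.Coeff
import Mathlib.Algebra.Polynomial.Degree.Support
import Mathlib.Algebra.Polynomial.Eval.Defs
import Mathlib.Algebra.Polynomial.Eval.Degree
import Mathlib.Algebra.CharP.Defs
import Mathlib.Algebra.CharP.Basic
import Mathlib.Data.Nat.Choose.Lucas
import Mathlib.Data.Matrix.Mul
import Mathlib.Algebra.BigOperators.Fin

/-!
# Cartier–Manin matrices under translation (helper31)
-/

set_option autoImplicit false
universe u

namespace Groth.Agent.Lib.Helper31

open Polynomial Finset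

variable {k : Type u} [Field k]

/-- coefficients of `F(X + α)` -/
theorem coeff_comp_X_add_C (F : k[X]) (α : k) (t N : ℕ) (hN : F.natDegree < N) :
    (F.comp (X + C α)).coeff t =
      ∑ l ∈ range N, F.coeff l * (α ^ (l - t) * ((l.choose t : ℕ) : k)) := by
  rw [comp_eq_sum_left, sum_over_range' F (by intro n; simp) N hN, finsetSum_coeff]
  refine Finset.sum_congr rfl fun l _ => ?_
  rw [coeff_C_mul, coeff_X_add_C_pow]

/-- Lucas' theorem in a field of characteristic `p` -/
theorem lucas_cast (p : ℕ) [Fact p.Prime] [CharP k p] (n r : ℕ) :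
    ((n.choose r : ℕ) : k) =
      (((n % p).choose (r % p) : ℕ) : k) * (((n / p).choose (r / p) : ℕ) : k) := by
  rw [← Nat.cast_mul]
  exact (CharP.natCast_eq_natCast k p).2 Choose.choose_modEq_choose_mod_mul_choose_div_nat


section Main

variable (p : ℕ) [Fact p.Prime] [CharP k p]

/-- digits of `(i+1) p - (j+1)` -/
theorem digits_aux {i j : ℕ} (hj : j + 1 ≤ p) :
    (i + 1) * p - (j + 1) = i * p + (p - 1 - j) ∧ ((i + 1) * p - (j + 1)) / p = i ∧
      ((i + 1) * p - (j + 1)) % p = p - 1 - j := by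
  have hp : 0 < p := (Fact.out : p.Prime).pos
  have h1 : (i + 1) * p - (j + 1) = i * p + (p - 1 - j) := by
    have : (i + 1) * p = i * p + p := by ring
    omega
  have hlt : p - 1 - j < p := by omega
  refine ⟨h1, ?_, ?_⟩
  · rw [h1, Nat.add_comm, Nat.add_mul_div_right _ _ hp, Nat.div_eq_of_lt hlt, Nat.zero_add]
  · rw [h1, Nat.add_comm, Nat.add_mul_mod_self_right, Nat.mod_eq_of_lt hlt]

/-- the general term identity -/
theorem term_eq (F : k[X]) (α : k) {i j : ℕ} (hj : j + 1 ≤ p) (a b : ℕ) (hb : b < p) :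
    F.coeff (a * p + b) * (α ^ (a * p + b - ((i + 1) * p - (j + 1))) *
        (((a * p + b).choose ((i + 1) * p - (j + 1)) : ℕ) : k)) =
      ((a.choose i : ℕ) : k) * α ^ ((a - i) * p) * F.coeff ((a + 1) * p - ((p - 1 - b) + 1)) *
        ((((p - ((p - 1 - b) + 1)).choose (p - (j + 1)) : ℕ) : k) * α ^ (j - (p - 1 - b))) := by
  have hp : 0 < p := (Fact.out : p.Prime).pos
  obtain ⟨ht, htd, htm⟩ := digits_aux p (i := i) hj
  have hl1 : (a + 1) * p - ((p - 1 - b) + 1) = a * p + b := by
    have : (a + 1) * p = a * p + p := by ring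
    omega
  have hl2 : p - ((p - 1 - b) + 1) = b := by omega
  have hl3 : p - (j + 1) = p - 1 - j := by omega
  have hld : (a * p + b) / p = a := by
    rw [Nat.add_comm, Nat.add_mul_div_right _ _ hp, Nat.div_eq_of_lt hb, Nat.zero_add]
  have hlm : (a * p + b) % p = b := by
    rw [Nat.add_comm, Nat.add_mul_mod_self_right, Nat.mod_eq_of_lt hb]
  rw [hl1, hl2, hl3, lucas_cast p (a * p + b), hld, hlm, htd, htm]
  by_cases hcase : i ≤ a ∧ p - 1 - j ≤ b
  · obtain ⟨hia, hjb⟩ := hcase
    have hexp : a * p + b - ((i + 1) * p - (j + 1)) = (a - i) * p + (j - (p - 1 - b)) := by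
      rw [ht]
      have h1 : a * p = (a - i) * p + i * p := by
        rw [← Nat.add_mul, Nat.sub_add_cancel hia]
      omega
    rw [hexp, pow_add]
    ring
  · have hz : (((b.choose (p - 1 - j) : ℕ) : k)) * (((a.choose i : ℕ) : k)) = 0 := by
      rw [not_and_or] at hcase
      rcases hcase with h | h
      · rw [Nat.choose_eq_zero_of_lt (by omega : a < i)]; simp
      · rw [Nat.choose_eq_zero_of_lt (by omega : b < p - 1 - j)]; simp
    have e1 : F.coeff (a * p + b) * (α ^ (a * p + b - ((i + 1) * p - (j + 1))) *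
        ((((b.choose (p - 1 - j) : ℕ) : k)) * (((a.choose i : ℕ) : k)))) = 0 := by
      rw [hz]; simp
    have e2 : ((a.choose i : ℕ) : k) * α ^ ((a - i) * p) * F.coeff (a * p + b) *
        (((b.choose (p - 1 - j) : ℕ) : k) * α ^ (j - (p - 1 - b))) =
        ((((b.choose (p - 1 - j) : ℕ) : k)) * (((a.choose i : ℕ) : k))) *
          (α ^ ((a - i) * p) * F.coeff (a * p + b) * α ^ (j - (p - 1 - b))) := by ring
    rw [e1, e2, hz, zero_mul]

/-- the translation formula for the Cartier–Manin coefficients -/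
theorem cm_translate (g : ℕ) (hg : g ≤ p) (F : k[X]) (hF : F.natDegree ≤ (g + 1) * (p - 1)) (α : k)
    {i j : ℕ} (hi : i < g) (hj : j < g) :
    (F.comp (X + C α)).coeff ((i + 1) * p - (j + 1)) =
      ∑ J ∈ range g, (∑ I ∈ range g,
        ((I.choose i : ℕ) : k) * α ^ ((I - i) * p) * F.coeff ((I + 1) * p - (J + 1))) *
          ((((p - (J + 1)).choose (p - (j + 1)) : ℕ) : k) * α ^ (j - J)) := by
  have hp : 0 < p := (Fact.out : p.Prime).pos
  have hjp : j + 1 ≤ p := by omega
  obtain ⟨ht, htd, htm⟩ := digits_aux p (i := i) hjp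
  have hN : F.natDegree < (g + 1) * p := by
    have : (g + 1) * (p - 1) + (g + 1) = (g + 1) * p := by
      have : p - 1 + 1 = p := by omega
      calc (g + 1) * (p - 1) + (g + 1) = (g + 1) * (p - 1 + 1) := by ring
        _ = (g + 1) * p := by rw [this]
    omega
  rw [coeff_comp_X_add_C F α _ _ hN]
  -- rewrite RHS as a sum over a product
  have hR : (∑ J ∈ range g, (∑ I ∈ range g,
        ((I.choose i : ℕ) : k) * α ^ ((I - i) * p) * F.coeff ((I + 1) * p - (J + 1))) *
          ((((p - (J + 1)).choose (p - (j + 1)) : ℕ) : k) * α ^ (j - J))) =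
      ∑ x ∈ range g ×ˢ range g,
        ((x.1.choose i : ℕ) : k) * α ^ ((x.1 - i) * p) * F.coeff ((x.1 + 1) * p - (x.2 + 1)) *
          ((((p - (x.2 + 1)).choose (p - (j + 1)) : ℕ) : k) * α ^ (j - x.2)) := by
    rw [Finset.sum_product_right]
    refine Finset.sum_congr rfl fun J _ => ?_
    rw [Finset.sum_mul]
  rw [hR]
  -- facts about nonvanishing terms
  have hfacts : ∀ l, F.coeff l * (α ^ (l - ((i + 1) * p - (j + 1))) *
      ((l.choose ((i + 1) * p - (j + 1)) : ℕ) : k)) ≠ 0 → l / p < g ∧ p - 1 - l % p < g := by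
    intro l hl
    have h1 : F.coeff l ≠ 0 := left_ne_zero_of_mul hl
    have h2 : ((l.choose ((i + 1) * p - (j + 1)) : ℕ) : k) ≠ 0 :=
      right_ne_zero_of_mul (right_ne_zero_of_mul hl)
    have h3 : l ≤ (g + 1) * (p - 1) := (le_natDegree_of_ne_zero h1).trans hF
    rw [lucas_cast p, htd, htm] at h2
    have h4 : (l % p).choose (p - 1 - j) ≠ 0 := by
      intro h; apply h2; rw [h]; simp
    have h5 : p - 1 - j ≤ l % p := by
      by_contra hlt
      exact h4 (Nat.choose_eq_zero_of_lt (by omega))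
    have h6 : l % p < p := Nat.mod_lt _ hp
    have h7 : l = l / p * p + l % p := (Nat.div_add_mod' l p).symm
    have h8 : (g + 1) * (p - 1) + (g + 1) = (g + 1) * p := by
      have : p - 1 + 1 = p := by omega
      calc (g + 1) * (p - 1) + (g + 1) = (g + 1) * (p - 1 + 1) := by ring
        _ = (g + 1) * p := by rw [this]
    have h9 : (g + 1) * p = g * p + p := by ring
    refine ⟨?_, by omega⟩
    by_contra hge
    have h10 : g * p ≤ l / p * p := Nat.mul_le_mul_right p (by omega)
    omega
  refine Finset.sum_bij_ne_zero (fun l _ _ => (l / p, p - 1 - l % p)) ?_ ?_ ?_ ?_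
  · intro l _ hl
    obtain ⟨h1, h2⟩ := hfacts l hl
    simp only [Finset.mem_product, Finset.mem_range]
    exact ⟨h1, h2⟩
  · intro l₁ _ _ l₂ _ _ h
    simp only [Prod.mk.injEq] at h
    have h6 : l₁ % p < p := Nat.mod_lt _ hp
    have h6' : l₂ % p < p := Nat.mod_lt _ hp
    have h7 : l₁ = l₁ / p * p + l₁ % p := (Nat.div_add_mod' l₁ p).symm
    have h7' : l₂ = l₂ / p * p + l₂ % p := (Nat.div_add_mod' l₂ p).symm
    have h8 : l₁ % p = l₂ % p := by omega
    rw [h7, h7', h.1, h8]
  · rintro ⟨I, J⟩ hIJ hne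
    simp only [Finset.mem_product, Finset.mem_range] at hIJ
    obtain ⟨hI, hJ⟩ := hIJ
    have hJp : J + 1 ≤ p := by omega
    obtain ⟨hl, hld, hlm⟩ := digits_aux p (i := I) hJp
    have hb : p - 1 - J < p := by omega
    have hJ' : p - 1 - (p - 1 - J) = J := by omega
    have hterm := term_eq p F α (i := i) hjp I (p - 1 - J) hb
    rw [hJ', ← hl] at hterm
    refine ⟨(I + 1) * p - (J + 1), ?_, ?_, ?_⟩
    · simp only [Finset.mem_range]
      have h9 : (g + 1) * p = g * p + p := by ring
      have h10 : I * p ≤ g * p := Nat.mul_le_mul_right p (by omega)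
      omega
    · rw [hterm]; exact hne
    · simp only [hld, hlm, hJ']
  · intro l _ hl
    have h6 : l % p < p := Nat.mod_lt _ hp
    have h7 : l / p * p + l % p = l := Nat.div_add_mod' l p
    have hterm := term_eq p F α (i := i) hjp (l / p) (l % p) h6
    rw [h7] at hterm
    exact hterm

end Main

end Groth.Agent.Lib.Helper31
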