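import Groth.Agent.Lib.Helper31.RelLift5
import Groth.Agent.Lib.Helper61.UnivThickGlue
import Groth.Agent.Lib.Helper20.ThickAffine2
import Groth.Agent.S18057

set_option autoImplicit false
universe u

namespace Groth.Agent.Lib.Helper31.FSLocal

open AlgebraicGeometry CategoryTheory Limits

lemma surjective_of_isClosedImmersion_SpecMap {R S : CommRingCat.{u}} (φ : R ⟶ S)
    [IsClosedImmersion (Spec.map φ)] : Function.Surjective φ.hom := by
  have h := (IsClosedImmersion.isAffine_surjective_of_isAffine (f := Spec.map φ)).2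
  have e : φ = (Scheme.ΓSpecIso R).inv ≫ (Spec.map φ).appTop ≫ (Scheme.ΓSpecIso S).hom := by
    rw [← Scheme.ΓSpecIso_inv_naturality_assoc, Iso.inv_hom_id, Category.comp_id]
  rw [e]
  simp only [CommRingCat.hom_comp, RingHom.coe_comp]
  exact ((ConcreteCategory.bijective_of_isIso (Scheme.ΓSpecIso S).hom).2.comp h).comp
    (ConcreteCategory.bijective_of_isIso (Scheme.ΓSpecIso R).inv).2

lemma surjective_SpecMap_of_nilp {D₁ D₂ : Type u} [CommRing D₁] [CommRing D₂] (p : D₁ →+* D₂)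
    (hp : Function.Surjective p) (K₁ : Ideal D₁) (hK : K₁ ^ 2 = ⊥) (hker : RingHom.ker p ≤ K₁) :
    Function.Surjective (Spec.map (CommRingCat.ofHom p)) := by
  intro q
  have hrange := _root_.range_comap_of_surjective D₂ p hp
  let q' : PrimeSpectrum D₁ := q
  have hq : q' ∈ Set.range (PrimeSpectrum.comap p) := by
    rw [hrange, PrimeSpectrum.mem_zeroLocus]
    have : K₁ ^ 2 ≤ q'.asIdeal := by rw [hK]; exact bot_le
    exact le_trans hker (Ideal.IsPrime.le_of_pow_le this)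
  obtain ⟨r, hr⟩ := hq
  exact ⟨r, hr⟩

lemma specMap_comp_eq {R S T : Type u} [CommRing R] [CommRing S] [CommRing T] (φ : R →+* S)
    (ψ : S →+* T) (χ : R →+* T) (h : ψ.comp φ = χ) :
    Spec.map (CommRingCat.ofHom ψ) ≫ Spec.map (CommRingCat.ofHom φ) =
      Spec.map (CommRingCat.ofHom χ) := by
  rw [← Spec.map_comp, ← CommRingCat.ofHom_comp, h]

lemma specMap_sq {R S S' T : Type u} [CommRing R] [CommRing S] [CommRing S'] [CommRing T]
    (φ : R →+* S) (ψ : S →+* T) (φ' : R →+* S') (ψ' : S' →+* T) (h : ψ.comp φ = ψ'.comp φ') :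
    Spec.map (CommRingCat.ofHom ψ) ≫ Spec.map (CommRingCat.ofHom φ) =
      Spec.map (CommRingCat.ofHom ψ') ≫ Spec.map (CommRingCat.ofHom φ') := by
  rw [← Spec.map_comp, ← Spec.map_comp, ← CommRingCat.ofHom_comp, ← CommRingCat.ofHom_comp, h]

lemma exists_ringHom_of_forall_mem {X : Scheme.{u}} {U : X.Opens} (hU : IsAffineOpen U)
    {D : Type u} [CommRing D] (l : Spec (CommRingCat.of D) ⟶ X) (hl : ∀ q, l q ∈ U) :
    ∃ ψ : Γ(X, U) →+* D, Spec.map (CommRingCat.ofHom ψ) ≫ hU.fromSpec = l := by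
  have hrange : Set.range l ⊆ Set.range hU.fromSpec := by
    rw [hU.range_fromSpec]
    rintro _ ⟨q, rfl⟩
    exact hl q
  refine ⟨(Spec.preimage (IsOpenImmersion.lift hU.fromSpec l hrange)).hom, ?_⟩
  rw [CommRingCat.ofHom_hom, Spec.map_preimage, IsOpenImmersion.lift_fac]

/-- ring-level lifting through a formally smooth map, in unbundled form -/
lemma exists_ringHom_lift {R S D₁ D₂ : Type u} [CommRing R] [CommRing S] [CommRing D₁]
    [CommRing D₂] (θ : R →+* S) (hθ : letI := θ.toAlgebra; Algebra.FormallySmooth R S)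
    (p : D₁ →+* D₂) (hp : Function.Surjective p) (hnil : RingHom.ker p ^ 2 = ⊥)
    (φ₁ : R →+* D₁) (ψ₂ : S →+* D₂) (h : ψ₂.comp θ = p.comp φ₁) :
    ∃ ψ₁ : S →+* D₁, ψ₁.comp θ = φ₁ ∧ p.comp ψ₁ = ψ₂ := by
  letI := θ.toAlgebra
  haveI : Algebra.FormallySmooth R S := hθ
  letI : Algebra R D₁ := φ₁.toAlgebra
  letI : Algebra R D₂ := (p.comp φ₁).toAlgebra
  let ψ₂' : S →ₐ[R] D₂ := ⟨ψ₂, fun r => by
    have := congrArg (fun k => k r) h
    simpa [RingHom.algebraMap_toAlgebra] using this⟩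
  let p' : D₁ →ₐ[R] D₂ := ⟨p, fun r => rfl⟩
  have hp' : Function.Surjective p' := hp
  have hnil' : IsNilpotent (RingHom.ker (p' : D₁ →+* D₂)) := ⟨2, hnil⟩
  let ψ₁ := Algebra.FormallySmooth.liftOfSurjective ψ₂' p' hp' hnil'
  have hψ : p'.comp ψ₁ = ψ₂' := Algebra.FormallySmooth.comp_liftOfSurjective ψ₂' p' hp' hnil'
  refine ⟨ψ₁.toRingHom, ?_, ?_⟩
  · ext r
    have := ψ₁.commutes r
    simpa [RingHom.algebraMap_toAlgebra] using this
  · ext s
    exact congrArg (fun k => k s) hψ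

end Groth.Agent.Lib.Helper31.FSLocal
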