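import Groth.Agent.Lib.Helper31.FSLocal1

set_option autoImplicit false
universe u

namespace Groth.Agent.Lib.Helper31.FSLocal

open AlgebraicGeometry CategoryTheory Limits

section Core

variable {X Y : Scheme.{u}} (f : X ⟶ Y) {A : Type u} [CommRing A] {I : Ideal A}
  (a : Spec (CommRingCat.of (A ⧸ I)) ⟶ X) (b : Spec (CommRingCat.of A) ⟶ Y)
  (hab : Spec.map (CommRingCat.ofHom (Ideal.Quotient.mk I)) ≫ b = a ≫ f)
  {C : Type u} [CommRing C] [Algebra A C] (π : C →ₐ[A] A ⧸ I)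
  (h' : Spec (CommRingCat.of C) ⟶ pullback f b)
  (hh : h' ≫ pullback.snd f b = Spec.map (CommRingCat.ofHom (algebraMap A C)))
  (huniv : OmegaSh.IsUnivThickening
    (pullback.lift a (Spec.map (CommRingCat.ofHom (Ideal.Quotient.mk I))) hab.symm)
    (Spec.map (CommRingCat.ofHom (π : C →+* A ⧸ I))) h')

include hh huniv in
set_option maxHeartbeats 1600000 in
theorem hypAt_of_good {U : X.Opens} {V : Y.Opens} (hU : IsAffineOpen U) (hV : IsAffineOpen V)
    (hUV : U ≤ f ⁻¹ᵁ V)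
    (hfs : letI := (f.appLE V U hUV).hom.toAlgebra; Algebra.FormallySmooth Γ(Y, V) Γ(X, U))
    (g : A) (hg : ∀ t : Spec (CommRingCat.of (A ⧸ I)),
      Ideal.Quotient.mk I g ∉ PrimeSpectrum.asIdeal (R := A ⧸ I) t → a t ∈ U) :
    RelLift.HypAt I π g := by
  intro D₁ D₂ _ _ _ _ p hp K₁ hK₁ hker hgu σ₂ hσ₂
  obtain ⟨hfirst, hfac, huni⟩ := huniv
  have hs1 : pullback.lift a (Spec.map (CommRingCat.ofHom (Ideal.Quotient.mk I))) hab.symm ≫
      pullback.fst f b = a := pullback.lift_fst _ _ _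
  have hs2 : pullback.lift a (Spec.map (CommRingCat.ofHom (Ideal.Quotient.mk I))) hab.symm ≫
      pullback.snd f b = Spec.map (CommRingCat.ofHom (Ideal.Quotient.mk I)) :=
    pullback.lift_snd _ _ _
  generalize pullback.lift a (Spec.map (CommRingCat.ofHom (Ideal.Quotient.mk I))) hab.symm = s
    at hfac huni hs1 hs2
  -- ring homs
  let πr : C →+* A ⧸ I := π
  let σ₂r : C →+* D₂ := σ₂
  let pr : D₁ →+* D₂ := p
  have hπι : ∀ x : A, πr (algebraMap A C x) = Ideal.Quotient.mk I x := fun x => π.commutes x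
  haveI : IsClosedImmersion (Spec.map (CommRingCat.ofHom πr)) := hfirst.1.1
  have hπsurj : Function.Surjective πr :=
    surjective_of_isClosedImmersion_SpecMap (CommRingCat.ofHom πr)
  have hisurj : Function.Surjective (Spec.map (CommRingCat.ofHom πr)) := hfirst.1.2.surj
  -- the ideal K₂
  set K₂ : Ideal D₂ := K₁.map pr with hK₂def
  have hK₂ : K₂ ^ 2 = ⊥ := by rw [hK₂def, ← Ideal.map_pow, hK₁, Ideal.map_bot]
  have hkerp : RingHom.ker pr ^ 2 = ⊥ := by
    rw [eq_bot_iff, ← hK₁]; exact Ideal.pow_right_mono hker 2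
  have hσ₂alg : ∀ x : A, σ₂r (algebraMap A C x) = algebraMap A D₂ x := fun x => σ₂.commutes x
  have hpalg : ∀ x : A, pr (algebraMap A D₁ x) = algebraMap A D₂ x := fun x => p.commutes x
  have hIK : ∀ x ∈ I, ((Ideal.Quotient.mk K₂).comp (algebraMap A D₂)) x = 0 := by
    intro x hx
    rw [RingHom.comp_apply, Ideal.Quotient.eq_zero_iff_mem, ← hσ₂alg]
    apply hσ₂
    rw [RingHom.mem_ker]
    show πr (algebraMap A C x) = 0
    rw [hπι, Ideal.Quotient.eq_zero_iff_mem]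
    exact hx
  let α₂ : A ⧸ I →+* D₂ ⧸ K₂ := Ideal.Quotient.lift I _ hIK
  have hα₂ : ∀ x : A, α₂ (Ideal.Quotient.mk I x) = Ideal.Quotient.mk K₂ (algebraMap A D₂ x) :=
    fun x => Ideal.Quotient.lift_mk I _ hIK
  have hσπ : (Ideal.Quotient.mk K₂).comp σ₂r = α₂.comp πr := by
    ext c
    obtain ⟨x, hx⟩ := Ideal.Quotient.mk_surjective (πr c)
    have h1 : c - algebraMap A C x ∈ RingHom.ker π := by
      rw [RingHom.mem_ker]
      show πr (c - algebraMap A C x) = 0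
      rw [map_sub, hπι, hx, sub_self]
    have h2 := hσ₂ _ h1
    have h3 : σ₂r c - algebraMap A D₂ x ∈ K₂ := by
      have : σ₂ (c - algebraMap A C x) = σ₂r c - algebraMap A D₂ x := by
        rw [map_sub, ← hσ₂alg]; rfl
      rw [← this]; exact h2
    simp only [RingHom.comp_apply]
    rw [← hx, hα₂]
    exact Ideal.Quotient.eq.mpr h3
  -- the morphism l₂
  let l₂ : Spec (CommRingCat.of D₂) ⟶ X :=
    Spec.map (CommRingCat.ofHom σ₂r) ≫ h' ≫ pullback.fst f b
  have hunitD₂ : IsUnit (algebraMap A D₂ g) := by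
    rw [← hpalg]; exact hgu.map pr
  have hl₂U : ∀ q, l₂ q ∈ U := by
    intro q
    obtain ⟨t, ht⟩ := hisurj (Spec.map (CommRingCat.ofHom σ₂r) q)
    have h1 : l₂ q = a t := by
      show (Spec.map (CommRingCat.ofHom σ₂r) ≫ h' ≫ pullback.fst f b) q = a t
      rw [Scheme.Hom.comp_apply, ← ht, ← Scheme.Hom.comp_apply, ← Category.assoc, hfac, hs1]
    rw [h1]
    apply hg
    intro hmem
    have ht' : PrimeSpectrum.comap πr t = PrimeSpectrum.comap σ₂r q := ht
    have h2 : algebraMap A C g ∈ (PrimeSpectrum.comap πr t).asIdeal := by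
      show πr (algebraMap A C g) ∈ PrimeSpectrum.asIdeal (R := A ⧸ I) t
      rw [hπι]; exact hmem
    rw [ht'] at h2
    have h3 : algebraMap A D₂ g ∈ PrimeSpectrum.asIdeal (R := D₂) q := by
      have : σ₂r (algebraMap A C g) ∈ PrimeSpectrum.asIdeal (R := D₂) q := h2
      rwa [hσ₂alg] at this
    exact (PrimeSpectrum.isPrime (R := D₂) q).ne_top (Ideal.eq_top_of_isUnit_mem _ h3 hunitD₂)
  have hl₂f : l₂ ≫ f = Spec.map (CommRingCat.ofHom (algebraMap A D₂)) ≫ b := by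
    show (Spec.map (CommRingCat.ofHom σ₂r) ≫ h' ≫ pullback.fst f b) ≫ f = _
    rw [Category.assoc, Category.assoc, pullback.condition, ← Category.assoc h', hh,
      ← Category.assoc, specMap_comp_eq (algebraMap A C) σ₂r (algebraMap A D₂)
        (by ext x; exact hσ₂alg x)]
  -- the morphism to Y from Spec D₁
  let b₁' : Spec (CommRingCat.of D₁) ⟶ Y := Spec.map (CommRingCat.ofHom (algebraMap A D₁)) ≫ b
  have hpb₁' : Spec.map (CommRingCat.ofHom pr) ≫ b₁' = l₂ ≫ f := by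
    rw [hl₂f]
    show Spec.map (CommRingCat.ofHom pr) ≫ Spec.map (CommRingCat.ofHom (algebraMap A D₁)) ≫ b = _
    rw [← Category.assoc, specMap_comp_eq (algebraMap A D₁) pr (algebraMap A D₂)
        (by ext x; exact hpalg x)]
  have hb₁'V : ∀ q, b₁' q ∈ V := by
    intro q
    obtain ⟨q₂, rfl⟩ := surjective_SpecMap_of_nilp pr hp K₁ hK₁ hker q
    rw [← Scheme.Hom.comp_apply, hpb₁', Scheme.Hom.comp_apply]
    exact hUV (hl₂U q₂)
  obtain ⟨φ₁, hφ₁⟩ := exists_ringHom_of_forall_mem hV b₁' hb₁'V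
  obtain ⟨ψ₂, hψ₂⟩ := exists_ringHom_of_forall_mem hU l₂ hl₂U
  have hcompat : ψ₂.comp (f.appLE V U hUV).hom = pr.comp φ₁ := by
    have h1 : Spec.map (CommRingCat.ofHom (ψ₂.comp (f.appLE V U hUV).hom)) ≫ hV.fromSpec =
        Spec.map (CommRingCat.ofHom (pr.comp φ₁)) ≫ hV.fromSpec := by
      rw [CommRingCat.ofHom_comp, CommRingCat.ofHom_comp, Spec.map_comp, Spec.map_comp,
        Category.assoc, Category.assoc, hφ₁, hpb₁', CommRingCat.ofHom_hom,
        hV.SpecMap_appLE_fromSpec f hU hUV, ← Category.assoc, hψ₂]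
    have h2 := (cancel_mono hV.fromSpec).mp h1
    have h3 := Spec.map_injective h2
    exact congrArg CommRingCat.Hom.hom h3
  obtain ⟨ψ₁, hψ₁θ, hψ₁p⟩ := exists_ringHom_lift (f.appLE V U hUV).hom hfs pr hp hkerp φ₁ ψ₂ hcompat
  let l₁ : Spec (CommRingCat.of D₁) ⟶ X := Spec.map (CommRingCat.ofHom ψ₁) ≫ hU.fromSpec
  have hl₁f : l₁ ≫ f = b₁' := by
    show (Spec.map (CommRingCat.ofHom ψ₁) ≫ hU.fromSpec) ≫ f = _
    rw [Category.assoc, ← hV.SpecMap_appLE_fromSpec f hU hUV, ← Category.assoc, ← hφ₁,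
      ← Spec.map_comp, ← hψ₁θ, CommRingCat.ofHom_comp, CommRingCat.ofHom_hom]
  have hpl₁ : Spec.map (CommRingCat.ofHom pr) ≫ l₁ = l₂ := by
    show Spec.map (CommRingCat.ofHom pr) ≫ Spec.map (CommRingCat.ofHom ψ₁) ≫ hU.fromSpec = _
    rw [← Category.assoc, specMap_comp_eq ψ₁ pr ψ₂ hψ₁p, hψ₂]
  let bb₁ : Spec (CommRingCat.of D₁) ⟶ pullback f b :=
    pullback.lift l₁ (Spec.map (CommRingCat.ofHom (algebraMap A D₁))) hl₁f
  have hbb₁fst : bb₁ ≫ pullback.fst f b = l₁ := pullback.lift_fst _ _ _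
  have hbb₁snd : bb₁ ≫ pullback.snd f b = Spec.map (CommRingCat.ofHom (algebraMap A D₁)) :=
    pullback.lift_snd _ _ _
  -- the test thickening
  let mp : D₁ →+* D₂ ⧸ K₂ := (Ideal.Quotient.mk K₂).comp pr
  have hmpsurj : Function.Surjective mp := Ideal.Quotient.mk_surjective.comp hp
  have hmpker : RingHom.ker mp ^ 2 = ⊥ := by
    rw [eq_bot_iff, ← hK₁]
    apply Ideal.pow_right_mono
    intro x hx
    rw [RingHom.mem_ker] at hx
    have h1 : pr x ∈ K₂ := Ideal.Quotient.eq_zero_iff_mem.mp hx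
    obtain ⟨k, hk, hkx⟩ := (Ideal.mem_map_iff_of_surjective pr hp).mp h1
    have h2 : x - k ∈ RingHom.ker pr := by rw [RingHom.mem_ker, map_sub, hkx, sub_self]
    have := add_mem (hker h2) hk
    rwa [sub_add_cancel] at this
  have hjj := Groth.Agent.Lib.Helper61.UnivThick.isFirstOrderThickening_SpecMap_of_surjective
    mp hmpsurj hmpker
  have hjD₂ := Groth.Agent.Lib.Helper61.ThickBC.isFirstOrderThickening_SpecMap_mk K₂ hK₂
  have hjjfac : Spec.map (CommRingCat.ofHom (Ideal.Quotient.mk K₂)) ≫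
      Spec.map (CommRingCat.ofHom pr) = Spec.map (CommRingCat.ofHom mp) :=
    specMap_comp_eq pr (Ideal.Quotient.mk K₂) mp rfl
  have hσπS : Spec.map (CommRingCat.ofHom (Ideal.Quotient.mk K₂)) ≫
      Spec.map (CommRingCat.ofHom σ₂r) =
      Spec.map (CommRingCat.ofHom α₂) ≫ Spec.map (CommRingCat.ofHom πr) :=
    specMap_sq σ₂r (Ideal.Quotient.mk K₂) πr α₂ hσπ
  have hcompat₁ : Spec.map (CommRingCat.ofHom mp) ≫ bb₁ = Spec.map (CommRingCat.ofHom α₂) ≫ s := by
    apply pullback.hom_ext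
    · rw [Category.assoc, Category.assoc, hbb₁fst, hs1, ← hjjfac, Category.assoc, hpl₁]
      show _ ≫ Spec.map (CommRingCat.ofHom σ₂r) ≫ h' ≫ pullback.fst f b = _
      rw [← Category.assoc, hσπS, Category.assoc, ← Category.assoc _ h', hfac, hs1]
    · rw [Category.assoc, Category.assoc, hbb₁snd, hs2]
      apply specMap_sq
      ext x
      simp only [RingHom.comp_apply]
      rw [hα₂]
      show Ideal.Quotient.mk K₂ (pr (algebraMap A D₁ x)) = _
      rw [hpalg]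
  obtain ⟨a', ⟨ha'1, ha'2⟩, -⟩ := huni _ _ _ bb₁ (Spec.map (CommRingCat.ofHom α₂)) hjj hcompat₁
  obtain ⟨σ₁₀, hσ₁₀⟩ : ∃ σ₁₀ : C →+* D₁, Spec.map (CommRingCat.ofHom σ₁₀) = a' :=
    ⟨(Spec.preimage a').hom, by rw [CommRingCat.ofHom_hom, Spec.map_preimage]⟩
  have hσ₁₀alg : σ₁₀.comp (algebraMap A C) = algebraMap A D₁ := by
    have h1 : Spec.map (CommRingCat.ofHom (σ₁₀.comp (algebraMap A C))) =
        Spec.map (CommRingCat.ofHom (algebraMap A D₁)) := by
      rw [CommRingCat.ofHom_comp, Spec.map_comp, hσ₁₀, ← hh, ← Category.assoc, ha'2, hbb₁snd]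
    exact congrArg CommRingCat.Hom.hom (Spec.map_injective h1)
  let σ₁ : C →ₐ[A] D₁ := ⟨σ₁₀, fun x => congrArg (fun k => k x) hσ₁₀alg⟩
  refine ⟨σ₁, ?_⟩
  -- uniqueness
  have hcompat₂ : Spec.map (CommRingCat.ofHom (Ideal.Quotient.mk K₂)) ≫
      (Spec.map (CommRingCat.ofHom pr) ≫ bb₁) = Spec.map (CommRingCat.ofHom α₂) ≫ s := by
    rw [← Category.assoc, hjjfac, hcompat₁]
  obtain ⟨x, -, hx⟩ := huni _ _ _ (Spec.map (CommRingCat.ofHom pr) ≫ bb₁)
    (Spec.map (CommRingCat.ofHom α₂)) hjD₂ hcompat₂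
  have hy₁ := hx (Spec.map (CommRingCat.ofHom pr) ≫ a') ⟨by
    rw [← Category.assoc, hjjfac, ha'1], by rw [Category.assoc, ha'2]⟩
  have hy₂ := hx (Spec.map (CommRingCat.ofHom σ₂r)) ⟨hσπS, by
    apply pullback.hom_ext
    · rw [Category.assoc, Category.assoc, hbb₁fst, hpl₁]
    · rw [Category.assoc, Category.assoc, hbb₁snd, hh,
        specMap_comp_eq (algebraMap A C) σ₂r (algebraMap A D₂) (by ext x; exact hσ₂alg x),
        specMap_comp_eq (algebraMap A D₁) pr (algebraMap A D₂) (by ext x; exact hpalg x)]⟩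
  have hfin : Spec.map (CommRingCat.ofHom (pr.comp σ₁₀)) = Spec.map (CommRingCat.ofHom σ₂r) := by
    rw [CommRingCat.ofHom_comp, Spec.map_comp, hσ₁₀, hy₁, hy₂]
  have hfin' : pr.comp σ₁₀ = σ₂r := congrArg CommRingCat.Hom.hom (Spec.map_injective hfin)
  ext c
  exact congrArg (fun k => k c) hfin'

end Core

end Groth.Agent.Lib.Helper31.FSLocal
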