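import Groth.Agent.Lib.Helper31.FSLocal2

set_option autoImplicit false
universe u

namespace Groth.Agent.Lib.Helper31.FSLocal

open AlgebraicGeometry CategoryTheory Limits

/-- the hypothesis of the affine-local criterion -/
def LocFS {X Y : Scheme.{u}} (f : X ⟶ Y) : Prop :=
  ∀ (U : X.Opens) (V : Y.Opens) (_ : IsAffineOpen U) (_ : IsAffineOpen V) (hUV : U ≤ f ⁻¹ᵁ V),
      letI := (f.appLE V U hUV).hom.toAlgebra
      Algebra.FormallySmooth Γ(Y, V) Γ(X, U)

lemma isUnivThickening_of_iso {Z Z' Z'' P : Scheme.{u}} {h : Z ⟶ P} {i : Z ⟶ Z'} {h' : Z' ⟶ P}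
    (H : OmegaSh.IsUnivThickening h i h') (e : Z' ≅ Z'') :
    OmegaSh.IsUnivThickening h (i ≫ e.hom) (e.inv ≫ h') := by
  obtain ⟨h1, h2, h3⟩ := H
  refine ⟨?_, by rw [Category.assoc, e.hom_inv_id_assoc, h2], ?_⟩
  · have hpb : IsPullback (i ≫ e.hom) (𝟙 Z) e.inv i := IsPullback.of_vert_isIso ⟨by simp⟩
    exact Groth.Agent.Lib.Helper61.ThickBC.isFirstOrderThickening_of_isPullback hpb h1
  · intro T T' j b a hj hc
    obtain ⟨a', ⟨ha1, ha2⟩, hu⟩ := h3 T T' j b a hj hc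
    refine ⟨a' ≫ e.hom, ⟨by rw [← Category.assoc, ha1, Category.assoc],
      by rw [Category.assoc, e.hom_inv_id_assoc, ha2]⟩, ?_⟩
    rintro y ⟨hy1, hy2⟩
    have := hu (y ≫ e.inv) ⟨by
      rw [← Category.assoc, hy1, Category.assoc, Category.assoc, e.hom_inv_id, Category.comp_id],
      by rw [Category.assoc, hy2]⟩
    rw [← this, Category.assoc, e.inv_hom_id, Category.comp_id]

section Core

variable {X Y : Scheme.{u}} (f : X ⟶ Y) {A : Type u} [CommRing A] {I : Ideal A}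
  (a : Spec (CommRingCat.of (A ⧸ I)) ⟶ X) (b : Spec (CommRingCat.of A) ⟶ Y)
  (hab : Spec.map (CommRingCat.ofHom (Ideal.Quotient.mk I)) ≫ b = a ≫ f)
  {C : Type u} [CommRing C] [Algebra A C] (π : C →ₐ[A] A ⧸ I)
  (h' : Spec (CommRingCat.of C) ⟶ pullback f b)
  (hh : h' ≫ pullback.snd f b = Spec.map (CommRingCat.ofHom (algebraMap A C)))
  (huniv : OmegaSh.IsUnivThickening
    (pullback.lift a (Spec.map (CommRingCat.ofHom (Ideal.Quotient.mk I))) hab.symm)
    (Spec.map (CommRingCat.ofHom (π : C →+* A ⧸ I))) h')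

include hh huniv in
theorem exists_lift_of_univ (hI : I ^ 2 = ⊥) (hloc : LocFS f) :
    ∃ l : Spec (CommRingCat.of A) ⟶ X,
      Spec.map (CommRingCat.ofHom (Ideal.Quotient.mk I)) ≫ l = a ∧ l ≫ f = b := by
  let G : Set A := {g | ∃ (U : X.Opens) (V : Y.Opens) (_ : IsAffineOpen U) (_ : IsAffineOpen V)
    (_ : U ≤ f ⁻¹ᵁ V), ∀ t : Spec (CommRingCat.of (A ⧸ I)),
      Ideal.Quotient.mk I g ∉ PrimeSpectrum.asIdeal (R := A ⧸ I) t → a t ∈ U}
  have hG : Ideal.span G = ⊤ := by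
    by_contra hne
    obtain ⟨m, hm, hGm⟩ := Ideal.exists_le_maximal _ hne
    haveI := hm.isPrime
    obtain ⟨t, ht⟩ := Groth.Agent.S18057.surjective_spec_quotient_of_sq_zero A I hI
      (⟨m, hm.isPrime⟩ : PrimeSpectrum A)
    have ht' : PrimeSpectrum.comap (Ideal.Quotient.mk I) t = ⟨m, hm.isPrime⟩ := ht
    have hmem : ∀ x : A, x ∈ m ↔ Ideal.Quotient.mk I x ∈ PrimeSpectrum.asIdeal (R := A ⧸ I) t := by
      intro x
      have : x ∈ (PrimeSpectrum.comap (Ideal.Quotient.mk I) t).asIdeal ↔ x ∈ m := by rw [ht']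
      rw [← this]; rfl
    obtain ⟨_, ⟨V, hV, rfl⟩, hyV, -⟩ :=
      Y.isBasis_affineOpens.exists_subset_of_mem_open (Set.mem_univ (f (a t))) isOpen_univ
    obtain ⟨_, ⟨U, hU, rfl⟩, hxU, hUV⟩ :=
      X.isBasis_affineOpens.exists_subset_of_mem_open hyV (V.2.preimage f.continuous)
    obtain ⟨_, ⟨_, ⟨r, rfl⟩, rfl⟩, htr, hrU⟩ :=
      (PrimeSpectrum.isBasis_basic_opens (R := A ⧸ I)).exists_subset_of_mem_open
        (a := (t : PrimeSpectrum (A ⧸ I))) hxU (U.2.preimage a.continuous)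
    obtain ⟨g, rfl⟩ := Ideal.Quotient.mk_surjective r
    have hgG : g ∈ G := ⟨U, V, hU, hV, hUV, fun t' ht' => hrU ht'⟩
    have hgm : g ∈ m := hGm (Ideal.subset_span hgG)
    exact htr ((hmem g).mp hgm)
  have H : ∀ g ∈ G, RelLift.HypAt I π g := by
    rintro g ⟨U, V, hU, hV, hUV, hg⟩
    exact hypAt_of_good f a b hab π h' hh huniv hU hV hUV (hloc U V hU hV hUV) g hg
  obtain ⟨σ, hσ⟩ := RelLift.exists_lift hI G hG H
  refine ⟨Spec.map (CommRingCat.ofHom (σ : C →+* A)) ≫ h' ≫ pullback.fst f b, ?_, ?_⟩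
  · rw [← Category.assoc, specMap_comp_eq (σ : C →+* A) (Ideal.Quotient.mk I) (π : C →+* A ⧸ I)
      (by ext c; exact congrArg (fun k => k c) hσ), ← Category.assoc, huniv.2.1, pullback.lift_fst]
  · rw [Category.assoc, Category.assoc, pullback.condition, ← Category.assoc h', hh, ← Category.assoc,
      specMap_comp_eq (algebraMap A C) (σ : C →+* A) (RingHom.id A) (by ext x; exact σ.commutes x)]
    rw [show CommRingCat.ofHom (RingHom.id A) = 𝟙 _ from rfl, Spec.map_id, Category.id_comp]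

end Core

end Groth.Agent.Lib.Helper31.FSLocal
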