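import Mathlib

/-!
# Fibrewise flatness criterion, part B (helper31): base change of fibre rings is flat
-/

set_option autoImplicit false

open TensorProduct

namespace Groth.Agent.Lib.Helper31.FibCrit

universe u

section tensorMap

variable {A' A k' k T' T : Type u} [CommRing A'] [CommRing A] [CommRing k'] [CommRing k]
  [CommRing T'] [CommRing T]
  [Algebra A' A] [Algebra A' k'] [Algebra A k] [Algebra k' k] [Algebra A' k]
  [IsScalarTower A' A k] [IsScalarTower A' k' k]
  [Algebra A' T'] [Algebra A T] [Algebra T' T] [Algebra A' T]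
  [IsScalarTower A' A T] [IsScalarTower A' T' T]

variable (A' A T' T) in
/-- The canonical map `A ⊗[A'] T' → T`. -/
noncomputable def canL : A ⊗[A'] T' →ₐ[A] T :=
  Algebra.TensorProduct.lift (Algebra.ofId A T) (IsScalarTower.toAlgHom A' T' T)
    (fun _ _ => Commute.all _ _)

@[simp]
lemma canL_tmul (a : A) (t : T') : canL A' A T' T (a ⊗ₜ t) = algebraMap A T a * algebraMap T' T t := by
  simp [canL, Algebra.ofId_apply]

variable (A' A k' k T' T) in
/-- If `A ⊗[A'] T' → T` is flat and `k` is flat over `k'`, the induced map on "fibre rings"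
`k' ⊗[A'] T' → k ⊗[A] T` is flat. -/
theorem exists_tensorMap_flat [Module.Flat k' k] (hflat : (canL A' A T' T).toRingHom.Flat) :
    ∃ τ : k' ⊗[A'] T' →+* k ⊗[A] T, τ.Flat ∧
      ∀ (x : k') (t : T'), τ (x ⊗ₜ t) = algebraMap k' k x ⊗ₜ algebraMap T' T t := by
  -- step 1
  let s1 : k' ⊗[A'] T' →+* (k' ⊗[A'] T') ⊗[k'] k := algebraMap _ _
  have h1 : s1.Flat := by
    rw [RingHom.flat_algebraMap_iff]
    infer_instance
  let s2a : (k' ⊗[A'] T') ⊗[k'] k ≃ₐ[k'] k ⊗[k'] (k' ⊗[A'] T') := Algebra.TensorProduct.comm _ _ _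
  let s2b : k ⊗[k'] (k' ⊗[A'] T') ≃ₐ[k] k ⊗[A'] T' :=
    Algebra.TensorProduct.cancelBaseChange A' k' k k T'
  let s3 : k ⊗[A] (A ⊗[A'] T') ≃ₐ[k] k ⊗[A'] T' :=
    Algebra.TensorProduct.cancelBaseChange A' A k k T'
  let s4 : k ⊗[A] (A ⊗[A'] T') →ₐ[k] k ⊗[A] T :=
    Algebra.TensorProduct.lTensor (S := k) k (canL A' A T' T)
  have h4 : s4.toRingHom.Flat := RingHom.Flat.lTensor k hflat
  refine ⟨s4.toRingHom.comp (s3.symm.toRingEquiv.toRingHom.comp
    (s2b.toRingEquiv.toRingHom.comp (s2a.toRingEquiv.toRingHom.comp s1))), ?_, ?_⟩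
  · refine RingHom.Flat.comp ?_ h4
    refine RingHom.Flat.comp ?_ (.of_bijective s3.symm.bijective)
    refine RingHom.Flat.comp ?_ (.of_bijective s2b.bijective)
    exact RingHom.Flat.comp h1 (.of_bijective s2a.bijective)
  · intro x t
    simp [s1, s2a, s2b, s3, s4, Algebra.TensorProduct.algebraMap_apply, Algebra.smul_def]

end tensorMap

theorem exists_quotEquiv (A T : Type u) [CommRing A] [CommRing T] [Algebra A T] (p : Ideal A)
    [p.IsPrime] [Algebra (Localization.AtPrime p) T] [IsScalarTower A (Localization.AtPrime p) T] :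
    ∃ c : (T ⧸ p.map (algebraMap A T)) ≃+* p.ResidueField ⊗[A] T,
      ∀ t, c (Ideal.Quotient.mk _ t) = 1 ⊗ₜ t := by
  let R := Localization.AtPrime p
  have hI : p.map (algebraMap A T) = (IsLocalRing.maximalIdeal R).map (algebraMap R T) := by
    rw [← Localization.AtPrime.map_eq_maximalIdeal, Ideal.map_map, ← IsScalarTower.algebraMap_eq]
  let e1 := Ideal.quotientEquivAlgOfEq T hI
  let e2 := Algebra.TensorProduct.quotIdealMapEquivTensorQuot T (IsLocalRing.maximalIdeal R)
  let e3 : T ⊗[R] p.ResidueField ≃ₐ[R] T ⊗[A] p.ResidueField :=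
    IsLocalization.algebraTensorEquiv p.primeCompl R T p.ResidueField
  let e4 : T ⊗[A] p.ResidueField ≃ₐ[A] p.ResidueField ⊗[A] T := Algebra.TensorProduct.comm _ _ _
  refine ⟨e1.toRingEquiv.trans (e2.toRingEquiv.trans (e3.toRingEquiv.trans e4.toRingEquiv)), ?_⟩
  intro t
  change e4 (e3 (e2 (e1 (Ideal.Quotient.mk _ t)))) = _
  have h1 : e1 (Ideal.Quotient.mk _ t) = Ideal.Quotient.mk _ t := rfl
  have h2 : e2 (Ideal.Quotient.mk _ t) = t ⊗ₜ 1 := rfl
  have h3 : e3 (t ⊗ₜ (1 : p.ResidueField)) = t ⊗ₜ 1 := rfl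
  rw [h1, h2]
  erw [h3]
  rfl



theorem quotientMap_flat (A' A T' T : Type u) [CommRing A'] [CommRing A] [CommRing T'] [CommRing T]
    [Algebra A' A] [Algebra A' T'] [Algebra A T] [Algebra T' T] [Algebra A' T]
    [IsScalarTower A' A T] [IsScalarTower A' T' T]
    (p' : Ideal A') [p'.IsPrime] (p : Ideal A) [p.IsPrime] [p.LiesOver p']
    [Algebra (Localization.AtPrime p') T'] [IsScalarTower A' (Localization.AtPrime p') T']
    [Algebra (Localization.AtPrime p) T] [IsScalarTower A (Localization.AtPrime p) T]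
    (hflat : (canL A' A T' T).toRingHom.Flat)
    (h : p'.map (algebraMap A' T') ≤ (p.map (algebraMap A T)).comap (algebraMap T' T)) :
    (Ideal.quotientMap (p.map (algebraMap A T)) (algebraMap T' T) h).Flat := by
  have i3 : IsScalarTower A' A p.ResidueField :=
    inferInstanceAs (IsScalarTower A' A (IsLocalRing.ResidueField (Localization.AtPrime p)))
  letI := Localization.AtPrime.algebraOfLiesOver p' p
  have i4 : IsScalarTower A' p'.ResidueField p.ResidueField :=
    inferInstanceAs (IsScalarTower A' (IsLocalRing.ResidueField (Localization.AtPrime p'))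
      (IsLocalRing.ResidueField (Localization.AtPrime p)))
  obtain ⟨τ, hτ, hτ'⟩ := exists_tensorMap_flat A' A p'.ResidueField p.ResidueField T' T hflat
  obtain ⟨c', hc'⟩ := exists_quotEquiv A' T' p'
  obtain ⟨c, hc⟩ := exists_quotEquiv A T p
  have key : Ideal.quotientMap (p.map (algebraMap A T)) (algebraMap T' T) h =
      c.symm.toRingHom.comp (τ.comp c'.toRingHom) := by
    refine Ideal.Quotient.ringHom_ext ?_
    ext t
    simp only [RingHom.coe_comp, Function.comp_apply, Ideal.quotientMap_mk, RingEquiv.toRingHom_eq_coe,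
      RingEquiv.coe_toRingHom]
    rw [hc', hτ', map_one, RingEquiv.eq_symm_apply, hc]
  rw [key]
  exact RingHom.Flat.comp (RingHom.Flat.comp (.of_bijective c'.bijective) hτ)
    (.of_bijective c.symm.bijective)



/-- Variant of `quotientMap_flat` with the ideals given up to propositional equality. -/
theorem quotientMap_flat' (A' A T' T : Type u) [CommRing A'] [CommRing A] [CommRing T'] [CommRing T]
    [Algebra A' A] [Algebra A' T'] [Algebra A T] [Algebra T' T] [Algebra A' T]
    [IsScalarTower A' A T] [IsScalarTower A' T' T]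
    (p' : Ideal A') [p'.IsPrime] (p : Ideal A) [p.IsPrime] [p.LiesOver p']
    [Algebra (Localization.AtPrime p') T'] [IsScalarTower A' (Localization.AtPrime p') T']
    [Algebra (Localization.AtPrime p) T] [IsScalarTower A (Localization.AtPrime p) T]
    (hflat : (canL A' A T' T).toRingHom.Flat)
    (K' : Ideal T') (hK' : K' = p'.map (algebraMap A' T'))
    (K : Ideal T) (hK : K = p.map (algebraMap A T))
    (h : K' ≤ K.comap (algebraMap T' T)) :
    (Ideal.quotientMap K (algebraMap T' T) h).Flat := by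
  subst hK' hK
  exact quotientMap_flat A' A T' T p' p hflat h

end Groth.Agent.Lib.Helper31.FibCrit
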