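import Groth.Agent.Lib.Helper31.FibCritA
import Groth.Agent.Lib.Helper31.FibCritB
import Groth.Agent.Lib.Helper40.FlatDescentSrc
import Groth.Agent.Lib.Helper46.FibreFlat

/-!
# Fibrewise flatness criterion, part C (helper31): transfer from a Noetherian model
-/

set_option autoImplicit false
set_option maxHeartbeats 1000000
open TensorProduct
namespace Groth.Agent.Lib.Helper31.FibCrit
universe u

/-- Descent of flatness of a map of quotient rings along a commutative square whose vertical maps
are flat (the right one local). -/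
theorem quotientMap_flat_descent {S' T' S T : Type u} [CommRing S'] [CommRing T'] [CommRing S]
    [CommRing T] [IsLocalRing T'] [IsLocalRing T]
    (ψ' : S' →+* T') (ψ : S →+* T) (σ : S' →+* S) (τ : T' →+* T) (hcomm : τ.comp ψ' = ψ.comp σ)
    [IsLocalHom τ] (I' : Ideal S') (I : Ideal S) (J' : Ideal T') (J : Ideal T)
    (hσ : I' ≤ I.comap σ) (hτ : J' ≤ J.comap τ) (hψ' : I' ≤ J'.comap ψ') (hψ : I ≤ J.comap ψ)
    (hJ : J ≠ ⊤)
    (ha : (Ideal.quotientMap I σ hσ).Flat)
    (hb : (Ideal.quotientMap J τ hτ).Flat)
    (hc : (Ideal.quotientMap J ψ hψ).Flat) :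
    (Ideal.quotientMap J' ψ' hψ').Flat := by
  have hJ' : J' ≠ ⊤ := by
    intro h
    apply hJ
    rw [Ideal.eq_top_iff_one]
    have h1 : (1 : T') ∈ J' := by rw [h]; trivial
    simpa using hτ h1
  haveI : Nontrivial (T' ⧸ J') := Ideal.Quotient.nontrivial_iff.mpr hJ'
  haveI : Nontrivial (T ⧸ J) := Ideal.Quotient.nontrivial_iff.mpr hJ
  haveI : IsLocalRing (T' ⧸ J') :=
    IsLocalRing.of_surjective' (Ideal.Quotient.mk _) Ideal.Quotient.mk_surjective
  haveI : IsLocalRing (T ⧸ J) :=
    IsLocalRing.of_surjective' (Ideal.Quotient.mk _) Ideal.Quotient.mk_surjective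
  haveI : IsLocalHom (Ideal.Quotient.mk J) :=
    IsLocalHom.of_surjective _ Ideal.Quotient.mk_surjective
  haveI : IsLocalHom (Ideal.quotientMap J τ hτ) := by
    constructor
    intro x hx
    obtain ⟨t, rfl⟩ := Ideal.Quotient.mk_surjective x
    rw [Ideal.quotientMap_mk] at hx
    have h1 : IsUnit (τ t) := isUnit_of_map_unit (Ideal.Quotient.mk J) _ hx
    exact (isUnit_of_map_unit τ _ h1).map _
  refine Groth.Agent.Lib.Helper40.FlatDescentSrc.ringHom_flat_of_comp _
    (Ideal.quotientMap J τ hτ) hb ?_
  have key : (Ideal.quotientMap J τ hτ).comp (Ideal.quotientMap J' ψ' hψ') =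
      (Ideal.quotientMap J ψ hψ).comp (Ideal.quotientMap I σ hσ) := by
    refine Ideal.Quotient.ringHom_ext ?_
    ext s
    simp only [RingHom.coe_comp, Function.comp_apply, Ideal.quotientMap_mk]
    have := congr($hcomm s)
    simp only [RingHom.coe_comp, Function.comp_apply] at this
    rw [this]
  rw [key]
  exact RingHom.Flat.comp ha hc

/-- For a pushout `C = A ⊗[A'] C'`, a prime `r` of `C` with contraction `r'`: the canonical map
`A ⊗[A'] C'_{r'} → C_r` is flat. -/
theorem canL_flat (A' A C' C : Type u) [CommRing A'] [CommRing A] [CommRing C'] [CommRing C]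
    [Algebra A' A] [Algebra A' C'] [Algebra A C] [Algebra C' C] [Algebra A' C]
    [IsScalarTower A' A C] [IsScalarTower A' C' C] [Algebra.IsPushout A' A C' C]
    (r : Ideal C) [r.IsPrime] (r' : Ideal C') [r'.IsPrime] [r.LiesOver r']
    [Algebra (Localization.AtPrime r') (Localization.AtPrime r)]
    [Localization.AtPrime.IsLiesOverAlgebra r' r] :
    (canL A' A (Localization.AtPrime r') (Localization.AtPrime r)).toRingHom.Flat := by
  let T' := Localization.AtPrime r'
  let T := Localization.AtPrime r
  let Lc := C ⊗[C'] T'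
  haveI : IsLocalization (Algebra.algebraMapSubmonoid C r'.primeCompl) Lc :=
    IsLocalization.tensor T' r'.primeCompl
  let μ : Lc →ₐ[C] T := canL C' C T' T
  have hμ : μ.toRingHom.Flat := by
    algebraize [μ.toRingHom]
    haveI : IsScalarTower C Lc T := IsScalarTower.of_algebraMap_eq (fun c => (μ.commutes c).symm)
    change Module.Flat Lc T
    rw [Module.flat_iff_of_isLocalization (S := Lc) (p := Algebra.algebraMapSubmonoid C r'.primeCompl)]
    infer_instance
  let e : Lc ≃ₐ[A] A ⊗[A'] T' := Algebra.IsPushout.cancelBaseChangeAlg A' A C' C T'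
  have key : (canL A' A T' T).toRingHom = μ.toRingHom.comp e.symm.toRingEquiv.toRingHom := by
    have : canL A' A T' T = (μ.restrictScalars A).comp e.symm.toAlgHom := by
      apply Algebra.TensorProduct.ext'
      intro a t
      simp only [AlgHom.coe_comp, AlgHom.coe_restrictScalars', AlgEquiv.coe_toAlgHom,
        Function.comp_apply, canL_tmul, e, μ]
      rw [Algebra.IsPushout.cancelBaseChangeAlg_symm_tmul, canL_tmul,
        ← IsScalarTower.algebraMap_apply]
    rw [this]
    rfl
  rw [key]
  exact RingHom.Flat.comp (.of_bijective e.symm.bijective) hμ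


lemma map_le_comap_map (A S T : Type*) [CommRing A] [CommRing S] [CommRing T] [Algebra A S]
    [Algebra S T] [Algebra A T] [IsScalarTower A S T] (p : Ideal A) :
    p.map (algebraMap A S) ≤ (p.map (algebraMap A T)).comap (algebraMap S T) := by
  rw [← Ideal.map_le_iff_le_comap, Ideal.map_map, ← IsScalarTower.algebraMap_eq]

lemma liesOver_under_under (X Y Z : Type*) [CommRing X] [CommRing Y] [CommRing Z] [Algebra X Y]
    [Algebra Y Z] [Algebra X Z] [IsScalarTower X Y Z] (r : Ideal Z) :
    (r.under Y).LiesOver (r.under X) :=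
  ⟨by simp only [Ideal.under, Ideal.comap_comap, ← IsScalarTower.algebraMap_eq]⟩

/-- Fibrewise flatness at a prime `r` of `C` for a tower `A → B → C`: with `q`, `p` the contractions
of `r`, the ring map `B_q / p B_q → C_r / p C_r` is flat. -/
def FibFlatAt (A B C : Type u) [CommRing A] [CommRing B] [CommRing C] [Algebra A B] [Algebra B C]
    [Algebra A C] [IsScalarTower A B C] (r : Ideal C) [r.IsPrime] : Prop :=
  letI := Localization.AtPrime.algebraOfLiesOver (r.under B) r
  (Ideal.quotientMap ((r.under A).map (algebraMap A (Localization.AtPrime r)))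
    (algebraMap (Localization.AtPrime (r.under B)) (Localization.AtPrime r))
    (map_le_comap_map A (Localization.AtPrime (r.under B)) (Localization.AtPrime r)
      (r.under A))).Flat

/-- **Transfer from a Noetherian model.** -/
theorem noetherian_transfer (A' B' C' A B C : Type u) [CommRing A'] [CommRing B'] [CommRing C']
    [CommRing A] [CommRing B] [CommRing C]
    [Algebra A' B'] [Algebra B' C'] [Algebra A' C'] [IsScalarTower A' B' C']
    [Algebra A B] [Algebra B C] [Algebra A C] [IsScalarTower A B C]
    [Algebra A' A] [Algebra B' B] [Algebra C' C]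
    [Algebra A' B] [IsScalarTower A' A B] [IsScalarTower A' B' B]
    [Algebra A' C] [IsScalarTower A' A C] [IsScalarTower A' C' C]
    [Algebra B' C] [IsScalarTower B' B C] [IsScalarTower B' C' C]
    [Algebra.IsPushout A' A B' B] [Algebra.IsPushout A' A C' C]
    [IsNoetherianRing B'] [IsNoetherianRing C'] [Module.Flat A' C']
    (r : Ideal C) [r.IsPrime] (hfib : FibFlatAt A B C r) :
    Module.Flat A (Localization.AtPrime (r.under B)) ∧ Module.Flat B (Localization.AtPrime r) := by
  haveI tA'B'C : IsScalarTower A' B' C := IsScalarTower.of_algebraMap_eq (fun x => by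
    rw [IsScalarTower.algebraMap_apply A' C' C, IsScalarTower.algebraMap_apply A' B' C',
      ← IsScalarTower.algebraMap_apply B' C' C])
  -- primes
  let q : Ideal B := r.under B
  let p : Ideal A := r.under A
  let r' : Ideal C' := r.under C'
  let q' : Ideal B' := r.under B'
  let p' : Ideal A' := r.under A'
  haveI : q.LiesOver p := liesOver_under_under A B C r
  haveI : q'.LiesOver p' := liesOver_under_under A' B' C r
  haveI : r'.LiesOver q' := liesOver_under_under B' C' C r
  haveI : r'.LiesOver p' := liesOver_under_under A' C' C r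
  haveI : q.LiesOver q' := liesOver_under_under B' B C r
  haveI : p.LiesOver p' := liesOver_under_under A' A C r
  haveI : r.LiesOver q := inferInstance
  haveI : r.LiesOver r' := inferInstance
  haveI : r.LiesOver q' := inferInstance
  haveI : r.LiesOver p := inferInstance
  -- local algebras
  letI aS'T' := Localization.AtPrime.algebraOfLiesOver q' r'
  letI aST := Localization.AtPrime.algebraOfLiesOver q r
  letI aS'S := Localization.AtPrime.algebraOfLiesOver q' q
  letI aT'T := Localization.AtPrime.algebraOfLiesOver r' r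
  letI aS'T := Localization.AtPrime.algebraOfLiesOver q' r
  letI aR'S' := Localization.AtPrime.algebraOfLiesOver p' q'
  letI aR'T' := Localization.AtPrime.algebraOfLiesOver p' r'
  letI aRS := Localization.AtPrime.algebraOfLiesOver p q
  letI aRT := Localization.AtPrime.algebraOfLiesOver p r
  let R' := Localization.AtPrime p'
  let S' := Localization.AtPrime q'
  let T' := Localization.AtPrime r'
  let R := Localization.AtPrime p
  let S := Localization.AtPrime q
  let T := Localization.AtPrime r
  have t1 : IsScalarTower S' T' T := inferInstance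
  have t2 : IsScalarTower S' S T := inferInstance
  have t3 : IsScalarTower R' S' T' := inferInstance
  have t4 : IsScalarTower R S T := inferInstance
  have hcomm : (algebraMap T' T).comp (algebraMap S' T') = (algebraMap S T).comp (algebraMap S' S) :=
    (IsScalarTower.algebraMap_eq S' T' T).symm.trans (IsScalarTower.algebraMap_eq S' S T)
  -- flatness of the comparison maps
  have hLS : (canL A' A S' S).toRingHom.Flat := canL_flat A' A B' B q q'
  have hLT : (canL A' A T' T).toRingHom.Flat := canL_flat A' A C' C r r'
  -- ideals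
  let I' : Ideal S' := p'.map (algebraMap A' S')
  let I : Ideal S := p.map (algebraMap A S)
  let J' : Ideal T' := I'.map (algebraMap S' T')
  have hJ'eq : J' = p'.map (algebraMap A' T') := by
    show Ideal.map (algebraMap S' T') (Ideal.map (algebraMap A' S') p') = _
    rw [Ideal.map_map, ← IsScalarTower.algebraMap_eq]
  let J : Ideal T := p.map (algebraMap A T)
  have hσ : I' ≤ I.comap (algebraMap S' S) := by
    rw [← Ideal.map_le_iff_le_comap, Ideal.map_map, ← IsScalarTower.algebraMap_eq,
      IsScalarTower.algebraMap_eq A' A S, ← Ideal.map_map]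
    exact Ideal.map_mono (Ideal.map_le_iff_le_comap.2 (le_of_eq (Ideal.LiesOver.over (p := p') (P := p))))
  have hτ : J' ≤ J.comap (algebraMap T' T) := by
    rw [hJ'eq, ← Ideal.map_le_iff_le_comap, Ideal.map_map, ← IsScalarTower.algebraMap_eq,
      IsScalarTower.algebraMap_eq A' A T, ← Ideal.map_map]
    exact Ideal.map_mono (Ideal.map_le_iff_le_comap.2 (le_of_eq (Ideal.LiesOver.over (p := p') (P := p))))
  have hψ' : I' ≤ J'.comap (algebraMap S' T') := Ideal.le_comap_map
  have hψ : I ≤ J.comap (algebraMap S T) := map_le_comap_map A S T p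
  have ha : (Ideal.quotientMap I (algebraMap S' S) hσ).Flat :=
    quotientMap_flat A' A S' S p' p hLS hσ
  have hb : (Ideal.quotientMap J (algebraMap T' T) hτ).Flat :=
    quotientMap_flat' A' A T' T p' p hLT J' hJ'eq J rfl hτ
  have hc : (Ideal.quotientMap J (algebraMap S T) hψ).Flat := hfib
  have hJ : J ≠ ⊤ := by
    intro h
    have h1 : J ≤ IsLocalRing.maximalIdeal T := by
      rw [← Localization.AtPrime.map_eq_maximalIdeal]
      show Ideal.map (algebraMap A T) p ≤ _
      rw [IsScalarTower.algebraMap_eq A C T, ← Ideal.map_map]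
      exact Ideal.map_mono (Ideal.map_le_iff_le_comap.2 le_rfl)
    rw [h, top_le_iff] at h1
    exact Ideal.IsPrime.ne_top' h1
  have hd : (Ideal.quotientMap J' (algebraMap S' T') hψ').Flat :=
    quotientMap_flat_descent (algebraMap S' T') (algebraMap S T) (algebraMap S' S)
      (algebraMap T' T) hcomm I' I J' J hσ hτ hψ' hψ hJ ha hb hc
  -- conversion to the form of the Noetherian criterion
  have hmod : Module.Flat (S' ⧸ I') (T' ⧸ J') := RingHom.flat_algebraMap_iff.mp hd
  have hten : Module.Flat (S' ⧸ I') ((S' ⧸ I') ⊗[S'] T') :=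
    Module.Flat.of_linearEquiv
      (Algebra.TensorProduct.quotIdealMapEquivQuotTensor T' I').symm.toLinearEquiv
  have hquot : Module.Flat (S' ⧸ I') (T' ⧸ (I' • (⊤ : Submodule S' T'))) :=
    (Groth.Agent.Lib.Helper46.FibreFlat.flat_quot_iff I' T').2 hten
  have hI' : I' = (IsLocalRing.maximalIdeal R').map (algebraMap R' S') := by
    show Ideal.map (algebraMap A' S') p' = _
    rw [← Localization.AtPrime.map_eq_maximalIdeal, Ideal.map_map, ← IsScalarTower.algebraMap_eq]
  have hquot' : Module.Flat (S' ⧸ (IsLocalRing.maximalIdeal R').map (algebraMap R' S'))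
      (T' ⧸ ((IsLocalRing.maximalIdeal R').map (algebraMap R' S') • (⊤ : Submodule S' T'))) :=
    hI' ▸ hquot
  -- flatness of `T'` over `R'`
  have hA'T' : Module.Flat A' T' := Module.Flat.trans A' C' T'
  have hR'T' : Module.Flat R' T' :=
    (Module.flat_iff_of_isLocalization (S := R') (p := p'.primeCompl) (M := T')).2 hA'T'
  obtain ⟨hR'S', hS'T'⟩ := (Groth.Agent.Lib.Helper46.FibreFlat.fibre_crit (A := R') (B := S')
    (C := T') (M := T')).1 ⟨hR'T', hquot'⟩
  have hA'S' : Module.Flat A' S' := Module.Flat.trans A' R' S'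
  have hB'T' : Module.Flat B' T' := Module.Flat.trans B' S' T'
  haveI : Algebra.IsPushout B' B C' C := by
    have h1 : Algebra.IsPushout A' B' A B := Algebra.IsPushout.symm inferInstance
    have h2 : Algebra.IsPushout A' C' A C := Algebra.IsPushout.symm inferInstance
    haveI : IsScalarTower A' B C := IsScalarTower.of_algebraMap_eq (fun x => by
      rw [IsScalarTower.algebraMap_apply A' A C, IsScalarTower.algebraMap_apply A B C,
        ← IsScalarTower.algebraMap_apply A' A B])
    exact ((Algebra.IsPushout.comp_iff (R := A') (S := B') (R' := A) (S' := B) (T := C')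
      (T' := C)).1 h2).symm
  exact ⟨flat_atPrime_of_isPushout A' A B' B q q' (Ideal.LiesOver.over (p := q') (P := q)),
    flat_atPrime_of_isPushout B' B C' C r r' (Ideal.LiesOver.over (p := r') (P := r))⟩

end Groth.Agent.Lib.Helper31.FibCrit
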