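import Groth.Agent.Lib.Helper31.FibCritC
import Groth.Agent.Lib.Helper54.FlatStage7

/-!
# Fibrewise flatness criterion, part D (helper31): descent of a tower to a Noetherian model
-/

set_option autoImplicit false
set_option maxHeartbeats 1000000
open TensorProduct
namespace Groth.Agent.Lib.Helper31.FibCrit
universe u

section Model

variable {A B C : Type u} [CommRing A] [CommRing B] [CommRing C] [Algebra A B] [Algebra B C]
  [Algebra A C] [IsScalarTower A B C]
variable {ι σ ι' σ' : Type} (P : Algebra.Presentation A B ι σ) (Q : Algebra.Presentation B C ι' σ')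

variable (A₀ : Type u) [CommRing A₀] [Algebra A₀ A] [Algebra A₀ B] [Algebra A₀ C]
  [IsScalarTower A₀ A B] [IsScalarTower A₀ A C] [P.HasCoeffs A₀] [(Q.comp P).HasCoeffs A₀]
  [FaithfulSMul A₀ A]

/-- The relation of `P` over `A₀`, renamed, is the corresponding relation of `Q.comp P`. -/
lemma rename_relationOfHasCoeffs (s : σ) :
    MvPolynomial.rename Sum.inr (P.relationOfHasCoeffs A₀ s) =
      (Q.comp P).relationOfHasCoeffs A₀ (Sum.inr s) := by
  apply MvPolynomial.map_injective (algebraMap A₀ A) (FaithfulSMul.algebraMap_injective A₀ A)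
  rw [MvPolynomial.map_rename, Algebra.Presentation.map_relationOfHasCoeffs,
    Algebra.Presentation.map_relationOfHasCoeffs, Algebra.Presentation.comp_relation_inr]

/-- The map of models `B₀ → C₀`. -/
noncomputable def modelMap : P.ModelOfHasCoeffs A₀ →ₐ[A₀] (Q.comp P).ModelOfHasCoeffs A₀ :=
  Ideal.Quotient.liftₐ _ ((Ideal.Quotient.mkₐ A₀ _).comp
    (MvPolynomial.rename (R := A₀) (Sum.inr : ι → ι' ⊕ ι))) (by
      intro x hx
      have : Ideal.span (Set.range (P.relationOfHasCoeffs A₀)) ≤ RingHom.ker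
          ((Ideal.Quotient.mkₐ A₀ (Ideal.span (Set.range ((Q.comp P).relationOfHasCoeffs A₀)))).comp
            (MvPolynomial.rename (R := A₀) (Sum.inr : ι → ι' ⊕ ι))).toRingHom := by
        rw [Ideal.span_le]
        rintro _ ⟨s, rfl⟩
        rw [SetLike.mem_coe, RingHom.mem_ker]
        change (Ideal.Quotient.mk _) (MvPolynomial.rename Sum.inr (P.relationOfHasCoeffs A₀ s)) = 0
        rw [rename_relationOfHasCoeffs P Q A₀ s, Ideal.Quotient.eq_zero_iff_mem]
        exact Ideal.subset_span ⟨_, rfl⟩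
      exact this hx)

lemma modelMap_mk (x : MvPolynomial ι A₀) :
    modelMap P Q A₀ (Ideal.Quotient.mk _ x) = Ideal.Quotient.mk _ (MvPolynomial.rename Sum.inr x) :=
  rfl

end Model


attribute [local instance] Algebra.TensorProduct.rightAlgebra

theorem core_of_model (A₀ A₁ A B₀ C₀ B C : Type u) [CommRing A₀] [CommRing A₁] [CommRing A]
    [CommRing B₀] [CommRing C₀] [CommRing B] [CommRing C]
    [Algebra A₀ A₁] [Algebra A₁ A] [Algebra A₀ A] [IsScalarTower A₀ A₁ A]
    [Algebra A₀ B₀] [Algebra B₀ C₀] [Algebra A₀ C₀] [IsScalarTower A₀ B₀ C₀]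
    [Algebra A B] [Algebra B C] [Algebra A C] [IsScalarTower A B C]
    [Algebra A₀ B] [IsScalarTower A₀ A B] [Algebra A₀ C] [IsScalarTower A₀ A C]
    [Algebra A₁ B] [IsScalarTower A₁ A B] [IsScalarTower A₀ A₁ B]
    [Algebra A₁ C] [IsScalarTower A₁ A C] [IsScalarTower A₀ A₁ C]
    [Algebra B₀ B] [IsScalarTower A₀ B₀ B]
    [Algebra C₀ C] [IsScalarTower A₀ C₀ C]
    [Algebra B₀ C] [IsScalarTower B₀ B C] [IsScalarTower B₀ C₀ C]
    [Algebra.IsPushout A₀ A B₀ B] [Algebra.IsPushout A₀ A C₀ C]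
    [IsNoetherianRing A₁] [Algebra.FiniteType A₀ B₀] [Algebra.FiniteType A₀ C₀]
    [Module.Flat A₁ (A₁ ⊗[A₀] C₀)]
    (r : Ideal C) [r.IsPrime] (hfib : FibFlatAt A B C r) :
    Module.Flat A (Localization.AtPrime (r.under B)) ∧ Module.Flat B (Localization.AtPrime r) := by
  haveI : IsScalarTower A₁ B C := IsScalarTower.of_algebraMap_eq (fun x => by
    rw [IsScalarTower.algebraMap_apply A₁ A C, IsScalarTower.algebraMap_apply A B C,
      ← IsScalarTower.algebraMap_apply A₁ A B])
  let B' := A₁ ⊗[A₀] B₀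
  let C' := A₁ ⊗[A₀] C₀
  let φ' : B' →ₐ[A₁] C' := Algebra.TensorProduct.map (AlgHom.id A₁ A₁) (IsScalarTower.toAlgHom A₀ B₀ C₀)
  letI aB'C' : Algebra B' C' := φ'.toRingHom.toAlgebra
  haveI : IsScalarTower A₁ B' C' := IsScalarTower.of_algebraMap_eq (fun x => (φ'.commutes x).symm)
  let βB : B' →ₐ[A₁] B := Algebra.TensorProduct.lift (Algebra.ofId A₁ B) (IsScalarTower.toAlgHom A₀ B₀ B)
    (fun _ _ => Commute.all _ _)
  let βC : C' →ₐ[A₁] C := Algebra.TensorProduct.lift (Algebra.ofId A₁ C) (IsScalarTower.toAlgHom A₀ C₀ C)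
    (fun _ _ => Commute.all _ _)
  letI aB'B : Algebra B' B := βB.toRingHom.toAlgebra
  letI aC'C : Algebra C' C := βC.toRingHom.toAlgebra
  haveI : IsScalarTower A₁ B' B := IsScalarTower.of_algebraMap_eq (fun x => (βB.commutes x).symm)
  haveI : IsScalarTower A₁ C' C := IsScalarTower.of_algebraMap_eq (fun x => (βC.commutes x).symm)
  letI aB'C : Algebra B' C := ((algebraMap B C).comp (algebraMap B' B)).toAlgebra
  haveI : IsScalarTower B' B C := IsScalarTower.of_algebraMap_eq (fun _ => rfl)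
  haveI tB'C'C : IsScalarTower B' C' C := by
    refine IsScalarTower.of_algebraMap_eq (fun x => ?_)
    have h : ((IsScalarTower.toAlgHom A₁ B C).comp βB) = βC.comp φ' := by
      apply Algebra.TensorProduct.ext'
      intro a b
      show (IsScalarTower.toAlgHom A₁ B C) (βB (a ⊗ₜ b)) = βC (φ' (a ⊗ₜ b))
      have e1 : βB (a ⊗ₜ b) = algebraMap A₁ B a * algebraMap B₀ B b := rfl
      have e2 : φ' (a ⊗ₜ b) = a ⊗ₜ algebraMap B₀ C₀ b := rfl
      have e3 : βC (a ⊗ₜ algebraMap B₀ C₀ b) =
          algebraMap A₁ C a * algebraMap C₀ C (algebraMap B₀ C₀ b) := rfl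
      rw [e1, e2, e3, map_mul, IsScalarTower.coe_toAlgHom', ← IsScalarTower.algebraMap_apply A₁ B C,
        ← IsScalarTower.algebraMap_apply B₀ B C, ← IsScalarTower.algebraMap_apply B₀ C₀ C]
    exact congr($h x)
  -- towers with A₀ and B₀, C₀
  haveI : IsScalarTower A₀ B' B := IsScalarTower.of_algebraMap_eq (fun x => by
    rw [IsScalarTower.algebraMap_apply A₀ A₁ B', ← IsScalarTower.algebraMap_apply A₁ B' B,
      ← IsScalarTower.algebraMap_apply A₀ A₁ B])
  haveI : IsScalarTower A₀ C' C := IsScalarTower.of_algebraMap_eq (fun x => by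
    rw [IsScalarTower.algebraMap_apply A₀ A₁ C', ← IsScalarTower.algebraMap_apply A₁ C' C,
      ← IsScalarTower.algebraMap_apply A₀ A₁ C])
  haveI : IsScalarTower B₀ B' B := IsScalarTower.of_algebraMap_eq (fun x => by
    change algebraMap B₀ B x = algebraMap A₁ B 1 * algebraMap B₀ B x
    rw [map_one, one_mul])
  haveI : IsScalarTower C₀ C' C := IsScalarTower.of_algebraMap_eq (fun x => by
    change algebraMap C₀ C x = algebraMap A₁ C 1 * algebraMap C₀ C x
    rw [map_one, one_mul])
  haveI : Algebra.IsPushout A₁ A B' B :=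
    (Algebra.IsPushout.comp_iff (R := A₀) (S := A₁) (R' := B₀) (S' := B') (T := A) (T' := B)).1
      inferInstance
  haveI : Algebra.IsPushout A₁ A C' C :=
    (Algebra.IsPushout.comp_iff (R := A₀) (S := A₁) (R' := C₀) (S' := C') (T := A) (T' := C)).1
      inferInstance
  haveI : Algebra.FiniteType A₁ B' := inferInstance
  haveI : Algebra.FiniteType A₁ C' := inferInstance
  haveI : IsNoetherianRing B' := Algebra.FiniteType.isNoetherianRing A₁ B'
  haveI : IsNoetherianRing C' := Algebra.FiniteType.isNoetherianRing A₁ C'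
  exact noetherian_transfer A₁ B' C' A B C r hfib


end Groth.Agent.Lib.Helper31.FibCrit
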