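import Groth.Agent.Lib.Helper31.FibCritD
import Groth.Agent.Lib.Helper54.FlatPkg

/-!
# Fibrewise flatness criterion, part E (helper31): the finitely presented case with flat source

`core_fp`: for `A → B → C` with `B`, `C` of finite presentation over `A`, `C` flat over `A`, and a
prime `r` of `C` such that `B_q / p B_q → C_r / p C_r` is flat: `B_q` is flat over `A` and `C_r` is
flat over `B`.
-/

set_option autoImplicit false
set_option maxHeartbeats 1000000
open TensorProduct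
namespace Groth.Agent.Lib.Helper31.FibCrit
universe u

attribute [local instance] Algebra.TensorProduct.rightAlgebra

/-- transport of flatness from helper54's form to the standard base change. -/
theorem flat_comm_rid (R₀ S₀ T : Type u) [CommRing R₀] [CommRing S₀] [CommRing T] [Algebra R₀ S₀]
    [Algebra R₀ T] (h : Module.Flat T ((S₀ ⊗[R₀] T) ⊗[S₀] S₀)) : Module.Flat T (T ⊗[R₀] S₀) := by
  let c : T ⊗[R₀] S₀ ≃ₐ[T] S₀ ⊗[R₀] T :=
    AlgEquiv.ofRingEquiv (f := (Algebra.TensorProduct.comm R₀ T S₀).toRingEquiv) (fun t => by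
      simp only [AlgEquiv.coe_ringEquiv,
        Algebra.TensorProduct.algebraMap_apply, Algebra.algebraMap_self, RingHom.id_apply,
        Algebra.TensorProduct.comm_tmul]
      rfl)
  let e1 : (S₀ ⊗[R₀] T) ⊗[S₀] S₀ ≃ₗ[S₀ ⊗[R₀] T] S₀ ⊗[R₀] T :=
    AlgebraTensorModule.rid S₀ (S₀ ⊗[R₀] T) (S₀ ⊗[R₀] T)
  exact Module.Flat.of_linearEquiv (c.toLinearEquiv.trans (e1.restrictScalars T).symm)

/-- converse transport. -/
theorem flat_comm_rid' (R₀ S₀ T : Type u) [CommRing R₀] [CommRing S₀] [CommRing T] [Algebra R₀ S₀]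
    [Algebra R₀ T] (h : Module.Flat T (T ⊗[R₀] S₀)) : Module.Flat T ((S₀ ⊗[R₀] T) ⊗[S₀] S₀) := by
  let c : T ⊗[R₀] S₀ ≃ₐ[T] S₀ ⊗[R₀] T :=
    AlgEquiv.ofRingEquiv (f := (Algebra.TensorProduct.comm R₀ T S₀).toRingEquiv) (fun t => by
      simp only [AlgEquiv.coe_ringEquiv,
        Algebra.TensorProduct.algebraMap_apply, Algebra.algebraMap_self, RingHom.id_apply,
        Algebra.TensorProduct.comm_tmul]
      rfl)
  let e1 : (S₀ ⊗[R₀] T) ⊗[S₀] S₀ ≃ₗ[S₀ ⊗[R₀] T] S₀ ⊗[R₀] T :=
    AlgebraTensorModule.rid S₀ (S₀ ⊗[R₀] T) (S₀ ⊗[R₀] T)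
  exact Module.Flat.of_linearEquiv (c.toLinearEquiv.trans (e1.restrictScalars T).symm).symm

theorem core_of_pushout (A₀ A B₀ C₀ B C : Type u) [CommRing A₀] [CommRing A]
    [CommRing B₀] [CommRing C₀] [CommRing B] [CommRing C]
    [Algebra A₀ A]
    [Algebra A₀ B₀] [Algebra B₀ C₀] [Algebra A₀ C₀] [IsScalarTower A₀ B₀ C₀]
    [Algebra A B] [Algebra B C] [Algebra A C] [IsScalarTower A B C]
    [Algebra A₀ B] [IsScalarTower A₀ A B] [Algebra A₀ C] [IsScalarTower A₀ A C]
    [Algebra B₀ B] [IsScalarTower A₀ B₀ B]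
    [Algebra C₀ C] [IsScalarTower A₀ C₀ C]
    [Algebra B₀ C] [IsScalarTower B₀ B C] [IsScalarTower B₀ C₀ C]
    [Algebra.IsPushout A₀ A B₀ B] [Algebra.IsPushout A₀ A C₀ C]
    [IsNoetherianRing A₀] [Algebra.FiniteType A₀ B₀] [Algebra.FiniteType A₀ C₀]
    [Module.Flat A C]
    (r : Ideal C) [r.IsPrime] (hfib : FibFlatAt A B C r) :
    Module.Flat A (Localization.AtPrime (r.under B)) ∧ Module.Flat B (Localization.AtPrime r) := by
  have hflat0 : Module.Flat A (A ⊗[A₀] C₀) :=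
    Module.Flat.of_linearEquiv (Algebra.IsPushout.equiv A₀ A C₀ C).toLinearEquiv
  have hflat : Module.Flat A ((C₀ ⊗[A₀] A) ⊗[C₀] C₀) := flat_comm_rid' A₀ C₀ A hflat0
  obtain ⟨T, hTfg, hT⟩ := Groth.Agent.Lib.Helper54.FlatStage7.exists_fg_flat A₀ C₀ C₀ A hflat
  have hTflat := hT T le_rfl
  haveI : Algebra.FiniteType A₀ T := (Subalgebra.fg_iff_finiteType T).1 hTfg
  haveI : IsNoetherianRing T := Algebra.FiniteType.isNoetherianRing A₀ T
  haveI : Module.Flat T (T ⊗[A₀] C₀) := flat_comm_rid A₀ C₀ T hTflat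
  exact core_of_model A₀ T A B₀ C₀ B C r hfib

/-- **Fibrewise criterion, finitely presented case, flat source.** -/
theorem core_fp {A B C : Type u} [CommRing A] [CommRing B] [CommRing C] [Algebra A B] [Algebra B C]
    [Algebra A C] [IsScalarTower A B C] [Algebra.FinitePresentation A B]
    [Algebra.FinitePresentation A C] [Module.Flat A C]
    (r : Ideal C) [r.IsPrime] (hfib : FibFlatAt A B C r) :
    Module.Flat A (Localization.AtPrime (r.under B)) ∧ Module.Flat B (Localization.AtPrime r) := by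
  classical
  haveI : Algebra.FinitePresentation B C :=
    Algebra.FinitePresentation.of_restrict_scalars_finitePresentation A B C
  let P := Algebra.Presentation.ofFinitePresentation A B
  let ι_ := Fin (Algebra.Presentation.ofFinitePresentationVars A B)
  let Q := Algebra.Presentation.ofFinitePresentation B C
  let PC := Q.comp P
  let A₀ : Subalgebra ℤ A := Algebra.adjoin ℤ (P.coeffs ∪ PC.coeffs)
  haveI hP : P.HasCoeffs A₀ := ⟨by
    rw [Subalgebra.setRange_algebraMap]
    exact Set.subset_union_left.trans Algebra.subset_adjoin⟩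
  haveI hPC : PC.HasCoeffs A₀ := ⟨by
    rw [Subalgebra.setRange_algebraMap]
    exact Set.subset_union_right.trans Algebra.subset_adjoin⟩
  haveI : Algebra.FiniteType ℤ A₀ :=
    (Subalgebra.fg_iff_finiteType A₀).1 (Subalgebra.fg_def.mpr ⟨_,
      (Algebra.Presentation.finite_coeffs).union (Algebra.Presentation.finite_coeffs), rfl⟩)
  haveI : IsNoetherianRing A₀ := Algebra.FiniteType.isNoetherianRing ℤ A₀
  let B₀ := P.ModelOfHasCoeffs A₀
  let C₀ := PC.ModelOfHasCoeffs A₀
  let φ₀ : B₀ →ₐ[A₀] C₀ := modelMap P Q A₀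
  letI aB₀C₀ : Algebra B₀ C₀ := φ₀.toRingHom.toAlgebra
  haveI : IsScalarTower A₀ B₀ C₀ := IsScalarTower.of_algebraMap_eq (fun x => (φ₀.commutes x).symm)
  let eB : A ⊗[A₀] B₀ ≃ₐ[A] B := P.tensorModelOfHasCoeffsEquiv A₀
  let eC : A ⊗[A₀] C₀ ≃ₐ[A] C := PC.tensorModelOfHasCoeffsEquiv A₀
  let ιB : B₀ →ₐ[A₀] B := (eB.toAlgHom.restrictScalars A₀).comp Algebra.TensorProduct.includeRight
  let ιC : C₀ →ₐ[A₀] C := (eC.toAlgHom.restrictScalars A₀).comp Algebra.TensorProduct.includeRight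
  letI aB₀B : Algebra B₀ B := ιB.toRingHom.toAlgebra
  letI aC₀C : Algebra C₀ C := ιC.toRingHom.toAlgebra
  haveI : IsScalarTower A₀ B₀ B := IsScalarTower.of_algebraMap_eq (fun x => (ιB.commutes x).symm)
  haveI : IsScalarTower A₀ C₀ C := IsScalarTower.of_algebraMap_eq (fun x => (ιC.commutes x).symm)
  letI aB₀C : Algebra B₀ C := ((algebraMap B C).comp (algebraMap B₀ B)).toAlgebra
  haveI : IsScalarTower B₀ B C := IsScalarTower.of_algebraMap_eq (fun _ => rfl)
  haveI : IsScalarTower B₀ C₀ C := by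
    refine IsScalarTower.of_algebraMap_eq (fun x => ?_)
    obtain ⟨y, rfl⟩ := Ideal.Quotient.mk_surjective x
    change algebraMap B C (eB (1 ⊗ₜ Ideal.Quotient.mk _ y)) =
      eC (1 ⊗ₜ (modelMap P Q A₀ (Ideal.Quotient.mk _ y)))
    rw [modelMap_mk]
    erw [Algebra.Presentation.tensorModelOfHasCoeffsEquiv_tmul,
      Algebra.Presentation.tensorModelOfHasCoeffsEquiv_tmul]
    rw [map_one, one_mul, map_one, one_mul, MvPolynomial.aeval_rename]
    have hval : (PC.val ∘ Sum.inr : ι_ → C) = algebraMap B C ∘ P.val := by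
      funext i
      simp [PC, Algebra.Presentation.comp, Algebra.Generators.comp_val]
    rw [hval, MvPolynomial.aeval_algebraMap_apply]
  haveI : Algebra.IsPushout A₀ A B₀ B := by
    rw [Algebra.isPushout_iff]
    exact IsBaseChange.of_equiv eB.toLinearEquiv (fun x => rfl)
  haveI : Algebra.IsPushout A₀ A C₀ C := by
    rw [Algebra.isPushout_iff]
    exact IsBaseChange.of_equiv eC.toLinearEquiv (fun x => rfl)
  exact core_of_pushout A₀ A B₀ C₀ B C r hfib

end Groth.Agent.Lib.Helper31.FibCrit
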