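import Groth.Agent.Lib.Helper31.FibCritE
import Groth.Agent.Lib.Helper96.SmoothNilp
import Groth.Agent.S0387
import Groth.Agent.S17593

/-!
# Fibrewise flatness criterion, part F (helper31): finite type reduction and openness

* `core_ft`: `A → B → C`, `B` of finite type over `A`, `C` finitely presented and flat over `A`, `r` a
  prime of `C` with `B_q/pB_q → C_r/pC_r` flat (`FibFlatAt`): then `B_q` is flat over `A` and `C_r` is
  flat over `B`.
* `exists_isOpen_flat`: openness of the locus where both hold.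
* `fibFlatAt_of_flat`: the easy converse.
-/

set_option autoImplicit false
set_option maxHeartbeats 1000000
open TensorProduct
namespace Groth.Agent.Lib.Helper31.FibCrit
universe u


/-- The local ring of a fibre of a finite type algebra is Noetherian. -/
theorem isNoetherianRing_quot_atPrime (A P : Type u) [CommRing A] [CommRing P] [Algebra A P]
    [Algebra.FiniteType A P] (q₀ : Ideal P) [q₀.IsPrime] :
    IsNoetherianRing (Localization.AtPrime q₀ ⧸
      (q₀.under A).map (algebraMap A (Localization.AtPrime q₀))) := by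
  let p := q₀.under A
  haveI : q₀.LiesOver p := ⟨rfl⟩
  letI := Localization.AtPrime.algebraOfLiesOver p q₀
  let S₀ := Localization.AtPrime q₀
  let κ := p.ResidueField
  obtain ⟨c, -⟩ := exists_quotEquiv A S₀ p
  letI : Algebra (κ ⊗[A] P) (κ ⊗[A] S₀) :=
    (Algebra.TensorProduct.map (AlgHom.id κ κ) (IsScalarTower.toAlgHom A P S₀)).toRingHom.toAlgebra
  haveI : IsScalarTower κ (κ ⊗[A] P) (κ ⊗[A] S₀) := IsScalarTower.of_algebraMap_eq (fun k => by
    rw [RingHom.algebraMap_toAlgebra]
    simp [Algebra.TensorProduct.algebraMap_apply]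
    rfl)
  have hloc : IsLocalization (q₀.primeCompl.map
      (Algebra.TensorProduct.includeRight (R := A) (A := κ))) (κ ⊗[A] S₀) :=
    IsLocalization.tensorProduct_tensorProduct_right A κ q₀.primeCompl S₀ (by
      ext x
      rw [RingHom.algebraMap_toAlgebra]
      simp)
  haveI : IsNoetherianRing (κ ⊗[A] P) := Algebra.FiniteType.isNoetherianRing κ _
  haveI : IsNoetherianRing (κ ⊗[A] S₀) := IsLocalization.isNoetherianRing (q₀.primeCompl.map
      (Algebra.TensorProduct.includeRight (R := A) (A := κ))) (κ ⊗[A] S₀) ‹_›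
  exact isNoetherianRing_of_ringEquiv _ c.symm

/-- Finite approximation of an ideal modulo the fibre: for `P` of finite type over `A`, a prime `q₀`
of `P` and any ideal `J` of `P`, there is a finite subset `F ⊆ J` such that every `j ∈ J` lies in
`(F) + pP` after multiplication by some `s ∉ q₀`. -/
theorem exists_finset_approx (A P : Type u) [CommRing A] [CommRing P] [Algebra A P]
    [Algebra.FiniteType A P] (q₀ : Ideal P) [q₀.IsPrime] (J : Ideal P) :
    ∃ F : Finset P, (F : Set P) ⊆ J ∧ ∀ j ∈ J, ∃ s ∉ q₀,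
      s * j ∈ Ideal.span (F : Set P) ⊔ (q₀.under A).map (algebraMap A P) := by
  classical
  let p := q₀.under A
  let S₀ := Localization.AtPrime q₀
  let I₀ : Ideal S₀ := p.map (algebraMap A S₀)
  let T := S₀ ⧸ I₀
  haveI : IsNoetherianRing T := isNoetherianRing_quot_atPrime A P q₀
  let φ : P →+* T := (Ideal.Quotient.mk I₀).comp (algebraMap P S₀)
  have hfg : (Submodule.span T (φ '' (J : Set P))).FG := IsNoetherian.noetherian _
  obtain ⟨G, hGsub, hGspan⟩ :=
    (Submodule.fg_span_iff_fg_span_finset_subset (φ '' (J : Set P))).mp hfg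
  obtain ⟨F, hFJ, hFG⟩ := Finset.subset_set_image_iff.mp hGsub
  refine ⟨F, hFJ, fun j hj => ?_⟩
  have h1 : φ j ∈ Ideal.span (φ '' (F : Set P)) := by
    rw [← Finset.coe_image, hFG]
    show φ j ∈ Submodule.span T (G : Set T)
    rw [← hGspan]
    exact Submodule.subset_span ⟨j, hj, rfl⟩
  rw [← Ideal.map_span, ← Ideal.map_map] at h1
  have h2 : algebraMap P S₀ j ∈ (Ideal.span (F : Set P)).map (algebraMap P S₀) ⊔ I₀ :=
    Ideal.mem_quotient_iff_mem_sup.mp h1
  have h3 : (Ideal.span (F : Set P)).map (algebraMap P S₀) ⊔ I₀ =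
      (Ideal.span (F : Set P) ⊔ p.map (algebraMap A P)).map (algebraMap P S₀) := by
    rw [Ideal.map_sup, Ideal.map_map, ← IsScalarTower.algebraMap_eq]
  rw [h3, IsLocalization.mem_map_algebraMap_iff q₀.primeCompl] at h2
  obtain ⟨⟨⟨a, ha⟩, ⟨s, hs⟩⟩, h⟩ := h2
  simp only at h
  rw [← map_mul, IsLocalization.eq_iff_exists q₀.primeCompl] at h
  obtain ⟨⟨t, ht⟩, h⟩ := h
  simp only at h
  refine ⟨t * s, fun hts => (q₀.primeCompl.mul_mem ht hs) hts, ?_⟩
  have : t * s * j = t * (j * s) := by ring
  rw [this, h]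
  exact Ideal.mul_mem_left _ _ ha


section surj

variable (B₁ B : Type u) [CommRing B₁] [CommRing B] [Algebra B₁ B]
  (hsurj : Function.Surjective (algebraMap B₁ B))
  (q₁ : Ideal B₁) [q₁.IsPrime] (q : Ideal B) [q.IsPrime] [q.LiesOver q₁]
  [Algebra (Localization.AtPrime q₁) (Localization.AtPrime q)]
  [Localization.AtPrime.IsLiesOverAlgebra q₁ q]

include hsurj in
/-- localization of a surjection at a prime is surjective (algebra form). -/
theorem surjective_algebraMap_atPrime :
    Function.Surjective (algebraMap (Localization.AtPrime q₁) (Localization.AtPrime q)) := by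
  intro x
  obtain ⟨b, ⟨s, hs⟩, rfl⟩ := IsLocalization.exists_mk'_eq q.primeCompl x
  obtain ⟨b₁, rfl⟩ := hsurj b
  obtain ⟨s₁, rfl⟩ := hsurj s
  have hs₁ : s₁ ∈ q₁.primeCompl := by
    intro h
    apply hs
    rw [Ideal.LiesOver.over (p := q₁) (P := q)] at h
    exact h
  refine ⟨IsLocalization.mk' _ b₁ ⟨s₁, hs₁⟩, ?_⟩
  rw [IsLocalization.eq_mk'_iff_mul_eq]
  simp only
  rw [← IsScalarTower.algebraMap_apply B₁ B (Localization.AtPrime q),
    IsScalarTower.algebraMap_apply B₁ (Localization.AtPrime q₁) (Localization.AtPrime q),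
    ← map_mul, IsLocalization.mk'_spec,
    ← IsScalarTower.algebraMap_apply B₁ (Localization.AtPrime q₁) (Localization.AtPrime q),
    IsScalarTower.algebraMap_apply B₁ B (Localization.AtPrime q)]

include hsurj in
/-- kernel of the localized surjection, elementwise. -/
theorem ker_algebraMap_atPrime_le (I₁ : Ideal (Localization.AtPrime q₁))
    (hker : ∀ k ∈ RingHom.ker (algebraMap B₁ B), ∃ s ∉ q₁,
      algebraMap B₁ (Localization.AtPrime q₁) (s * k) ∈ I₁) :
    RingHom.ker (algebraMap (Localization.AtPrime q₁) (Localization.AtPrime q)) ≤ I₁ := by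
  intro x hx
  obtain ⟨b₁, ⟨s₁, hs₁⟩, rfl⟩ := IsLocalization.exists_mk'_eq q₁.primeCompl x
  rw [RingHom.mem_ker] at hx
  have h1 : algebraMap B (Localization.AtPrime q) (algebraMap B₁ B b₁) = 0 := by
    rw [← IsScalarTower.algebraMap_apply B₁ B (Localization.AtPrime q),
      IsScalarTower.algebraMap_apply B₁ (Localization.AtPrime q₁) (Localization.AtPrime q),
      ← IsLocalization.mk'_spec (Localization.AtPrime q₁) b₁ ⟨s₁, hs₁⟩, map_mul, hx, zero_mul]
  rw [IsLocalization.map_eq_zero_iff q.primeCompl] at h1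
  obtain ⟨⟨t, ht⟩, h1⟩ := h1
  obtain ⟨t₁, rfl⟩ := hsurj t
  have ht₁ : t₁ ∉ q₁ := by
    intro h
    apply ht
    rw [Ideal.LiesOver.over (p := q₁) (P := q)] at h
    exact h
  have h2 : t₁ * b₁ ∈ RingHom.ker (algebraMap B₁ B) := by
    rw [RingHom.mem_ker, map_mul]; exact h1
  obtain ⟨s, hs, h3⟩ := hker _ h2
  have hu : IsUnit (algebraMap B₁ (Localization.AtPrime q₁) (s * t₁)) :=
    IsLocalization.map_units (Localization.AtPrime q₁) (⟨s * t₁, q₁.primeCompl.mul_mem hs ht₁⟩ : q₁.primeCompl)
  have h4 : algebraMap B₁ (Localization.AtPrime q₁) b₁ ∈ I₁ := by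
    have : algebraMap B₁ (Localization.AtPrime q₁) (s * (t₁ * b₁)) =
        algebraMap B₁ (Localization.AtPrime q₁) (s * t₁) * algebraMap B₁ (Localization.AtPrime q₁) b₁ := by
      rw [← map_mul, mul_assoc]
    rw [this] at h3
    exact (Ideal.unit_mul_mem_iff_mem I₁ hu).mp h3
  rw [← IsLocalization.mk'_spec' (Localization.AtPrime q₁) b₁ ⟨s₁, hs₁⟩] at h4
  exact (Ideal.unit_mul_mem_iff_mem I₁ (IsLocalization.map_units (Localization.AtPrime q₁) (⟨s₁, hs₁⟩ : q₁.primeCompl))).mp h4

end surj


section transfer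

variable (A B₁ B C : Type u) [CommRing A] [CommRing B₁] [CommRing B] [CommRing C]
    [Algebra A B₁] [Algebra A B] [Algebra A C] [Algebra B₁ B] [Algebra B C] [Algebra B₁ C]
    [IsScalarTower A B₁ B] [IsScalarTower A B C] [IsScalarTower B₁ B C] [IsScalarTower A B₁ C]
    (hsurj : Function.Surjective (algebraMap B₁ B)) (r : Ideal C) [r.IsPrime]

include hsurj in
/-- Transfer along a surjection `B₁ → B`: flatness of `(B₁)_{q₁}` over `A` and of `C_r` over `B₁`
imply flatness of `B_q` over `A` and of `C_r` over `B`. -/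
theorem transfer_of_surjective
    (h1 : Module.Flat A (Localization.AtPrime (r.under B₁)))
    (h2 : Module.Flat B₁ (Localization.AtPrime r)) :
    Module.Flat A (Localization.AtPrime (r.under B)) ∧ Module.Flat B (Localization.AtPrime r) := by
  let q₁ : Ideal B₁ := r.under B₁
  let q : Ideal B := r.under B
  haveI : q.LiesOver q₁ := liesOver_under_under B₁ B C r
  haveI : r.LiesOver q := inferInstance
  haveI : r.LiesOver q₁ := inferInstance
  letI aS₁S := Localization.AtPrime.algebraOfLiesOver q₁ q
  letI aS₁T := Localization.AtPrime.algebraOfLiesOver q₁ r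
  letI aST := Localization.AtPrime.algebraOfLiesOver q r
  let S₁ := Localization.AtPrime q₁
  let S := Localization.AtPrime q
  let T := Localization.AtPrime r
  have t1 : IsScalarTower S₁ S T := inferInstance
  have t2 : IsScalarTower A S₁ S := inferInstance
  have t3 : IsScalarTower B₁ S₁ T := inferInstance
  have hρs : Function.Surjective (algebraMap S₁ S) := surjective_algebraMap_atPrime B₁ B hsurj q₁ q
  haveI : Module.Flat S₁ T :=
    (Module.flat_iff_of_isLocalization (S := S₁) (p := q₁.primeCompl) (M := T)).2 h2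
  haveI : Module.FaithfullyFlat S₁ T := Module.FaithfullyFlat.of_flat_of_isLocalHom
  have hinjT : Function.Injective (algebraMap S₁ T) := FaithfulSMul.algebraMap_injective S₁ T
  have hρi : Function.Injective (algebraMap S₁ S) := by
    intro x y hxy
    apply hinjT
    rw [IsScalarTower.algebraMap_apply S₁ S T, hxy, ← IsScalarTower.algebraMap_apply S₁ S T]
  let e : S₁ ≃ₗ[A] S := LinearEquiv.ofBijective (IsScalarTower.toAlgHom A S₁ S).toLinearMap ⟨hρi, hρs⟩
  have hAS : Module.Flat A S := Module.Flat.of_linearEquiv e.symm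
  let ρe : S₁ ≃+* S := RingEquiv.ofBijective (algebraMap S₁ S) ⟨hρi, hρs⟩
  have hcomp : algebraMap S T = (algebraMap S₁ T).comp ρe.symm.toRingHom := by
    ext x
    obtain ⟨y, rfl⟩ := ρe.surjective x
    simp only [RingEquiv.toRingHom_eq_coe, RingHom.coe_comp, RingHom.coe_coe, Function.comp_apply,
      RingEquiv.symm_apply_apply]
    exact (IsScalarTower.algebraMap_apply S₁ S T y).symm
  have hST : (algebraMap S T).Flat := by
    rw [hcomp]
    exact RingHom.Flat.comp (.of_bijective ρe.symm.bijective) (RingHom.flat_algebraMap_iff.mpr inferInstance)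
  haveI : Module.Flat S T := RingHom.flat_algebraMap_iff.mp hST
  exact ⟨hAS, Module.Flat.trans B S T⟩

include hsurj in
/-- Transfer of the fibre condition along a surjection which is an isomorphism on the local ring
of the fibre. -/
theorem fibFlatAt_of_surjective
    (hker : ∀ k ∈ RingHom.ker (algebraMap B₁ B), ∃ s ∉ r.under B₁,
      s * k ∈ (r.under A).map (algebraMap A B₁))
    (hfib : FibFlatAt A B C r) : FibFlatAt A B₁ C r := by
  let q₁ : Ideal B₁ := r.under B₁
  let q : Ideal B := r.under B
  let p : Ideal A := r.under A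
  haveI : q.LiesOver q₁ := liesOver_under_under B₁ B C r
  haveI : r.LiesOver q := inferInstance
  haveI : r.LiesOver q₁ := inferInstance
  letI aS₁S := Localization.AtPrime.algebraOfLiesOver q₁ q
  letI aS₁T := Localization.AtPrime.algebraOfLiesOver q₁ r
  letI aST := Localization.AtPrime.algebraOfLiesOver q r
  let S₁ := Localization.AtPrime q₁
  let S := Localization.AtPrime q
  let T := Localization.AtPrime r
  have t1 : IsScalarTower S₁ S T := inferInstance
  have t2 : IsScalarTower A S₁ S := inferInstance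
  have hρs : Function.Surjective (algebraMap S₁ S) := surjective_algebraMap_atPrime B₁ B hsurj q₁ q
  let I₁ : Ideal S₁ := p.map (algebraMap A S₁)
  let I : Ideal S := p.map (algebraMap A S)
  let J : Ideal T := p.map (algebraMap A T)
  have hkerρ : RingHom.ker (algebraMap S₁ S) ≤ I₁ := by
    apply ker_algebraMap_atPrime_le B₁ B hsurj q₁ q I₁
    intro k hk
    obtain ⟨s, hs, h⟩ := hker k hk
    refine ⟨s, hs, ?_⟩
    have := Ideal.mem_map_of_mem (algebraMap B₁ S₁) h
    rwa [Ideal.map_map, ← IsScalarTower.algebraMap_eq] at this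
  have hIeq : I = I₁.map (algebraMap S₁ S) := by
    show Ideal.map (algebraMap A S) p = Ideal.map (algebraMap S₁ S) (Ideal.map (algebraMap A S₁) p)
    rw [Ideal.map_map, ← IsScalarTower.algebraMap_eq]
  have hρ : I₁ ≤ I.comap (algebraMap S₁ S) := map_le_comap_map A S₁ S p
  have hψ : I ≤ J.comap (algebraMap S T) := map_le_comap_map A S T p
  have hψ₁ : I₁ ≤ J.comap (algebraMap S₁ T) := map_le_comap_map A S₁ T p
  have hc : (Ideal.quotientMap J (algebraMap S T) hψ).Flat := hfib
  show (Ideal.quotientMap J (algebraMap S₁ T) hψ₁).Flat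
  have hbij : Function.Bijective (Ideal.quotientMap I (algebraMap S₁ S) hρ) := by
    refine ⟨?_, Ideal.quotientMap_surjective hρs⟩
    apply Ideal.quotientMap_injective'
    rw [hIeq, Ideal.comap_map_of_surjective _ hρs]
    exact sup_le le_rfl hkerρ
  have key : Ideal.quotientMap J (algebraMap S₁ T) hψ₁ =
      (Ideal.quotientMap J (algebraMap S T) hψ).comp (Ideal.quotientMap I (algebraMap S₁ S) hρ) := by
    apply Ideal.Quotient.ringHom_ext
    ext x
    simp only [RingHom.coe_comp, Function.comp_apply, Ideal.quotientMap_mk]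
    rw [← IsScalarTower.algebraMap_apply S₁ S T]
  rw [key]
  exact RingHom.Flat.comp (.of_bijective hbij) hc

end transfer


/-- A finitely presented approximation `B₁ → B` of a finite type algebra which is an isomorphism
on the local ring of the fibre at the contraction of `r`. -/
theorem exists_fp_approx (A B C : Type u) [CommRing A] [CommRing B] [CommRing C] [Algebra A B]
    [Algebra B C] [Algebra A C] [IsScalarTower A B C] [Algebra.FiniteType A B]
    (r : Ideal C) [r.IsPrime] :
    ∃ (B₁ : Type u) (_ : CommRing B₁) (_ : Algebra A B₁) (_ : Algebra B₁ B) (_ : Algebra B₁ C)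
      (_ : IsScalarTower A B₁ B) (_ : IsScalarTower B₁ B C) (_ : IsScalarTower A B₁ C)
      (_ : Algebra.FinitePresentation A B₁),
      Function.Surjective (algebraMap B₁ B) ∧
      ∀ k ∈ RingHom.ker (algebraMap B₁ B), ∃ s ∉ r.under B₁,
        s * k ∈ (r.under A).map (algebraMap A B₁) := by
  classical
  obtain ⟨n, π, hπ⟩ := Algebra.FiniteType.iff_quotient_mvPolynomial''.mp ‹Algebra.FiniteType A B›
  let P := MvPolynomial (Fin n) A
  let q₀ : Ideal P := (r.under B).comap π
  haveI : q₀.IsPrime := Ideal.comap_isPrime _ _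
  have hq₀ : q₀.under A = r.under A := by
    ext a
    simp only [Ideal.under, Ideal.mem_comap, q₀, AlgHom.commutes]
    rw [← IsScalarTower.algebraMap_apply A B C]
  obtain ⟨F, hFJ, hF⟩ := exists_finset_approx A P q₀ (RingHom.ker π.toRingHom)
  let J₁ : Ideal P := Ideal.span (F : Set P)
  have hJ₁ : J₁ ≤ RingHom.ker π.toRingHom := Ideal.span_le.mpr hFJ
  let B₁ := P ⧸ J₁
  let ρ : B₁ →ₐ[A] B := Ideal.Quotient.liftₐ J₁ π (fun a ha => hJ₁ ha)
  letI algB₁B : Algebra B₁ B := ρ.toRingHom.toAlgebra
  letI algB₁C : Algebra B₁ C := ((algebraMap B C).comp ρ.toRingHom).toAlgebra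
  have tw1 : IsScalarTower A B₁ B := IsScalarTower.of_algebraMap_eq (fun a => (ρ.commutes a).symm)
  have tw2 : IsScalarTower B₁ B C := IsScalarTower.of_algebraMap_eq (fun _ => rfl)
  have tw3 : IsScalarTower A B₁ C := by
    refine IsScalarTower.of_algebraMap_eq (R := A) (S := B₁) (A := C) (fun a => ?_)
    rw [IsScalarTower.algebraMap_apply A B C]
    show _ = algebraMap B C (ρ (algebraMap A B₁ a))
    rw [ρ.commutes]
  have fp : Algebra.FinitePresentation A B₁ :=
    Algebra.FinitePresentation.quotient ⟨F, rfl⟩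
  refine ⟨B₁, inferInstance, inferInstance, algB₁B, algB₁C, tw1, tw2, tw3, fp, ?_, ?_⟩
  · intro b
    obtain ⟨x, rfl⟩ := hπ b
    exact ⟨Ideal.Quotient.mk J₁ x, rfl⟩
  · intro k hk
    obtain ⟨j, rfl⟩ := Ideal.Quotient.mk_surjective k
    have hj : j ∈ RingHom.ker π.toRingHom := hk
    obtain ⟨s₀, hs₀, h⟩ := hF j hj
    refine ⟨Ideal.Quotient.mk J₁ s₀, fun hmem => hs₀ hmem, ?_⟩
    rw [← map_mul]
    have h1 := Ideal.mem_map_of_mem (Ideal.Quotient.mk J₁) h
    rw [Ideal.map_sup, Ideal.map_quotient_self, bot_sup_eq, Ideal.map_map, hq₀] at h1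
    exact h1

/-- base change of a flat ring map along a quotient, with the target ideal given up to equality. -/
theorem quotientMap_flat_of_flat {S T : Type u} [CommRing S] [CommRing T] (ψ : S →+* T)
    (hψ : ψ.Flat) (I : Ideal S) (J : Ideal T) (hJ : J = I.map ψ) (h : I ≤ J.comap ψ) :
    (Ideal.quotientMap J ψ h).Flat := by
  subst hJ
  exact Groth.Agent.Lib.Helper96.flat_quotientMap ψ hψ I

/-- Flatness of `C_r` over `B` implies the fibre condition. -/
theorem fibFlatAt_of_flat (A B C : Type u) [CommRing A] [CommRing B] [CommRing C] [Algebra A B]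
    [Algebra B C] [Algebra A C] [IsScalarTower A B C] (r : Ideal C) [r.IsPrime]
    (h : Module.Flat B (Localization.AtPrime r)) : FibFlatAt A B C r := by
  let q : Ideal B := r.under B
  let p : Ideal A := r.under A
  letI aST := Localization.AtPrime.algebraOfLiesOver q r
  let S := Localization.AtPrime q
  let T := Localization.AtPrime r
  have t1 : IsScalarTower A S T := inferInstance
  haveI : Module.Flat S T :=
    (Module.flat_iff_of_isLocalization (S := S) (p := q.primeCompl) (M := T)).2 h
  have hψ : (algebraMap S T).Flat := RingHom.flat_algebraMap_iff.mpr inferInstance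
  show (Ideal.quotientMap (p.map (algebraMap A T)) (algebraMap S T) (map_le_comap_map A S T p)).Flat
  apply quotientMap_flat_of_flat _ hψ
  rw [Ideal.map_map, ← IsScalarTower.algebraMap_eq]

/-- **Fibrewise criterion, `B` of finite type, `C` finitely presented and flat over `A`.** -/
theorem core_ft {A B C : Type u} [CommRing A] [CommRing B] [CommRing C] [Algebra A B] [Algebra B C]
    [Algebra A C] [IsScalarTower A B C] [Algebra.FiniteType A B]
    [Algebra.FinitePresentation A C] [Module.Flat A C]
    (r : Ideal C) [r.IsPrime] (hfib : FibFlatAt A B C r) :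
    Module.Flat A (Localization.AtPrime (r.under B)) ∧ Module.Flat B (Localization.AtPrime r) := by
  obtain ⟨B₁, _, _, _, _, _, _, _, _, hsurj, hker⟩ := exists_fp_approx A B C r
  have h := core_fp (A := A) (B := B₁) (C := C) r
    (fibFlatAt_of_surjective A B₁ B C hsurj r hker hfib)
  exact transfer_of_surjective A B₁ B C hsurj r h.1 h.2

/-- **Openness**: around a prime `r₀` at which `B` is flat over `A` and `C` is flat over `B`, the
same holds on an open neighbourhood (assuming `C` flat over `A`). -/
theorem exists_isOpen_flat {A B C : Type u} [CommRing A] [CommRing B] [CommRing C] [Algebra A B]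
    [Algebra B C] [Algebra A C] [IsScalarTower A B C] [Algebra.FiniteType A B]
    [Algebra.FinitePresentation A C] [Module.Flat A C]
    (r₀ : Ideal C) [r₀.IsPrime]
    (h₀ : Module.Flat B (Localization.AtPrime r₀)) :
    ∃ U : Set (PrimeSpectrum C), IsOpen U ∧ (⟨r₀, inferInstance⟩ : PrimeSpectrum C) ∈ U ∧
      ∀ r ∈ U, Module.Flat A (Localization.AtPrime (r.asIdeal.under B)) ∧
        Module.Flat B (Localization.AtPrime r.asIdeal) := by
  obtain ⟨B₁, _, _, _, _, _, _, _, _, hsurj, hker⟩ := exists_fp_approx A B C r₀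
  have h := core_fp (A := A) (B := B₁) (C := C) r₀
    (fibFlatAt_of_surjective A B₁ B C hsurj r₀ hker (fibFlatAt_of_flat A B C r₀ h₀))
  haveI : Algebra.FinitePresentation B₁ C :=
    Algebra.FinitePresentation.of_restrict_scalars_finitePresentation A B₁ C
  have ho1 : IsOpen {q : PrimeSpectrum B₁ |
      Module.Flat A (LocalizedModule q.asIdeal.primeCompl B₁)} :=
    Groth.Agent.S0387.result (R := A) (S := B₁) (M := B₁)
  have ho2 : IsOpen {q : PrimeSpectrum C |
      Module.Flat B₁ (LocalizedModule q.asIdeal.primeCompl C)} :=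
    Groth.Agent.S0387.result (R := B₁) (S := C) (M := C)
  refine ⟨(PrimeSpectrum.comap (algebraMap B₁ C)) ⁻¹' {q : PrimeSpectrum B₁ |
      Module.Flat A (LocalizedModule q.asIdeal.primeCompl B₁)} ∩ {q : PrimeSpectrum C |
      Module.Flat B₁ (LocalizedModule q.asIdeal.primeCompl C)},
    (ho1.preimage (PrimeSpectrum.continuous_comap _)).inter ho2, ⟨?_, ?_⟩, ?_⟩
  · exact (Groth.Agent.S17593.flat_atPrime_iff _).mpr h.1
  · exact (Groth.Agent.S17593.flat_atPrime_iff _).mpr h.2
  · rintro r ⟨hr1, hr2⟩
    exact transfer_of_surjective A B₁ B C hsurj r.asIdeal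
      ((Groth.Agent.S17593.flat_atPrime_iff _).mp hr1)
      ((Groth.Agent.S17593.flat_atPrime_iff _).mp hr2)

end Groth.Agent.Lib.Helper31.FibCrit
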