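import Groth.Agent.Lib.Helper31.FibCritC
import Groth.Agent.Lib.QCoh.Helper74_FlatOverPullback

/-!
# Base change of flatness through a flat comparison map (helper31)

* `flat_baseChange_tensor`: `A → A'`, `N` a `B`-module flat over `A`, `A' ⊗[A] B → D` flat ⟹
  `D ⊗[B] N` flat over `A'`.
* `canL_flat_gen`: for a pushout `C = A ⊗[A'] C'`, `T'` a localization of `C'`, `T` flat over `C`:
  `A ⊗[A'] T' → T` is flat.
-/

set_option autoImplicit false
set_option maxHeartbeats 1000000
open TensorProduct
namespace Groth.Agent.Lib.Helper31.FibCrit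
universe u

attribute [local instance] Algebra.TensorProduct.rightAlgebra

/-- **Base change of flatness through a flat comparison map.** `A → A'`, `B` an `A`-algebra, `N` a
`B`-module flat over `A`, `D` an algebra over `A'` and `B` such that `A' ⊗[A] B → D` is flat. Then
`D ⊗[B] N` is flat over `A'`. -/
theorem flat_baseChange_tensor (A A' B D N : Type u) [CommRing A] [CommRing A'] [CommRing B]
    [CommRing D] [Algebra A A'] [Algebra A B] [Algebra B D] [Algebra A' D] [Algebra A D]
    [IsScalarTower A B D] [IsScalarTower A A' D]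
    [AddCommGroup N] [Module A N] [Module B N] [IsScalarTower A B N] [Module.Flat A N]
    (hflat : (canL A A' B D).toRingHom.Flat) :
    Module.Flat A' (D ⊗[B] N) := by
  let E := A' ⊗[A] B
  letI algED : Algebra E D := (canL A A' B D).toRingHom.toAlgebra
  haveI t1 : IsScalarTower B E D := IsScalarTower.of_algebraMap_eq (fun b => by
    show algebraMap B D b = canL A A' B D ((1 : A') ⊗ₜ b)
    rw [canL_tmul, map_one, one_mul])
  haveI t2 : IsScalarTower A' E D := IsScalarTower.of_algebraMap_eq (fun a => by
    show algebraMap A' D a = canL A A' B D (a ⊗ₜ (1 : B))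
    rw [canL_tmul, map_one, mul_one])
  haveI : Module.Flat E D := hflat
  haveI : Module.Flat A' (E ⊗[B] N) :=
    Module.Flat.of_linearEquiv (Algebra.IsPushout.cancelBaseChange A A' B E N)
  haveI : Module.Flat A' (D ⊗[E] (E ⊗[B] N)) :=
    Groth.Agent.Lib.QCoh.flat_tensor_of_flat A' E D (E ⊗[B] N)
  let e : D ⊗[E] (E ⊗[B] N) ≃ₗ[D] D ⊗[B] N := AlgebraTensorModule.cancelBaseChange B E D D N
  exact Module.Flat.of_linearEquiv (e.restrictScalars A').symm

/-- General form of `canL_flat`: for a pushout `C = A ⊗[A'] C'`, `T'` a localization of `C'` and `T` a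
flat `C`-algebra (e.g. a localization of `C`) with compatible maps, `A ⊗[A'] T' → T` is flat. -/
theorem canL_flat_gen (A' A C' C T' T : Type u) [CommRing A'] [CommRing A] [CommRing C'] [CommRing C]
    [CommRing T'] [CommRing T]
    [Algebra A' A] [Algebra A' C'] [Algebra A C] [Algebra C' C] [Algebra A' C]
    [IsScalarTower A' A C] [IsScalarTower A' C' C] [Algebra.IsPushout A' A C' C]
    [Algebra C' T'] [Algebra C T] [Algebra T' T] [Algebra C' T]
    [IsScalarTower C' T' T] [IsScalarTower C' C T]
    [Algebra A' T'] [IsScalarTower A' C' T'] [Algebra A T] [IsScalarTower A C T]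
    [Algebra A' T] [IsScalarTower A' A T] [IsScalarTower A' T' T]
    (M' : Submonoid C') [IsLocalization M' T'] [Module.Flat C T] :
    (canL A' A T' T).toRingHom.Flat := by
  let Lc := C ⊗[C'] T'
  haveI : IsLocalization (Algebra.algebraMapSubmonoid C M') Lc := IsLocalization.tensor T' M'
  let μ : Lc →ₐ[C] T := canL C' C T' T
  have hμ : μ.toRingHom.Flat := by
    algebraize [μ.toRingHom]
    haveI : IsScalarTower C Lc T := IsScalarTower.of_algebraMap_eq (fun c => (μ.commutes c).symm)
    change Module.Flat Lc T
    rw [Module.flat_iff_of_isLocalization (S := Lc) (p := Algebra.algebraMapSubmonoid C M')]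
    infer_instance
  let e : Lc ≃ₐ[A] A ⊗[A'] T' := Algebra.IsPushout.cancelBaseChangeAlg A' A C' C T'
  have key : (canL A' A T' T).toRingHom = μ.toRingHom.comp e.symm.toRingEquiv.toRingHom := by
    have : canL A' A T' T = (μ.restrictScalars A).comp e.symm.toAlgHom := by
      apply Algebra.TensorProduct.ext'
      intro a t
      simp only [AlgHom.coe_comp, AlgHom.coe_restrictScalars', AlgEquiv.coe_toAlgHom,
        Function.comp_apply, canL_tmul, e, μ]
      rw [Algebra.IsPushout.cancelBaseChangeAlg_symm_tmul, canL_tmul,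
        ← IsScalarTower.algebraMap_apply]
    rw [this]
    rfl
  rw [key]
  exact RingHom.Flat.comp (.of_bijective e.symm.bijective) hμ

end Groth.Agent.Lib.Helper31.FibCrit
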