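import Mathlib
import Groth.Agent.S0404
import Groth.Agent.Lib.Helper21.EtaleLocalDim
import Groth.Agent.Lib.Helper29.TopDimLocal
import Groth.Agent.Lib.Helper73.FibreDimGen2

/-!
# Image of the locus of large local fibre dimension under a flat lfp morphism is open
(helper31) Scheme level, no quasi-compactness: reduce to `S0404` on affine pieces.
-/

set_option autoImplicit false
universe u

namespace Groth.Agent.Lib.Helper31.FlatFibreDimImage

open AlgebraicGeometry CategoryTheory TopologicalSpace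

theorem isOpen_image_not_fibreDimAt_le {U V : Scheme.{u}} (k : U ⟶ V) [Flat k]
    [LocallyOfFinitePresentation k] (m : ℕ) :
    IsOpen (k '' {u | ¬ FlatMor.fibreDimAt k u ≤ (m : WithBot ℕ∞)}) := by
  rw [isOpen_iff_forall_mem_open]
  rintro _ ⟨u₀, hu₀, rfl⟩
  obtain ⟨V', hV', hv₀⟩ : ∃ V' : V.Opens, IsAffineOpen V' ∧ k u₀ ∈ V' := by
    obtain ⟨V', hV', hv₀, -⟩ := Opens.isBasis_iff_nbhd.mp V.isBasis_affineOpens
      (Opens.mem_top (k u₀))
    exact ⟨V', hV', hv₀⟩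
  obtain ⟨U', hU', hu₀', hle⟩ : ∃ U' : U.Opens, IsAffineOpen U' ∧ u₀ ∈ U' ∧ U' ≤ k ⁻¹ᵁ V' := by
    obtain ⟨U', hU', hu₀', hle⟩ := Opens.isBasis_iff_nbhd.mp U.isBasis_affineOpens
      (show u₀ ∈ k ⁻¹ᵁ V' from hv₀)
    exact ⟨U', hU', hu₀', hle⟩
  haveI : IsAffine (U' : Scheme) := hU'
  haveI : IsAffine (V' : Scheme) := hV'
  let k' : (U' : Scheme) ⟶ V' := k.resLE V' U' hle
  have comm : k' ≫ V'.ι = U'.ι ≫ k := Scheme.Hom.resLE_comp_ι _ _
  have hO := Groth.Agent.S0404.result k' (m : WithBot ℕ∞)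
  have key : ∀ u' : (U' : Scheme), FlatMor.fibreDimAt k (U'.ι u') = FlatMor.fibreDimAt k' u' :=
    fun u' => Groth.Agent.Lib.Helper21.EtaleLocalDim.fibreDimAt_eq_of_etale_square k k' U'.ι V'.ι comm u'
  have hcomm : ∀ u' : (U' : Scheme), V'.ι (k' u') = k (U'.ι u') := by
    intro u'
    rw [← Scheme.Hom.comp_apply, ← Scheme.Hom.comp_apply, comm]
  refine ⟨V'.ι '' {v' | (m : WithBot ℕ∞) < topologicalKrullDim (k'.fiber v')}, ?_,
    V'.ι.isOpenEmbedding.isOpenMap _ hO, ?_⟩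
  · rintro _ ⟨v', hv', rfl⟩
    rw [Set.mem_ofPred_eq, Groth.Agent.Lib.Helper29.topologicalKrullDim_eq_iSup_localDim,
      lt_iSup_iff] at hv'
    obtain ⟨z, hz⟩ := hv'
    have h1 := Groth.Agent.Lib.Helper73.SchemeDim.localDim_fiber_eq_fibreDimAt k' ((k'.fiberι v') z) v'
      (by
        have := (k'.range_fiberι v').le (Set.mem_range_self z)
        exact this) z rfl
    refine ⟨U'.ι ((k'.fiberι v') z), ?_, ?_⟩
    · rw [Set.mem_ofPred_eq, key, ← h1]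
      exact not_le.mpr hz
    · rw [← hcomm]
      congr 1
      exact (k'.range_fiberι v').le (Set.mem_range_self z)
  · refine ⟨k' ⟨u₀, hu₀'⟩, ?_, ?_⟩
    · rw [Set.mem_ofPred_eq]
      have h2 : FlatMor.fibreDimAt k' ⟨u₀, hu₀'⟩ = FlatMor.fibreDimAt k u₀ := (key ⟨u₀, hu₀'⟩).symm
      have h3 : ¬ FlatMor.fibreDimAt k' ⟨u₀, hu₀'⟩ ≤ (m : WithBot ℕ∞) := by rw [h2]; exact hu₀
      refine lt_of_lt_of_le (not_le.mp h3) ?_
      exact Groth.Agent.Lib.Helper29.localDim_le_dim _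
    · exact hcomm ⟨u₀, hu₀'⟩

end Groth.Agent.Lib.Helper31.FlatFibreDimImage
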