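import Mathlib
import Groth.Agent.Lib.Helper37.HenselSplit
import Groth.Agent.Lib.Helper37.HenselFinite
import Groth.Prelude.Def_Hensel

/-!
# Localization of a finite type algebra over a henselian local ring at a quasi-finite point

(helper31)  For a henselian local ring `A`, a finite type `A`-algebra `T` and a prime `Q` of `T` over
the maximal ideal at which `T` is quasi-finite, `T → T_Q` is surjective and `T_Q` is a finite
`A`-module (it is a direct factor of `T`).  Also: a henselian local ring is its own henselization.
-/

set_option autoImplicit false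
universe u

namespace Groth.Agent.Lib.Helper31.HensQF

open IsLocalRing

variable (A : Type u) [CommRing A] [HenselianLocalRing A]
  (T : Type u) [CommRing T] [Algebra A T] [Algebra.FiniteType A T]
  (Q : Ideal T) [Q.IsPrime] [Q.LiesOver (maximalIdeal A)] [Algebra.QuasiFiniteAt A Q]

/-- There is an idempotent `e ∉ Q` with `T/(1-e)` finite over `A` and such that every element
outside `Q` becomes a unit in `T/(1-e)`. -/
theorem exists_idempotent_isUnit :
    ∃ e : T, IsIdempotentElem e ∧ e ∉ Q ∧ Module.Finite A (T ⧸ Ideal.span ({1 - e} : Set T)) ∧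
      ∀ s : T, s ∉ Q → IsUnit (Ideal.Quotient.mk (Ideal.span ({1 - e} : Set T)) s) := by
  obtain ⟨e, he, heQ, hfin, huniq⟩ :=
    Groth.Agent.Lib.Helper37.exists_idempotent_of_quasiFiniteAt A T Q
  refine ⟨e, he, heQ, hfin, fun s hs => ?_⟩
  set I : Ideal T := Ideal.span ({1 - e} : Set T) with hI
  by_contra hnu
  obtain ⟨M, hM, hsM⟩ := exists_max_ideal_of_mem_nonunits hnu
  haveI := hM
  haveI := hfin
  haveI : Algebra.IsIntegral A (T ⧸ I) := Algebra.IsIntegral.of_finite A (T ⧸ I)
  -- `M` lies over the maximal ideal of `A`
  have hMmax : (M.comap (algebraMap A (T ⧸ I))).IsMaximal :=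
    Ideal.isMaximal_comap_of_isIntegral_of_isMaximal (R := A) M
  have hMm : M.comap (algebraMap A (T ⧸ I)) = maximalIdeal A :=
    IsLocalRing.eq_maximalIdeal hMmax
  set M' : Ideal T := M.comap (Ideal.Quotient.mk I) with hM'
  haveI : M'.IsPrime := Ideal.comap_isPrime _ _
  have hover : M'.LiesOver (maximalIdeal A) := by
    constructor
    rw [← hMm, Ideal.under, hM', Ideal.comap_comap]
    rfl
  have heM' : e ∉ M' := by
    intro heM
    have h1 : (1 - e) ∈ M' := by
      rw [hM', Ideal.mem_comap]
      have : Ideal.Quotient.mk I (1 - e) = 0 :=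
        Ideal.Quotient.eq_zero_iff_mem.2 (Ideal.subset_span rfl)
      rw [this]
      exact M.zero_mem
    have : (1 : T) ∈ M' := by
      have := M'.add_mem heM h1
      simpa using this
    exact (Ideal.IsPrime.ne_top inferInstance) ((Ideal.eq_top_iff_one M').2 this)
  have := huniq M' inferInstance hover heM'
  apply hs
  rw [← this, hM', Ideal.mem_comap]
  exact hsM

include A in
/-- `T → T_Q` is surjective. -/
theorem algebraMap_atPrime_surjective :
    Function.Surjective (algebraMap T (Localization.AtPrime Q)) := by
  obtain ⟨e, he, heQ, hfin, hunit⟩ := exists_idempotent_isUnit A T Q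
  set I : Ideal T := Ideal.span ({1 - e} : Set T) with hI
  -- `1 - e` dies in `T_Q`
  have hkill : algebraMap T (Localization.AtPrime Q) (1 - e) = 0 := by
    have hu : IsUnit (algebraMap T (Localization.AtPrime Q) e) :=
      IsLocalization.map_units (Localization.AtPrime Q) (⟨e, heQ⟩ : Q.primeCompl)
    have h0 : algebraMap T (Localization.AtPrime Q) e *
        algebraMap T (Localization.AtPrime Q) (1 - e) = 0 := by
      rw [← map_mul, mul_sub, mul_one, he.eq, sub_self, map_zero]
    exact (hu.mul_right_eq_zero).1 h0
  intro x
  obtain ⟨a, s, rfl⟩ := IsLocalization.exists_mk'_eq Q.primeCompl x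
  obtain ⟨u, hu⟩ := hunit (s : T) s.2
  obtain ⟨t, ht⟩ := Ideal.Quotient.mk_surjective (↑u⁻¹ : T ⧸ I)
  have hst : (s : T) * t - 1 ∈ I := by
    rw [← Ideal.Quotient.eq_zero_iff_mem, map_sub, map_mul, map_one, ht, ← hu, Units.mul_inv,
      sub_self]
  have hst' : algebraMap T (Localization.AtPrime Q) ((s : T) * t) = 1 := by
    obtain ⟨c, hc⟩ := Ideal.mem_span_singleton'.1 hst
    have : (s : T) * t = 1 + c * (1 - e) := by rw [hc]; ring
    rw [this, map_add, map_mul, hkill, mul_zero, add_zero, map_one]
  refine ⟨a * t, ?_⟩
  rw [IsLocalization.eq_mk'_iff_mul_eq, ← map_mul, mul_assoc, mul_comm t, map_mul, hst', mul_one]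

/-- `T_Q` is a finite `A`-module. -/
theorem finite_atPrime : Module.Finite A (Localization.AtPrime Q) := by
  obtain ⟨e, he, heQ, hfin, hunit⟩ := exists_idempotent_isUnit A T Q
  set I : Ideal T := Ideal.span ({1 - e} : Set T) with hI
  have hkill : algebraMap T (Localization.AtPrime Q) (1 - e) = 0 := by
    have hu : IsUnit (algebraMap T (Localization.AtPrime Q) e) :=
      IsLocalization.map_units (Localization.AtPrime Q) (⟨e, heQ⟩ : Q.primeCompl)
    have h0 : algebraMap T (Localization.AtPrime Q) e *
        algebraMap T (Localization.AtPrime Q) (1 - e) = 0 := by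
      rw [← map_mul, mul_sub, mul_one, he.eq, sub_self, map_zero]
    exact (hu.mul_right_eq_zero).1 h0
  have hle : ∀ a ∈ I, (IsScalarTower.toAlgHom A T (Localization.AtPrime Q)) a = 0 := by
    intro a ha
    obtain ⟨c, rfl⟩ := Ideal.mem_span_singleton'.1 ha
    change algebraMap T (Localization.AtPrime Q) (c * (1 - e)) = 0
    rw [map_mul, hkill, mul_zero]
  let g : (T ⧸ I) →ₐ[A] Localization.AtPrime Q :=
    Ideal.Quotient.liftₐ I (IsScalarTower.toAlgHom A T (Localization.AtPrime Q)) hle
  have hg : Function.Surjective g := by
    intro x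
    obtain ⟨t, rfl⟩ := algebraMap_atPrime_surjective A T Q x
    exact ⟨Ideal.Quotient.mk I t, rfl⟩
  haveI := hfin
  exact Module.Finite.of_surjective g.toLinearMap hg

/-- A henselian local ring is a henselization of itself. -/
theorem isHenselization_self (D : Type u) [CommRing D] [HenselianLocalRing D]
    [IsLocalHom (algebraMap D D)] : Hensel.IsHenselization D D where
  henselian := inferInstance
  universal T _ _ f _ := ⟨f, by ext; simp, fun g hg => by
    rw [← hg]; ext; simp⟩

/-- A henselian local ring with separably closed residue field is a strict henselization of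
itself. -/
theorem isStrictHenselization_self (D : Type u) [CommRing D] [HenselianLocalRing D]
    [IsLocalHom (algebraMap D D)] [IsSepClosed (ResidueField D)] :
    Hensel.IsStrictHenselization D D where
  henselian := inferInstance
  isSepClosure := by
    refine @IsSepClosure.mk _ _ _ _ (ResidueField.instAlgebra (R := D) (S := D)) inferInstance ?_
    · refine @Algebra.IsSeparable.mk _ _ _ _ (ResidueField.instAlgebra (R := D) (S := D))
        (fun x => ?_)
      obtain ⟨y, rfl⟩ := residue_surjective x
      have h : residue D y = @algebraMap _ _ _ _ (ResidueField.instAlgebra (R := D) (S := D))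
          (residue D y) := rfl
      rw [h]
      exact @isSeparable_algebraMap _ _ _ _ (ResidueField.instAlgebra (R := D) (S := D)) _
  universal T _ _ f _ τ hτ := by
    refine ⟨f, ⟨by ext; simp, fun x => ?_⟩, fun g hg => ?_⟩
    · have := RingHom.congr_fun hτ (residue D x)
      rw [RingHom.comp_apply, ResidueField.map_residue, ResidueField.map_residue] at this
      rw [← this]
      rfl
    · rw [← hg.1]; ext; simp

end Groth.Agent.Lib.Helper31.HensQF
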