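import Groth.Agent.S2463
import Groth.Agent.S4594

/-!
# Jacobian determinant criterion (EGA 0_IV 22.6.x / Zariski)
-/

set_option autoImplicit false
universe u

namespace Groth.Agent.Lib.Helper31.JacDet

open TensorProduct

/-- If `1 ⊗ m = 0` in `κ(p) ⊗[B] M`, where `B → C` is surjective and `p` is a prime of `C`,
then some `s` not killed in `κ(p)` sends `m` into `𝔮 M`, `𝔮 = ker (B → κ(p))`. -/
theorem exists_smul_mem_of_tmul_eq_zero {B C : Type u} [CommRing B] [CommRing C] [Algebra B C]
    (hsurj : Function.Surjective (algebraMap B C)) (p : Ideal C) [p.IsPrime]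
    {M : Type u} [AddCommGroup M] [Module B M] (m : M)
    (h : (1 : p.ResidueField) ⊗ₜ[B] m = 0) :
    ∃ s : B, algebraMap B p.ResidueField s ≠ 0 ∧
      s • m ∈ (RingHom.ker (algebraMap B p.ResidueField)) • (⊤ : Submodule B M) := by
  let D := C ⧸ p
  let K := p.ResidueField
  have hsurjD : Function.Surjective (algebraMap B D) := by
    rw [IsScalarTower.algebraMap_eq B C D]
    exact Ideal.Quotient.mk_surjective.comp hsurj
  have hinjK : Function.Injective (algebraMap D K) := IsFractionRing.injective D K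
  -- step 1: move to `K ⊗[D] (D ⊗[B] M)`
  have h1 : (1 : K) ⊗ₜ[D] ((1 : D) ⊗ₜ[B] m) = 0 := by
    have := congrArg (AlgebraTensorModule.cancelBaseChange B D K K M).symm h
    simpa using this
  -- step 2: localisation
  haveI : IsLocalizedModule (nonZeroDivisors D) (TensorProduct.mk D K (D ⊗[B] M) 1) :=
    (isLocalizedModule_iff_isBaseChange (nonZeroDivisors D) K _).mpr
      (TensorProduct.isBaseChange D (D ⊗[B] M) K)
  obtain ⟨d, hd⟩ := (IsLocalizedModule.eq_zero_iff (nonZeroDivisors D)
    (TensorProduct.mk D K (D ⊗[B] M) 1)).mp h1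
  obtain ⟨s, hs⟩ := hsurjD d.1
  have hd0 : (d : D) ≠ 0 := nonZeroDivisors.ne_zero d.2
  have hker : RingHom.ker (algebraMap B D) = RingHom.ker (algebraMap B K) := by
    ext b
    rw [RingHom.mem_ker, RingHom.mem_ker, IsScalarTower.algebraMap_apply B D K,
      map_eq_zero_iff _ hinjK]
  refine ⟨s, ?_, ?_⟩
  · rw [IsScalarTower.algebraMap_apply B D K, hs]
    exact fun h0 => hd0 ((map_eq_zero_iff _ hinjK).mp h0)
  · rw [← hker]
    apply Groth.Agent.S4594.mem_smul_top_of_tmul_eq_zero hsurjD
    have : (d : D) • ((1 : D) ⊗ₜ[B] m) = 0 := hd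
    rw [← hs, algebraMap_smul, TensorProduct.smul_tmul'] at this
    rwa [TensorProduct.smul_tmul] at this


section Main

open KaehlerDifferential IsLocalRing

variable {B C : Type u} [CommRing B] [CommRing C] [Algebra B C]
  (p : Ideal C) [p.IsPrime]

theorem algebraMap_residueField_eq_zero_iff (b : B) :
    algebraMap B p.ResidueField b = 0 ↔ b ∈ p.comap (algebraMap B C) := by
  rw [IsScalarTower.algebraMap_apply B C p.ResidueField, Ideal.algebraMap_residueField_eq_zero,
    Ideal.mem_comap]

theorem ker_algebraMap_residueField :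
    RingHom.ker (algebraMap B p.ResidueField) = p.comap (algebraMap B C) := by
  ext b
  rw [RingHom.mem_ker, algebraMap_residueField_eq_zero_iff]

theorem ker_le_comap : RingHom.ker (algebraMap B C) ≤ p.comap (algebraMap B C) := by
  intro b hb
  rw [Ideal.mem_comap, RingHom.mem_ker.mp hb]
  exact zero_mem _

/-- The `1 ⊗ [j]` span `κ(p) ⊗ J/J²`. -/
theorem span_tmul_toCotangent_eq_top :
    Submodule.span p.ResidueField (Set.range fun j : RingHom.ker (algebraMap B C) =>
      (1 : p.ResidueField) ⊗ₜ[B] (RingHom.ker (algebraMap B C)).toCotangent j) = ⊤ := by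
  rw [eq_top_iff]
  rintro x -
  induction x using TensorProduct.induction_on with
  | zero => exact zero_mem _
  | add x y hx hy => exact add_mem hx hy
  | tmul c y =>
    obtain ⟨j, rfl⟩ := Ideal.toCotangent_surjective _ y
    have : c ⊗ₜ[B] (RingHom.ker (algebraMap B C)).toCotangent j =
        c • ((1 : p.ResidueField) ⊗ₜ[B] (RingHom.ker (algebraMap B C)).toCotangent j) := by
      rw [TensorProduct.smul_tmul', smul_eq_mul, mul_one]
    rw [this]
    exact Submodule.smul_mem _ _ (Submodule.subset_span ⟨j, rfl⟩)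

/-- If the `f i` generate `J B_q` then the `1 ⊗ [f i]` span `κ(p) ⊗ J/J²`. -/
theorem tmul_mem_span_of_map_le {m : ℕ} (f : Fin m → B)
    (hf : ∀ i, f i ∈ RingHom.ker (algebraMap B C))
    (hle : (RingHom.ker (algebraMap B C)).map
        (algebraMap B (Localization.AtPrime (p.comap (algebraMap B C)))) ≤
      Ideal.span (Set.range fun i =>
        algebraMap B (Localization.AtPrime (p.comap (algebraMap B C))) (f i)))
    (j : RingHom.ker (algebraMap B C)) :
    (1 : p.ResidueField) ⊗ₜ[B] (RingHom.ker (algebraMap B C)).toCotangent j ∈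
      Submodule.span p.ResidueField (Set.range fun i =>
        (1 : p.ResidueField) ⊗ₜ[B] (RingHom.ker (algebraMap B C)).toCotangent ⟨f i, hf i⟩) := by
  set q := p.comap (algebraMap B C) with hq
  set R := Localization.AtPrime q
  have h1 : algebraMap B R j ∈ Ideal.span (algebraMap B R '' (Set.range f)) := by
    rw [← Set.range_comp]
    exact hle (Ideal.mem_map_of_mem _ j.2)
  obtain ⟨y, hy, z, hz⟩ := (IsLocalization.mem_span_map q.primeCompl).mp h1
  rw [IsLocalization.eq_mk'_iff_mul_eq, ← map_mul] at hz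
  obtain ⟨t, ht⟩ := (IsLocalization.eq_iff_exists q.primeCompl R).mp hz
  obtain ⟨b, rfl⟩ := (Ideal.mem_span_range_iff_exists_fun).mp hy
  set s : B := t * z with hs
  have hsq : s ∉ q := fun h => (q.primeCompl.mul_mem t.2 z.2) h
  have hs0 : algebraMap B p.ResidueField s ≠ 0 := fun h =>
    hsq ((algebraMap_residueField_eq_zero_iff p s).mp h)
  have hsum : s • j = ∑ i, (t * b i) • (⟨f i, hf i⟩ : RingHom.ker (algebraMap B C)) := by
    apply Subtype.ext
    rw [Submodule.coe_smul, Submodule.coe_sum, smul_eq_mul]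
    simp only [Submodule.coe_smul, smul_eq_mul]
    rw [hs, mul_assoc, mul_comm (z : B), ht, Finset.mul_sum]
    exact Finset.sum_congr rfl fun i _ => by ring
  have h2 : (algebraMap B p.ResidueField s) •
      ((1 : p.ResidueField) ⊗ₜ[B] (RingHom.ker (algebraMap B C)).toCotangent j) =
      ∑ i, (algebraMap B p.ResidueField (t * b i)) •
        ((1 : p.ResidueField) ⊗ₜ[B] (RingHom.ker (algebraMap B C)).toCotangent ⟨f i, hf i⟩) := by
    simp only [algebraMap_smul, ← TensorProduct.tmul_smul, ← map_smul]
    rw [hsum, map_sum, TensorProduct.tmul_sum]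
  have h3 : (1 : p.ResidueField) ⊗ₜ[B] (RingHom.ker (algebraMap B C)).toCotangent j =
      (algebraMap B p.ResidueField s)⁻¹ • ((algebraMap B p.ResidueField s) •
      ((1 : p.ResidueField) ⊗ₜ[B] (RingHom.ker (algebraMap B C)).toCotangent j)) := by
    rw [smul_smul, inv_mul_cancel₀ hs0, one_smul]
  rw [h3, h2]
  refine Submodule.smul_mem _ _ (Submodule.sum_mem _ fun i _ => ?_)
  exact Submodule.smul_mem _ _ (Submodule.subset_span ⟨i, rfl⟩)


/-- elements of `span_B [f i]` in the cotangent space come from `span (f i)` -/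
theorem exists_of_mem_span_toCotangent {B : Type u} [CommRing B] (J : Ideal B) {m : ℕ}
    (f : Fin m → B) (hf : ∀ i, f i ∈ J) (n : J.Cotangent)
    (hn : n ∈ Submodule.span B (Set.range fun i => J.toCotangent ⟨f i, hf i⟩)) :
    ∃ b ∈ Ideal.span (Set.range f), ∃ hb : b ∈ J, J.toCotangent ⟨b, hb⟩ = n := by
  obtain ⟨c, rfl⟩ := (Submodule.mem_span_range_iff_exists_fun B).mp hn
  refine ⟨∑ i, c i * f i, ?_, ?_, ?_⟩
  · exact Ideal.sum_mem _ fun i _ => Ideal.mul_mem_left _ _ (Ideal.subset_span ⟨i, rfl⟩)
  · exact Ideal.sum_mem _ fun i _ => Ideal.mul_mem_left _ _ (hf i)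
  · have : (⟨∑ i, c i * f i, Ideal.sum_mem _ fun i _ => Ideal.mul_mem_left _ _ (hf i)⟩ : J) =
        ∑ i, c i • (⟨f i, hf i⟩ : J) := by
      apply Subtype.ext
      rw [Submodule.coe_sum]
      simp only [Submodule.coe_smul, smul_eq_mul]
    rw [this, map_sum]
    simp only [map_smul]

/-- elements of `q • ⊤` in the cotangent space come from `q * J` -/
theorem exists_of_mem_smul_top_cotangent {B : Type u} [CommRing B] (J q : Ideal B)
    (n : J.Cotangent) (hn : n ∈ q • (⊤ : Submodule B J.Cotangent)) :
    ∃ y ∈ q * J, ∃ hy : y ∈ J, J.toCotangent ⟨y, hy⟩ = n := by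
  refine Submodule.smul_induction_on hn ?_ ?_
  · intro a ha x _
    obtain ⟨j, rfl⟩ := Ideal.toCotangent_surjective _ x
    refine ⟨a * j, Ideal.mul_mem_mul ha j.2, Ideal.mul_mem_left _ _ j.2, ?_⟩
    rw [← map_smul]
    rfl
  · rintro x y ⟨a, ha, haJ, rfl⟩ ⟨b, hb, hbJ, rfl⟩
    refine ⟨a + b, add_mem ha hb, add_mem haJ hbJ, ?_⟩
    rw [← map_add]
    rfl

/-- Nakayama: if the `1 ⊗ [f i]` span `κ(p) ⊗ J/J²` then the `f i` generate `J B_q`. -/
theorem map_le_span_of_tmul_mem_span [IsNoetherianRing B]
    (hsurj : Function.Surjective (algebraMap B C)) {m : ℕ} (f : Fin m → B)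
    (hf : ∀ i, f i ∈ RingHom.ker (algebraMap B C))
    (hspan : ∀ j : RingHom.ker (algebraMap B C),
      (1 : p.ResidueField) ⊗ₜ[B] (RingHom.ker (algebraMap B C)).toCotangent j ∈
      Submodule.span p.ResidueField (Set.range fun i =>
        (1 : p.ResidueField) ⊗ₜ[B] (RingHom.ker (algebraMap B C)).toCotangent ⟨f i, hf i⟩)) :
    (RingHom.ker (algebraMap B C)).map
        (algebraMap B (Localization.AtPrime (p.comap (algebraMap B C)))) ≤
      Ideal.span (Set.range fun i =>
        algebraMap B (Localization.AtPrime (p.comap (algebraMap B C))) (f i)) := by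
  set J := RingHom.ker (algebraMap B C) with hJ
  set q := p.comap (algebraMap B C) with hq
  set R := Localization.AtPrime q
  set I := J.map (algebraMap B R) with hI
  set I' := Ideal.span (Set.range fun i => algebraMap B R (f i)) with hI'
  have hJq : J ≤ q := ker_le_comap p
  have hqm : q.map (algebraMap B R) = maximalIdeal R := Localization.AtPrime.map_eq_maximalIdeal
  have hIm : I ≤ maximalIdeal R := by
    rw [← hqm]; exact Ideal.map_mono hJq
  have hI'map : I' = (Ideal.span (Set.range f)).map (algebraMap B R) := by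
    rw [Ideal.map_span, ← Set.range_comp]; rfl
  refine Submodule.le_of_le_smul_of_le_jacobson_bot (I := maximalIdeal R) (N := I') (N' := I)
    (IsNoetherian.noetherian I) (maximalIdeal_le_jacobson ⊥) ?_
  rw [hI, Ideal.map_le_iff_le_comap]
  intro j hj
  rw [Ideal.mem_comap]
  set M := J.Cotangent
  set N₀ : Submodule B M := Submodule.span B (Set.range fun i => J.toCotangent ⟨f i, hf i⟩) with hN₀
  have hx : (1 : p.ResidueField) ⊗ₜ[B] (N₀.mkQ (J.toCotangent ⟨j, hj⟩)) = 0 := by
    have hmem := hspan ⟨j, hj⟩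
    have hle : Submodule.span p.ResidueField (Set.range fun i =>
        (1 : p.ResidueField) ⊗ₜ[B] J.toCotangent ⟨f i, hf i⟩) ≤
        LinearMap.ker (N₀.mkQ.baseChange p.ResidueField) := by
      rw [Submodule.span_le]
      rintro _ ⟨i, rfl⟩
      rw [SetLike.mem_coe, LinearMap.mem_ker, LinearMap.baseChange_tmul]
      have : N₀.mkQ (J.toCotangent ⟨f i, hf i⟩) = 0 := by
        rw [Submodule.mkQ_apply, Submodule.Quotient.mk_eq_zero]
        exact Submodule.subset_span ⟨i, rfl⟩
      rw [this, TensorProduct.tmul_zero]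
    have := hle hmem
    rwa [LinearMap.mem_ker, LinearMap.baseChange_tmul] at this
  obtain ⟨s, hs0, hsm⟩ := exists_smul_mem_of_tmul_eq_zero hsurj p _ hx
  rw [ker_algebraMap_residueField] at hsm
  have hsq : s ∉ q := fun h => hs0 ((algebraMap_residueField_eq_zero_iff p s).mpr h)
  have h2 : s • J.toCotangent ⟨j, hj⟩ ∈ N₀ ⊔ q • (⊤ : Submodule B M) := by
    have h3 : N₀.mkQ (s • J.toCotangent ⟨j, hj⟩) ∈ Submodule.map N₀.mkQ (q • ⊤) := by
      rw [Submodule.map_smul'', Submodule.map_top, Submodule.range_mkQ, map_smul]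
      exact hsm
    obtain ⟨y, hy, hyeq⟩ := h3
    have h4 : s • J.toCotangent ⟨j, hj⟩ - y ∈ N₀ := by
      rw [← Submodule.Quotient.mk_eq_zero, Submodule.Quotient.mk_sub, sub_eq_zero]
      exact hyeq.symm
    have h5 : s • J.toCotangent ⟨j, hj⟩ = (s • J.toCotangent ⟨j, hj⟩ - y) + y := by abel
    rw [h5]
    exact Submodule.add_mem_sup h4 hy
  obtain ⟨n₀, hn₀, n₁, hn₁, hsum⟩ := Submodule.mem_sup.mp h2
  obtain ⟨b, hb, hbJ, rfl⟩ := exists_of_mem_span_toCotangent J f hf n₀ hn₀
  obtain ⟨y, hy, hyJ, rfl⟩ := exists_of_mem_smul_top_cotangent J q n₁ hn₁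
  have h6 : J.toCotangent ⟨b + y, add_mem hbJ hyJ⟩ = J.toCotangent ⟨s * j, J.mul_mem_left s hj⟩ := by
    have e1 : (⟨b + y, add_mem hbJ hyJ⟩ : J) = ⟨b, hbJ⟩ + ⟨y, hyJ⟩ := rfl
    have e2 : (⟨s * j, J.mul_mem_left s hj⟩ : J) = s • ⟨j, hj⟩ := rfl
    rw [e1, e2, map_add, map_smul, hsum]
  rw [Ideal.toCotangent_eq] at h6
  -- `b + y - s * j ∈ J ^ 2`
  have hu : IsUnit (algebraMap B R s) := IsLocalization.map_units R (⟨s, hsq⟩ : q.primeCompl)
  have h7 : algebraMap B R (s * j) ∈ I' ⊔ maximalIdeal R • I := by
    have hz : algebraMap B R (b + y - s * j) ∈ maximalIdeal R • I := by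
      have : algebraMap B R (b + y - s * j) ∈ (J ^ 2).map (algebraMap B R) :=
        Ideal.mem_map_of_mem _ h6
      rw [Ideal.map_pow, pow_two] at this
      rw [smul_eq_mul]
      exact Ideal.mul_mono_left hIm this
    have hy' : algebraMap B R y ∈ maximalIdeal R • I := by
      have : algebraMap B R y ∈ (q * J).map (algebraMap B R) := Ideal.mem_map_of_mem _ hy
      rw [Ideal.map_mul, hqm] at this
      rw [smul_eq_mul]
      exact this
    have hb' : algebraMap B R b ∈ I' := by
      rw [hI'map]; exact Ideal.mem_map_of_mem _ hb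
    have e : algebraMap B R (s * j) =
        algebraMap B R b + (algebraMap B R y - algebraMap B R (b + y - s * j)) := by
      simp only [map_add, map_sub, map_mul]; ring
    rw [e]
    exact Submodule.add_mem_sup hb' (sub_mem hy' hz)
  rw [map_mul] at h7
  have := Ideal.mul_mem_left _ (hu.unit⁻¹ : Rˣ).1 h7
  rwa [← mul_assoc, IsUnit.val_inv_mul, one_mul] at this

end Main


section Criterion

open KaehlerDifferential IsLocalRing

/-- From a family of vectors of `K^m` separating the coefficient vectors one can extract an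
invertible square matrix. -/
theorem exists_det_ne_zero {K : Type*} [Field K] {m : ℕ} {X : Type*} (a : X → Fin m → K)
    (h : ∀ c : Fin m → K, (∀ x, ∑ i, c i * a x i = 0) → c = 0) :
    ∃ x : Fin m → X, Matrix.det (Matrix.of fun i j => a (x j) i) ≠ 0 := by
  classical
  have hspan : Submodule.span K (Set.range a) = ⊤ := by
    by_contra hne
    obtain ⟨φ, hφ0, hφ⟩ := Submodule.exists_le_ker_of_lt_top _ (lt_top_iff_ne_top.mpr hne)
    apply hφ0
    have hc : (fun i => φ (Pi.single i 1)) = 0 := by
      apply h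
      intro x
      have hx : φ (a x) = 0 := hφ (Submodule.subset_span ⟨x, rfl⟩)
      rw [LinearMap.pi_apply_eq_sum_univ φ (a x)] at hx
      rw [← hx]
      refine Finset.sum_congr rfl fun i _ => ?_
      rw [smul_eq_mul, mul_comm]
      congr 2
      ext j
      simp [Pi.single_apply, eq_comm]
    ext v
    simpa using congrFun hc v
  obtain ⟨κ', a', ha', hsp, hli⟩ := exists_linearIndependent' K a
  rw [hspan] at hsp
  let b : Module.Basis κ' K (Fin m → K) := Module.Basis.mk hli (by rw [hsp])
  let e : Fin m ≃ κ' := (Pi.basisFun K (Fin m)).indexEquiv b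
  refine ⟨fun j => a' (e j), ?_⟩
  have hli2 : LinearIndependent K (fun j : Fin m => a (a' (e j))) :=
    hli.comp e e.injective
  have hU : IsUnit (Matrix.of fun j i => a (a' (e j)) i) :=
    Matrix.linearIndependent_rows_iff_isUnit.mp hli2
  have hdet := (Matrix.isUnit_iff_isUnit_det _).mp hU
  have : (Matrix.of fun i j => a (a' (e j)) i) = (Matrix.of fun j i => a (a' (e j)) i).transpose := by
    ext i j
    rfl
  rw [this, Matrix.det_transpose]
  exact hdet.ne_zero


variable {k₀ B C : Type u} [CommRing k₀] [CommRing B] [CommRing C] [Algebra k₀ B] [Algebra B C]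
  [Algebra k₀ C] [IsScalarTower k₀ B C] (p : Ideal C) [p.IsPrime]

/-- functional on `κ ⊗ (C ⊗ Ω)` attached to a derivation -/
noncomputable def phi (D : Derivation k₀ B B) :
    p.ResidueField ⊗[B] (C ⊗[B] Ω[B⁄k₀]) →ₗ[p.ResidueField] p.ResidueField :=
  LinearMap.liftBaseChange p.ResidueField
    (((Algebra.linearMap C p.ResidueField).restrictScalars B) ∘ₗ
      (TensorProduct.rid B C).toLinearMap ∘ₗ (D.liftKaehlerDifferential.lTensor C))

theorem phi_tmul (D : Derivation k₀ B B) (b : B) :
    phi p D ((1 : p.ResidueField) ⊗ₜ[B] ((1 : C) ⊗ₜ[B] KaehlerDifferential.D k₀ B b)) =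
      algebraMap B p.ResidueField (D b) := by
  simp [phi, Algebra.algebraMap_eq_smul_one]


/-- **Jacobian determinant criterion** for the injectivity of `κ(p) ⊗ J/J² → κ(p) ⊗ (C ⊗ Ω_{B/k₀})`
when `Ω_{B/k₀}` is projective and `B` is Noetherian. -/
theorem injective_lTensor_iff_exists_det [IsNoetherianRing B] [Module.Projective B Ω[B⁄k₀]]
    (hsurj : Function.Surjective (algebraMap B C)) (J q : Ideal B) [q.IsPrime]
    (hJ : RingHom.ker (algebraMap B C) = J) (hq : p.comap (algebraMap B C) = q) :
    Function.Injective ((kerCotangentToTensor k₀ B C).lTensor p.ResidueField) ↔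
      ∃ (m : ℕ) (f : Fin m → B) (D : Fin m → Derivation k₀ B B),
        (∀ i, f i ∈ J) ∧
        J.map (algebraMap B (Localization.AtPrime q)) =
          Ideal.span (Set.range fun i => algebraMap B (Localization.AtPrime q) (f i)) ∧
        Matrix.det (Matrix.of fun i j => D j (f i)) ∉ q := by
  subst hJ
  subst hq
  have hbc : ⇑((kerCotangentToTensor k₀ B C).lTensor p.ResidueField) =
      ⇑((kerCotangentToTensor k₀ B C).baseChange p.ResidueField) :=
    (LinearMap.baseChange_eq_ltensor _).symm
  rw [hbc]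
  constructor
  · intro hinj
    -- choose a basis of `κ ⊗ J/J²` among the `1 ⊗ [j]`
    obtain ⟨κ', a', -, hsp, hli⟩ := exists_linearIndependent' p.ResidueField
      (fun j : RingHom.ker (algebraMap B C) =>
        (1 : p.ResidueField) ⊗ₜ[B] (RingHom.ker (algebraMap B C)).toCotangent j)
    rw [span_tmul_toCotangent_eq_top] at hsp
    haveI : Module.Finite B (RingHom.ker (algebraMap B C)).Cotangent :=
      Module.Finite.of_surjective (Ideal.toCotangent _) (Ideal.toCotangent_surjective _)
    haveI : Finite κ' := hli.finite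
    let e := Finite.equivFin κ'
    let m := Nat.card κ'
    let f : Fin m → B := fun i => (a' (e.symm i)).1
    have hf : ∀ i, f i ∈ RingHom.ker (algebraMap B C) := fun i => (a' (e.symm i)).2
    have hli2 : LinearIndependent p.ResidueField (fun i : Fin m =>
        (1 : p.ResidueField) ⊗ₜ[B] (RingHom.ker (algebraMap B C)).toCotangent ⟨f i, hf i⟩) :=
      hli.comp e.symm e.symm.injective
    have hsp2 : Submodule.span p.ResidueField (Set.range fun i : Fin m =>
        (1 : p.ResidueField) ⊗ₜ[B] (RingHom.ker (algebraMap B C)).toCotangent ⟨f i, hf i⟩) = ⊤ := by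
      rw [← hsp]
      congr 1
      ext x
      constructor
      · rintro ⟨i, rfl⟩
        exact ⟨e.symm i, rfl⟩
      · rintro ⟨k, rfl⟩
        exact ⟨e k, by simp [f]⟩
    refine ⟨m, f, ?_⟩
    -- generation
    have hgen : (RingHom.ker (algebraMap B C)).map
        (algebraMap B (Localization.AtPrime (p.comap (algebraMap B C)))) =
        Ideal.span (Set.range fun i =>
          algebraMap B (Localization.AtPrime (p.comap (algebraMap B C))) (f i)) := by
      apply le_antisymm
      · exact map_le_span_of_tmul_mem_span p hsurj f hf (fun j => by rw [hsp2]; trivial)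
      · rw [Ideal.span_le]
        rintro _ ⟨i, rfl⟩
        exact Ideal.mem_map_of_mem _ (hf i)
    -- the images of the basis are independent
    have hli3 : LinearIndependent p.ResidueField (fun i : Fin m =>
        (1 : p.ResidueField) ⊗ₜ[B] ((1 : C) ⊗ₜ[B] KaehlerDifferential.D k₀ B (f i))) := by
      have := hli2.map' ((kerCotangentToTensor k₀ B C).baseChange p.ResidueField)
        (LinearMap.ker_eq_bot.mpr hinj)
      have hfun : (fun i : Fin m => (1 : p.ResidueField) ⊗ₜ[B]
          ((1 : C) ⊗ₜ[B] KaehlerDifferential.D k₀ B (f i))) =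
          ⇑((kerCotangentToTensor k₀ B C).baseChange p.ResidueField) ∘ (fun i : Fin m =>
            (1 : p.ResidueField) ⊗ₜ[B]
              (RingHom.ker (algebraMap B C)).toCotangent ⟨f i, hf i⟩) := by
        funext i
        simp only [Function.comp_apply, LinearMap.baseChange_tmul,
          KaehlerDifferential.kerCotangentToTensor_toCotangent]
      rw [hfun]
      exact this
    -- projectivity of `Ω`
    obtain ⟨s, hs⟩ := Module.projective_def'.mp (inferInstance : Module.Projective B Ω[B⁄k₀])
    let Dx : Ω[B⁄k₀] → Derivation k₀ B B := fun x =>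
      ((Finsupp.lapply x) ∘ₗ s).compDer (KaehlerDifferential.D k₀ B)
    have hDx : ∀ x b, Dx x b = s (KaehlerDifferential.D k₀ B b) x := fun x b => rfl
    let Γ : (Ω[B⁄k₀] →₀ p.ResidueField) →ₗ[p.ResidueField]
        p.ResidueField ⊗[B] (C ⊗[B] Ω[B⁄k₀]) :=
      Finsupp.linearCombination p.ResidueField
        (fun x => (1 : p.ResidueField) ⊗ₜ[B] ((1 : C) ⊗ₜ[B] x))
    have hΓ : ∀ t : Ω[B⁄k₀] →₀ B,
        Γ (Finsupp.mapRange (algebraMap B p.ResidueField) (map_zero _) t) =
          (1 : p.ResidueField) ⊗ₜ[B] ((1 : C) ⊗ₜ[B] (Finsupp.linearCombination B id t)) := by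
      intro t
      induction t using Finsupp.induction_linear with
      | zero => simp
      | add t₁ t₂ h₁ h₂ =>
        rw [Finsupp.mapRange_add (by intro a b; exact map_add _ a b), map_add, h₁, h₂, map_add,
          TensorProduct.tmul_add, TensorProduct.tmul_add]
      | single x b =>
        simp only [Finsupp.mapRange_single, Γ, Finsupp.linearCombination_single, id_eq]
        rw [algebraMap_smul, ← TensorProduct.tmul_smul, ← TensorProduct.tmul_smul]
    have hcoef : ∀ c : Fin m → p.ResidueField,
        (∀ x, ∑ i, c i * algebraMap B p.ResidueField (Dx x (f i)) = 0) → c = 0 := by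
      intro c hc
      have hsum : ∑ i, c i • ((1 : p.ResidueField) ⊗ₜ[B]
          ((1 : C) ⊗ₜ[B] KaehlerDifferential.D k₀ B (f i))) = 0 := by
        have h1 : ∀ i, (1 : p.ResidueField) ⊗ₜ[B] ((1 : C) ⊗ₜ[B] KaehlerDifferential.D k₀ B (f i)) =
            Γ (Finsupp.mapRange (algebraMap B p.ResidueField) (map_zero _)
              (s (KaehlerDifferential.D k₀ B (f i)))) := by
          intro i
          rw [hΓ]
          have := congrArg (fun g => g (KaehlerDifferential.D k₀ B (f i))) hs
          simp only [LinearMap.comp_apply, LinearMap.id_apply] at this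
          rw [this]
        simp_rw [h1, ← map_smul, ← map_sum]
        convert map_zero Γ
        ext x
        simp only [Finsupp.coe_finsetSum, Finset.sum_apply, Finsupp.coe_smul, Pi.smul_apply,
          Finsupp.mapRange_apply, smul_eq_mul, Finsupp.coe_zero, Pi.zero_apply]
        exact hc x
      exact funext fun i => (Fintype.linearIndependent_iff.mp hli3 c hsum i)
    obtain ⟨x, hx⟩ := exists_det_ne_zero
      (fun (x : Ω[B⁄k₀]) (i : Fin m) => algebraMap B p.ResidueField (Dx x (f i))) hcoef
    refine ⟨fun j => Dx (x j), hf, hgen, ?_⟩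
    intro hmem
    apply hx
    have := (algebraMap_residueField_eq_zero_iff p _).mpr hmem
    rw [RingHom.map_det] at this
    exact this
  · rintro ⟨m, f, D, hf, hgen, hdet⟩
    rw [injective_iff_map_eq_zero]
    intro x hx
    have hxspan : x ∈ Submodule.span p.ResidueField (Set.range fun i =>
        (1 : p.ResidueField) ⊗ₜ[B] (RingHom.ker (algebraMap B C)).toCotangent ⟨f i, hf i⟩) := by
      have : Submodule.span p.ResidueField (Set.range fun i =>
          (1 : p.ResidueField) ⊗ₜ[B] (RingHom.ker (algebraMap B C)).toCotangent ⟨f i, hf i⟩) = ⊤ := by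
        rw [eq_top_iff, ← span_tmul_toCotangent_eq_top p, Submodule.span_le]
        rintro _ ⟨j, rfl⟩
        exact tmul_mem_span_of_map_le p f hf hgen.le j
      rw [this]; trivial
    obtain ⟨c, rfl⟩ := (Submodule.mem_span_range_iff_exists_fun p.ResidueField).mp hxspan
    have hc : c = 0 := by
      let A : Matrix (Fin m) (Fin m) p.ResidueField :=
        Matrix.of fun i j => algebraMap B p.ResidueField (D j (f i))
      have hA : A.det ≠ 0 := by
        have : A = (algebraMap B p.ResidueField).mapMatrix (Matrix.of fun i j => D j (f i)) := by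
          ext; rfl
        rw [this, ← RingHom.map_det]
        exact fun h => hdet ((algebraMap_residueField_eq_zero_iff p _).mp h)
      apply Matrix.eq_zero_of_vecMul_eq_zero hA
      ext j
      have := congrArg (phi p (D j)) hx
      simp only [map_sum, map_smul, LinearMap.baseChange_tmul,
        KaehlerDifferential.kerCotangentToTensor_toCotangent, phi_tmul, map_zero,
        smul_eq_mul] at this
      simpa [Matrix.vecMul, dotProduct, A] using this
    simp [hc]

end Criterion

end Groth.Agent.Lib.Helper31.JacDet
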