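import Groth.Agent.S2463

/-!
# Consequences of the Jacobian criterion S2463

`B` formally smooth over `A`, `C = B/J` with `J/J²` finite. For a submonoid `S` of `C`,
`C_S` is formally smooth over `A` iff the conormal map `J/J² → C ⊗ Ω_{B/A}` is left invertible
up to an element of `S`.
-/

set_option autoImplicit false
universe u

namespace Groth.Agent.Lib.Helper31.Jacobian

open Groth.Agent.Lib.Helper31.LeftInv Groth.Agent.S2463

variable {A B C : Type u} [CommRing A] [CommRing B] [CommRing C] [Algebra A B] [Algebra B C]
  [Algebra A C] [IsScalarTower A B C]

/-- The extension `B → C` attached to a surjective algebra map. -/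
noncomputable abbrev ext (hsurj : Function.Surjective (algebraMap B C)) : Algebra.Extension.{u} A C :=
  ⟨B, _, Function.surjInv_eq hsurj⟩

variable [Algebra.FormallySmooth A B] (hsurj : Function.Surjective (algebraMap B C))
  [Module.Finite B (RingHom.ker (algebraMap B C)).Cotangent]

include hsurj in
theorem formallySmooth_localization_iff_LI (S : Submonoid C) :
    Algebra.FormallySmooth A (Localization S) ↔ LI S (ext (A := A) hsurj).cotangentComplex := by
  let P' : Algebra.Extension.{u} A C := ext hsurj
  haveI : Algebra.FormallySmooth A P'.Ring := ‹_›
  haveI : Module.Finite B P'.Cotangent :=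
    Module.Finite.equiv P'.cotangentEquivCotangentKer.symm
  haveI : Module.Finite C P'.Cotangent := Module.Finite.of_restrictScalars_finite B C _
  haveI : Module.Projective C P'.CotangentSpace := inferInstance
  exact (formallySmooth_localization_iff P' S).trans form_iff_LI

include hsurj in
/-- Formal smoothness of localizations of `C = B/J` passes to further localizations. -/
theorem formallySmooth_localization_mono {S T : Submonoid C} (hST : S ≤ T)
    (h : Algebra.FormallySmooth A (Localization S)) : Algebra.FormallySmooth A (Localization T) :=
  (formallySmooth_localization_iff_LI hsurj T).mpr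
    (LI.mono hST ((formallySmooth_localization_iff_LI hsurj S).mp h))

end Groth.Agent.Lib.Helper31.Jacobian
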