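import Mathlib.Algebra.Module.Projective
import Mathlib.Algebra.Module.LocalizedModule.Basic
import Mathlib.RingTheory.Localization.Module
import Mathlib.RingTheory.Finiteness.Defs
import Mathlib.LinearAlgebra.Basis.Basic
import Mathlib.LinearAlgebra.Finsupp.Supported
import Mathlib.RingTheory.Localization.BaseChange
import Mathlib.RingTheory.LocalRing.ResidueField.Ideal
import Mathlib.RingTheory.LocalRing.Module
import Mathlib.LinearAlgebra.TensorProduct.Tower
import Mathlib.RingTheory.Localization.Finiteness
import Mathlib.Algebra.Module.LocalizedModule.Exact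
import Mathlib.Algebra.Exact.Basic
import Mathlib.RingTheory.LocalProperties.Projective

/-!
# Left invertibility of localized maps (EGA 0_IV 19.1.12–19.1.14)

For `u : M → N` with `M` of finite type and `N` projective, `u_S` is left invertible iff there are
`f ∈ S` and `w₁ : N → M` with `w₁ ∘ u = f • id`.
-/

set_option autoImplicit false
universe u

namespace Groth.Agent.Lib.Helper31.LeftInv

variable {A : Type u} [CommRing A] {M N P : Type u} [AddCommGroup M] [Module A M]
  [AddCommGroup N] [Module A N] [AddCommGroup P] [Module A P]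

/-- `u` is left invertible up to an element of `S`. -/
def LI (S : Submonoid A) (u : M →ₗ[A] N) : Prop :=
  ∃ f ∈ S, ∃ w₁ : N →ₗ[A] M, w₁ ∘ₗ u = f • LinearMap.id

/-- The localized map `u_S` has an (`A`-linear) left inverse. -/
def Form (S : Submonoid A) (u : M →ₗ[A] N) : Prop :=
  ∃ w : LocalizedModule S N →ₗ[A] LocalizedModule S M,
    w ∘ₗ (LocalizedModule.map S u).restrictScalars A = LinearMap.id

theorem form_of_LI {S : Submonoid A} {u : M →ₗ[A] N} : LI S u → Form S u := by
  rintro ⟨f, hf, w₁, hw⟩
  refine ⟨(LocalizedModule.divBy ⟨f, hf⟩) ∘ₗ (LocalizedModule.map S w₁).restrictScalars A, ?_⟩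
  ext x
  induction x using LocalizedModule.induction_on with | _ m s
  have h1 : w₁ (u m) = f • m := congr($hw m)
  simp only [LinearMap.coe_comp, LinearMap.coe_restrictScalars, Function.comp_apply,
    LocalizedModule.map_mk, h1, LocalizedModule.divBy_apply, LocalizedModule.liftOn_mk,
    LinearMap.id_coe, id_eq]
  exact LocalizedModule.mk_cancel_common_right s ⟨f, hf⟩ m

theorem LI.of_comp {S : Submonoid A} {u : M →ₗ[A] N} (α : N →ₗ[A] P) :
    LI S (α ∘ₗ u) → LI S u := by
  rintro ⟨f, hf, w₁, hw⟩
  exact ⟨f, hf, w₁ ∘ₗ α, by rw [LinearMap.comp_assoc, hw]⟩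

theorem LI.of_eq_comp {S : Submonoid A} {u : M →ₗ[A] N} {u₁ : M →ₗ[A] P} (β : P →ₗ[A] N)
    (h : u = β ∘ₗ u₁) : LI S u → LI S u₁ := by
  rintro ⟨f, hf, w₁, hw⟩
  exact ⟨f, hf, w₁ ∘ₗ β, by rw [LinearMap.comp_assoc, ← h, hw]⟩

theorem LI.mono {S T : Submonoid A} (hST : S ≤ T) {u : M →ₗ[A] N} : LI S u → LI T u := by
  rintro ⟨f, hf, w₁, hw⟩
  exact ⟨f, hST hf, w₁, hw⟩

theorem Form.comp_left {S : Submonoid A} {u : M →ₗ[A] N} (α : N →ₗ[A] P) (β : P →ₗ[A] N)
    (h : u = β ∘ₗ (α ∘ₗ u)) : Form S u → Form S (α ∘ₗ u) := by
  rintro ⟨w, hw⟩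
  refine ⟨w ∘ₗ (LocalizedModule.map S β).restrictScalars A, ?_⟩
  rw [← hw]
  conv_rhs => rw [h]
  ext x
  induction x using LocalizedModule.induction_on with | _ m s
  simp

/-- Core computation: for a free module `P` with finite basis and `M` of finite type, left
invertibility of `u_S` gives `w₁ ∘ u = f • id` with `f ∈ S`. -/
theorem LI_of_form_of_basis {ι : Type*} [Fintype ι] (b : Module.Basis ι A P)
    [Module.Finite A M] {S : Submonoid A} {u : M →ₗ[A] P} : Form S u → LI S u := by
  classical
  rintro ⟨w, hw⟩
  -- numerators and denominators of the images of the basis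
  have hex : ∀ j, ∃ ms : M × S, w (LocalizedModule.mk (b j) 1) = LocalizedModule.mk ms.1 ms.2 := by
    intro j
    induction hx : w (LocalizedModule.mk (b j) 1) using LocalizedModule.induction_on with | _ m s
    exact ⟨(m, s), rfl⟩
  choose ms hms using hex
  let c : ι → S := fun j => ∏ j' ∈ Finset.univ.erase j, (ms j').2
  let s₀ : S := ∏ j, (ms j).2
  have hc : ∀ j, c j * (ms j).2 = s₀ := fun j =>
    Finset.prod_erase_mul Finset.univ (fun j => (ms j).2) (Finset.mem_univ j)
  let w₀ : P →ₗ[A] M := b.constr A (fun j => (c j : A) • (ms j).1)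
  have h1 : (LocalizedModule.mkLinearMap S M) ∘ₗ w₀ =
      (s₀ : A) • (w ∘ₗ LocalizedModule.mkLinearMap S P) := by
    refine b.ext fun j => ?_
    simp only [LinearMap.coe_comp, Function.comp_apply, LocalizedModule.mkLinearMap_apply,
      LinearMap.smul_apply, w₀, Module.Basis.constr_basis, hms]
    rw [← hc j, LocalizedModule.smul'_mk, LocalizedModule.mk_eq]
    refine ⟨1, ?_⟩
    simp only [one_smul, Submonoid.smul_def, Submonoid.coe_mul, Submonoid.coe_one, mul_smul]
    rw [smul_comm]
  have h2 : ∀ x : M, LocalizedModule.mk (w₀ (u x)) (1 : S) = LocalizedModule.mk ((s₀ : A) • x) 1 := by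
    intro x
    have h3 := congr($h1 (u x))
    have h4 := congr($hw (LocalizedModule.mk x 1))
    simp only [LinearMap.coe_comp, Function.comp_apply, LocalizedModule.mkLinearMap_apply,
      LinearMap.smul_apply, LinearMap.coe_restrictScalars, LocalizedModule.map_mk,
      LinearMap.id_coe, id_eq] at h3 h4
    rw [h3, h4, LocalizedModule.smul'_mk]
  have h5 : ∀ x : M, ∃ t : S, (t : A) • w₀ (u x) = (t : A) • (s₀ : A) • x := by
    intro x
    obtain ⟨t, ht⟩ := LocalizedModule.mk_eq.mp (h2 x)
    exact ⟨t, by simpa [Submonoid.smul_def] using ht⟩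
  choose t ht using h5
  obtain ⟨G, hG⟩ := (Module.Finite.fg_top : (⊤ : Submodule A M).FG)
  let T : S := ∏ g ∈ G, t g
  refine ⟨(T : A) * (s₀ : A), (T * s₀).2, (T : A) • w₀, ?_⟩
  apply LinearMap.ext_on hG
  intro g hg
  have hT : (T : A) = (∏ g' ∈ G.erase g, (t g' : A)) * (t g : A) := by
    simp only [T, Submonoid.coe_finsetProd]
    exact (Finset.prod_erase_mul G (fun g => (t g : A)) hg).symm
  simp only [LinearMap.coe_comp, Function.comp_apply, LinearMap.smul_apply, LinearMap.id_coe, id_eq]
  rw [mul_smul, hT, mul_smul, ht g, mul_smul]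

/-- Reduction to a finite free target: a map from a module of finite type to a projective module
factors through a finite free module, up to a split injection. -/
theorem exists_finite_free_factor [Module.Finite A M] [Module.Projective A N] (u : M →ₗ[A] N) :
    ∃ (T : Finset N) (α : N →ₗ[A] ((T : Set N) →₀ A)) (β : ((T : Set N) →₀ A) →ₗ[A] N),
      u = β ∘ₗ (α ∘ₗ u) := by
  classical
  obtain ⟨s, hs⟩ := Module.projective_def'.mp (inferInstance : Module.Projective A N)
  obtain ⟨G, hG⟩ := (Module.Finite.fg_top : (⊤ : Submodule A M).FG)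
  let T : Finset N := G.biUnion (fun g => (s (u g)).support)
  have hsupp : ∀ x : M, s (u x) ∈ Finsupp.supported A A (T : Set N) := by
    intro x
    have hx : x ∈ Submodule.span A (G : Set M) := by rw [hG]; trivial
    induction hx using Submodule.span_induction with
    | mem g hg =>
      rw [Finsupp.mem_supported]
      intro n hn
      exact Finset.mem_biUnion.mpr ⟨g, hg, hn⟩
    | zero => simp
    | add x y _ _ hx hy => rw [map_add, map_add]; exact Submodule.add_mem _ hx hy
    | smul a x _ hx => rw [map_smul, map_smul]; exact Submodule.smul_mem _ a hx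
  refine ⟨T, (Finsupp.supportedEquivFinsupp (T : Set N)).toLinearMap ∘ₗ
      Finsupp.restrictDom A A (T : Set N) ∘ₗ s,
    Finsupp.linearCombination A id ∘ₗ (Finsupp.supported A A (T : Set N)).subtype ∘ₗ
      (Finsupp.supportedEquivFinsupp (T : Set N)).symm.toLinearMap, ?_⟩
  ext x
  simp only [LinearMap.coe_comp, LinearEquiv.coe_coe, Function.comp_apply,
    LinearEquiv.symm_apply_apply, Submodule.coe_subtype, Finsupp.restrictDom_apply]
  rw [(Finsupp.filter_eq_self_iff _ _).mpr]
  · exact congr($hs (u x)).symm
  · intro n hn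
    exact (Finsupp.mem_supported A _).mp (hsupp x) (Finsupp.mem_support_iff.mpr hn)

/-- `u_S` left invertible implies `w₁ ∘ u = f • id` for some `f ∈ S`, for `M` of finite type and `N`
projective. -/
theorem LI_of_form [Module.Finite A M] [Module.Projective A N] {S : Submonoid A} {u : M →ₗ[A] N}
    (h : Form S u) : LI S u := by
  obtain ⟨T, α, β, hαβ⟩ := exists_finite_free_factor u
  exact LI.of_comp α (LI_of_form_of_basis (Finsupp.basisSingleOne) (Form.comp_left α β hαβ h))

theorem form_iff_LI [Module.Finite A M] [Module.Projective A N] {S : Submonoid A} {u : M →ₗ[A] N} :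
    Form S u ↔ LI S u := ⟨LI_of_form, form_of_LI⟩

/-- Local-global principle (EGA 0_IV 19.1.14 (i)): `u` is left invertible as soon as all its
localizations at maximal ideals are. -/
theorem exists_leftInverse_of_forall_maximal [Module.Finite A M] [Module.Projective A N]
    (u : M →ₗ[A] N) (h : ∀ (m : Ideal A) [m.IsMaximal], Form m.primeCompl u) :
    ∃ w : N →ₗ[A] M, w ∘ₗ u = LinearMap.id := by
  let I : Ideal A :=
    { carrier := {a | ∃ w : N →ₗ[A] M, w ∘ₗ u = a • LinearMap.id}
      add_mem' := by
        rintro a b ⟨w, hw⟩ ⟨w', hw'⟩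
        exact ⟨w + w', by rw [LinearMap.add_comp, hw, hw', add_smul]⟩
      zero_mem' := ⟨0, by simp⟩
      smul_mem' := by
        rintro c a ⟨w, hw⟩
        exact ⟨c • w, by rw [LinearMap.smul_comp, hw, smul_eq_mul, mul_smul]⟩ }
  have hI : I = ⊤ := by
    by_contra hne
    obtain ⟨m, hm, hIm⟩ := Ideal.exists_le_maximal I hne
    obtain ⟨f, hf, w₁, hw⟩ := LI_of_form (h m)
    exact hf (hIm ⟨w₁, hw⟩)
  have h1 : (1 : A) ∈ I := by rw [hI]; trivial
  obtain ⟨w, hw⟩ := h1
  exact ⟨w, by rw [hw, one_smul]⟩

/-- A quotient `Q` of a projective module `N` by a submodule of finite type is projective as soon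
as all its localizations at maximal ideals are (no finite presentation hypothesis on `Q`). -/
theorem projective_of_surjective_of_forall_maximal {Q : Type u} [AddCommGroup Q] [Module A Q]
    [Module.Projective A N] (π : N →ₗ[A] Q) (hπ : Function.Surjective π)
    [Module.Finite A (LinearMap.ker π)]
    (h : ∀ (m : Ideal A) [m.IsMaximal],
      Module.Projective (Localization.AtPrime m) (LocalizedModule m.primeCompl Q)) :
    Module.Projective A Q := by
  have hex : Function.Exact (LinearMap.ker π).subtype π := LinearMap.exact_subtype_ker_map π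
  have hloc : ∀ (m : Ideal A) [m.IsMaximal], Form m.primeCompl (LinearMap.ker π).subtype := by
    intro m _
    have := h m
    have hex' := LocalizedModule.map_exact m.primeCompl _ _ hex
    have hinj : Function.Injective (IsLocalizedModule.map m.primeCompl
        (LocalizedModule.mkLinearMap m.primeCompl _) (LocalizedModule.mkLinearMap m.primeCompl _)
        (LinearMap.ker π).subtype) :=
      LocalizedModule.map_injective m.primeCompl _
        (Submodule.subtype_injective (LinearMap.ker π))
    obtain ⟨l, hl⟩ := Module.projective_lifting_property (LocalizedModule.map m.primeCompl π)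
      LinearMap.id (LocalizedModule.map_surjective m.primeCompl π hπ)
    have hl_A : (IsLocalizedModule.map m.primeCompl
        (LocalizedModule.mkLinearMap m.primeCompl _) (LocalizedModule.mkLinearMap m.primeCompl _) π)
        ∘ₗ l.restrictScalars A = LinearMap.id := by
      ext x
      exact congr($hl x)
    have h01 := (Function.Exact.split_tfae' hex').out 0 1
    obtain ⟨-, l', hl'⟩ := h01.mp ⟨hinj, _, hl_A⟩
    refine ⟨l', ?_⟩
    ext x
    exact congr($hl' x)
  obtain ⟨w, hw⟩ := exists_leftInverse_of_forall_maximal _ hloc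
  have h10 := (Function.Exact.split_tfae' hex).out 1 0
  obtain ⟨-, l, hl⟩ := h10.mp ⟨hπ, w, hw⟩
  exact Module.Projective.of_split l π hl

section Residue

open TensorProduct

variable (p : Ideal A) [p.IsPrime]

/-- (a) ⟹ (b): if `w₁ ∘ u = f • id` with `f ∉ p` then `κ(p) ⊗ u` is injective. -/
theorem injective_lTensor_of_LI {u : M →ₗ[A] N} (h : LI p.primeCompl u) :
    Function.Injective (u.lTensor p.ResidueField) := by
  obtain ⟨f, hf, w₁, hw⟩ := h
  rw [injective_iff_map_eq_zero]
  intro x hx
  have h1 : (w₁.lTensor p.ResidueField) ((u.lTensor p.ResidueField) x) = f • x := by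
    rw [← LinearMap.comp_apply, ← LinearMap.lTensor_comp, hw, LinearMap.lTensor_smul,
      LinearMap.lTensor_id, LinearMap.smul_apply, LinearMap.id_apply]
  rw [hx, map_zero] at h1
  have h2 : algebraMap A p.ResidueField f ≠ 0 := fun h0 =>
    hf (Ideal.algebraMap_residueField_eq_zero.mp h0)
  have h3 : (algebraMap A p.ResidueField f) • x = 0 := by
    rw [algebraMap_smul]; exact h1.symm
  exact (smul_eq_zero.mp h3).resolve_left h2

/-- comparison isomorphism `κ ⊗[A_p] M_p ≃ κ ⊗[A] M` -/
noncomputable def resEquiv (M : Type u) [AddCommGroup M] [Module A M] :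
    p.ResidueField ⊗[Localization.AtPrime p] LocalizedModule p.primeCompl M ≃ₗ[Localization.AtPrime p]
      p.ResidueField ⊗[A] M :=
  (TensorProduct.congr (LinearEquiv.refl _ p.ResidueField)
    (LocalizedModule.isBaseChange p.primeCompl M).equiv.symm) ≪≫ₗ
  AlgebraTensorModule.cancelBaseChange A (Localization.AtPrime p) (Localization.AtPrime p)
    p.ResidueField M

theorem resEquiv_symm_tmul (c : p.ResidueField) (m : M) :
    (resEquiv p M).symm (c ⊗ₜ m) = c ⊗ₜ LocalizedModule.mk m 1 := by
  simp [resEquiv, IsBaseChange.equiv_tmul]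

/-- (b) for `u` implies (b) for the localized map. -/
theorem injective_lTensor_map {u : M →ₗ[A] N} (h : Function.Injective (u.lTensor p.ResidueField)) :
    Function.Injective ((LocalizedModule.map p.primeCompl u).lTensor p.ResidueField) := by
  have key : ∀ x : p.ResidueField ⊗[A] M,
      ((LocalizedModule.map p.primeCompl u).lTensor p.ResidueField) ((resEquiv p M).symm x) =
        (resEquiv p N).symm ((u.lTensor p.ResidueField) x) := by
    intro x
    induction x using TensorProduct.induction_on with
    | zero => simp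
    | tmul c m => simp [resEquiv_symm_tmul]
    | add x y hx hy => simp only [map_add, hx, hy]
  intro y y' hyy'
  obtain ⟨x, rfl⟩ := (resEquiv p M).symm.surjective y
  obtain ⟨x', rfl⟩ := (resEquiv p M).symm.surjective y'
  rw [key, key] at hyy'
  rw [h ((resEquiv p N).symm.injective hyy')]

end Residue

section ResidueConverse

open TensorProduct

variable (p : Ideal A) [p.IsPrime]

/-- (b) ⟹ (a) for a free target with finite basis, by Nakayama over the local ring `A_p`. -/
theorem form_of_injective_of_basis {ι : Type*} [Finite ι] (b : Module.Basis ι A P)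
    [Module.Finite A M] {u : M →ₗ[A] P} (h : Function.Injective (u.lTensor p.ResidueField)) :
    Form p.primeCompl u := by
  let bp := b.ofIsLocalizedModule (Localization.AtPrime p) p.primeCompl
    (LocalizedModule.mkLinearMap p.primeCompl P)
  have : Module.Free (Localization.AtPrime p) (LocalizedModule p.primeCompl P) :=
    Module.Free.of_basis bp
  have : Module.Finite (Localization.AtPrime p) (LocalizedModule p.primeCompl P) :=
    Module.Finite.of_basis bp
  obtain ⟨l', hl'⟩ := (IsLocalRing.split_injective_iff_lTensor_residueField_injective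
    (LocalizedModule.map p.primeCompl u)).mpr (injective_lTensor_map p h)
  refine ⟨l'.restrictScalars A, ?_⟩
  ext x
  exact congr($hl' x)

/-- (b) ⟹ (a) in general (`M` of finite type, `N` projective). -/
theorem LI_of_injective [Module.Finite A M] [Module.Projective A N] {u : M →ₗ[A] N}
    (h : Function.Injective (u.lTensor p.ResidueField)) : LI p.primeCompl u := by
  obtain ⟨T, α, β, hαβ⟩ := exists_finite_free_factor u
  refine LI.of_comp α (LI_of_form_of_basis Finsupp.basisSingleOne
    (form_of_injective_of_basis p Finsupp.basisSingleOne ?_))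
  have h1 : u.lTensor p.ResidueField =
      (β.lTensor p.ResidueField) ∘ₗ ((α ∘ₗ u).lTensor p.ResidueField) := by
    rw [← LinearMap.lTensor_comp, ← hαβ]
  rw [h1, LinearMap.coe_comp] at h
  exact Function.Injective.of_comp h

end ResidueConverse

end Groth.Agent.Lib.Helper31.LeftInv
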