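import Mathlib
import Groth.Prelude.Def_RegImm
import Groth.Agent.Lib.Helper91.KDesc1
import Groth.Agent.Lib.Helper91.RegBC3

/-!
# Etale descent (no quasi-compactness) of regular immersions of kind `k ≠ regular` (helper31)
-/

set_option autoImplicit false
set_option linter.style.haveILetI false
universe u

namespace Groth.Agent.Lib.Helper31.RegImmEtDesc

open CategoryTheory CategoryTheory.Limits AlgebraicGeometry TopologicalSpace

/-- Regularity of an immersion at a point can be checked after restricting to an open of the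
target. -/
theorem isRegularImmersionAt_of_restrict {Z X : Scheme.{u}} (k : RegImm.Kind) (i : Z ⟶ X)
    (V : X.Opens) (z : ↥(i ⁻¹ᵁ V)) (h : RegImm.IsRegularImmersionAt k (i ∣_ V) z) :
    RegImm.IsRegularImmersionAt k i z.1 := by
  obtain ⟨U', hzU', hcl, rs, hrs, hker⟩ := h
  have haff : IsAffineOpen (V.ι ''ᵁ U'.1) := U'.2.image_of_isOpenImmersion V.ι
  refine ⟨⟨V.ι ''ᵁ U'.1, haff⟩, ?_, ?_, rs, hrs, ?_⟩
  · refine ⟨(i ∣_ V) z, hzU', ?_⟩
    exact morphismRestrict_base_coe i V z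
  · exact (MorphismProperty.arrow_mk_iso_iff @IsClosedImmersion
      (morphismRestrictRestrict i V U'.1)).1 hcl
  · refine Eq.trans ?_ hker
    rw [morphismRestrict_app]
    show RingHom.ker (i.app (V.ι ''ᵁ U'.1)).hom = RingHom.ker ((Z.presheaf.map
      (eqToHom (image_morphismRestrict_preimage i V U'.1)).op).hom.comp
        (i.app (V.ι ''ᵁ U'.1)).hom)
    rw [RingHom.ker_comp_of_injective]
    exact (ConcreteCategory.bijective_of_isIso _).1

/-- **Etale descent of regular immersions of kind `k ≠ regular`** (no quasi-compactness). -/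
theorem isRegularImmersion_of_etale_cover (k : RegImm.Kind) (hk : k ≠ RegImm.Kind.regular)
    {W V T Y' : Scheme.{u}} (i : W ⟶ V) [IsImmersion i] (φ : T ⟶ V) [Etale φ] [Surjective φ]
    (i' : Y' ⟶ T) (g' : Y' ⟶ W) (hsq : IsPullback g' i' i φ)
    (H : RegImm.IsRegularImmersion k i') : RegImm.IsRegularImmersion k i := by
  refine ⟨inferInstance, fun w => ?_⟩
  obtain ⟨t, ht⟩ := φ.surjective (i w)
  obtain ⟨V₁, hV₁, hvV₁, -⟩ := exists_isAffineOpen_mem_and_subset (x := i w) (U := ⊤) trivial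
  have htV₁ : t ∈ φ ⁻¹ᵁ V₁ := by
    show φ t ∈ V₁
    rw [ht]; exact hvV₁
  obtain ⟨T₁, hT₁, htT₁, hT₁V₁⟩ := exists_isAffineOpen_mem_and_subset (x := t) (U := φ ⁻¹ᵁ V₁) htV₁
  -- the image of `T₁`
  set j : (T₁ : Scheme.{u}) ⟶ V := T₁.ι ≫ φ with hj
  have hopen : IsOpen (Set.range j) := j.isOpenMap.isOpen_range
  let V₂ : V.Opens := ⟨Set.range j, hopen⟩
  have hV₂V₁ : (V₂ : Set V) ⊆ V₁ := by
    rintro _ ⟨y, rfl⟩
    exact hT₁V₁ y.2
  have hle : Set.range j ⊆ Set.range V₂.ι := by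
    rw [Scheme.Opens.range_ι]; exact subset_rfl
  let g : (T₁ : Scheme.{u}) ⟶ V₂ := IsOpenImmersion.lift V₂.ι j hle
  have fac : g ≫ V₂.ι = j := IsOpenImmersion.lift_fac _ _ _
  haveI hge : Etale g :=
    MorphismProperty.of_postcomp (W := @Etale) (W' := @Etale) g V₂.ι inferInstance
      (by rw [fac]; infer_instance)
  haveI hgs : Surjective g := ⟨fun v' => by
    obtain ⟨y, hy⟩ := v'.2
    refine ⟨y, ?_⟩
    apply V₂.ι.isOpenEmbedding.injective
    rw [← Scheme.Hom.comp_apply, fac]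
    exact hy⟩
  haveI : CompactSpace (T₁ : Scheme.{u}) := by
    haveI : IsAffine (T₁ : Scheme.{u}) := hT₁
    infer_instance
  haveI : QuasiSeparatedSpace (V₂ : Scheme.{u}) := by
    have h1 : IsQuasiSeparated (V₁ : Set V) := hV₁.isQuasiSeparated
    have h2 : IsQuasiSeparated (V₂ : Set V) := h1.of_subset hV₂V₁
    exact (isQuasiSeparated_iff_quasiSeparatedSpace _ V₂.2).1 h2
  haveI : QuasiCompact g := inferInstance
  haveI : IsImmersion (i ∣_ V₂) := IsZariskiLocalAtTarget.restrict (P := @IsImmersion) inferInstance V₂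
  -- the pullback of `i ∣_ V₂` along `g`
  have sq1 := IsPullback.of_hasPullback (i ∣_ V₂) g
  have sq2 : IsPullback (i ⁻¹ᵁ V₂).ι (i ∣_ V₂) i V₂.ι := (isPullback_morphismRestrict i V₂).flip
  have big : IsPullback (pullback.fst (i ∣_ V₂) g ≫ (i ⁻¹ᵁ V₂).ι) (pullback.snd (i ∣_ V₂) g) i
      (g ≫ V₂.ι) := sq1.paste_horiz sq2
  have comm : (pullback.fst (i ∣_ V₂) g ≫ (i ⁻¹ᵁ V₂).ι) ≫ i =
      (pullback.snd (i ∣_ V₂) g ≫ T₁.ι) ≫ φ := by
    rw [big.w, fac, hj, Category.assoc]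
  let l : pullback (i ∣_ V₂) g ⟶ Y' := hsq.lift _ _ comm
  have hl1 : l ≫ g' = pullback.fst (i ∣_ V₂) g ≫ (i ⁻¹ᵁ V₂).ι := hsq.lift_fst _ _ _
  have hl2 : l ≫ i' = pullback.snd (i ∣_ V₂) g ≫ T₁.ι := hsq.lift_snd _ _ _
  have sq3 : IsPullback l (pullback.snd (i ∣_ V₂) g) i' T₁.ι := by
    refine IsPullback.of_right ?_ hl2 hsq
    rw [hl1, ← hj, ← fac]
    exact big
  have hreg : RegImm.IsRegularImmersion k (pullback.snd (i ∣_ V₂) g) :=
    Groth.Agent.Lib.Helper91.RegBC.isRegularImmersion_of_isPullback_of_flat sq3 k H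
  have hdesc : RegImm.IsRegularImmersion k (i ∣_ V₂) :=
    Groth.Agent.Lib.Helper91.KDesc.descent k hk (i ∣_ V₂) g (pullback.snd (i ∣_ V₂) g)
      (pullback.fst (i ∣_ V₂) g) sq1 hreg
  have hw : w ∈ i ⁻¹ᵁ V₂ := ⟨⟨t, htT₁⟩, by
    show j ⟨t, htT₁⟩ = i w
    rw [hj, Scheme.Hom.comp_apply]
    exact ht⟩
  exact isRegularImmersionAt_of_restrict k i V₂ ⟨w, hw⟩ (hdesc.2 ⟨w, hw⟩)

end Groth.Agent.Lib.Helper31.RegImmEtDesc
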