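/-
helper31: relative lifting property, part 1: derivations lift along surjections of modules killed by
`J` when `(C ⧸ J) ⊗ Ω_{C/A}` is projective.
-/
import Mathlib.RingTheory.Kaehler.Basic
import Mathlib.Algebra.Module.Torsion.Basic
import Mathlib.Algebra.Module.Projective
import Mathlib.RingTheory.TensorProduct.Maps
import Mathlib.RingTheory.IsTensorProduct

set_option autoImplicit false
universe u

namespace Groth.Agent.Lib.Helper31.RelLift

open TensorProduct KaehlerDifferential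

section LP

variable {A C : Type u} [CommRing A] [CommRing C] [Algebra A C] (J : Ideal C)

/-- If `(C ⧸ J) ⊗_C Ω_{C/A}` is projective over `C ⧸ J`, then `A`-derivations of `C` lift along
surjections of `C`-modules killed by `J`. -/
theorem exists_derivation_lift [Module.Projective (C ⧸ J) ((C ⧸ J) ⊗[C] Ω[C⁄A])]
    {N₁ N₂ : Type u} [AddCommGroup N₁] [Module C N₁] [Module A N₁] [IsScalarTower A C N₁]
    [AddCommGroup N₂] [Module C N₂] [Module A N₂] [IsScalarTower A C N₂]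
    (hJ : ∀ c ∈ J, ∀ n : N₁, c • n = 0) (p : N₁ →ₗ[C] N₂) (hp : Function.Surjective p)
    (d₂ : Derivation A C N₂) : ∃ d₁ : Derivation A C N₁, ∀ c, p (d₁ c) = d₂ c := by
  have hJ₂ : ∀ c ∈ J, ∀ n : N₂, c • n = 0 := by
    intro c hc n
    obtain ⟨m, rfl⟩ := hp n
    rw [← map_smul, hJ c hc, map_zero]
  have ht₁ : Module.IsTorsionBySet C N₁ (J : Set C) := fun n c => hJ c.1 c.2 n
  have ht₂ : Module.IsTorsionBySet C N₂ (J : Set C) := fun n c => hJ₂ c.1 c.2 n
  letI m₁ : Module (C ⧸ J) N₁ := ht₁.module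
  letI m₂ : Module (C ⧸ J) N₂ := ht₂.module
  haveI : IsScalarTower C (C ⧸ J) N₁ := ht₁.isScalarTower
  haveI : IsScalarTower C (C ⧸ J) N₂ := ht₂.isScalarTower
  let pQ : N₁ →ₗ[C ⧸ J] N₂ :=
    { toFun := p
      map_add' := p.map_add
      map_smul' := by
        intro q n
        obtain ⟨c, rfl⟩ := Ideal.Quotient.mk_surjective q
        show p (Ideal.Quotient.mk J c • n) = Ideal.Quotient.mk J c • p n
        rw [ht₁.mk_smul, ht₂.mk_smul, map_smul] }
  let φ₂ : (C ⧸ J) ⊗[C] Ω[C⁄A] →ₗ[C ⧸ J] N₂ :=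
    LinearMap.liftBaseChange (C ⧸ J) d₂.liftKaehlerDifferential
  obtain ⟨ψ, hψ⟩ := Module.projective_lifting_property pQ φ₂ hp
  let ψC : Ω[C⁄A] →ₗ[C] N₁ := (ψ.restrictScalars C) ∘ₗ (TensorProduct.mk C (C ⧸ J) Ω[C⁄A] 1)
  refine ⟨ψC.compDer (KaehlerDifferential.D A C), fun c => ?_⟩
  have h1 := congrArg (fun f => f ((1 : C ⧸ J) ⊗ₜ[C] KaehlerDifferential.D A C c)) hψ
  simp only [LinearMap.coe_comp, Function.comp_apply] at h1
  have h2 : φ₂ ((1 : C ⧸ J) ⊗ₜ[C] KaehlerDifferential.D A C c) = d₂ c := by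
    simp [φ₂]
  rw [h2] at h1
  exact h1

end LP

end Groth.Agent.Lib.Helper31.RelLift
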