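/-
helper31: relative lifting property, part 2: the hypothesis `HypAt`, and local lifting of derivations
via trivial square zero extensions.
-/
import Groth.Agent.Lib.Helper31.RelLift1
import Mathlib.Algebra.TrivSqZeroExt.Basic

set_option autoImplicit false
universe u

namespace Groth.Agent.Lib.Helper31.RelLift

open TensorProduct KaehlerDifferential

section Core

variable {A C : Type u} [CommRing A] [CommRing C] [Algebra A C] (I : Ideal A)
  (π : C →ₐ[A] A ⧸ I)

/-- The relative lifting hypothesis over `D(g)`: maps `C → D₂` which are congruent to `π` modulo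
the image of a square zero ideal `K₁ ⊇ ker p` lift along `p : D₁ ↠ D₂`, for `A`-algebras in which `g`
is invertible. -/
def HypAt (g : A) : Prop :=
  ∀ (D₁ D₂ : Type u) [CommRing D₁] [CommRing D₂] [Algebra A D₁] [Algebra A D₂]
    (p : D₁ →ₐ[A] D₂), Function.Surjective p → ∀ K₁ : Ideal D₁, K₁ ^ 2 = ⊥ →
    RingHom.ker p ≤ K₁ → IsUnit (algebraMap A D₁ g) →
    ∀ σ₂ : C →ₐ[A] D₂, (∀ c ∈ RingHom.ker π, σ₂ c ∈ K₁.map p) →
      ∃ σ₁ : C →ₐ[A] D₁, p.comp σ₁ = σ₂

/-- The right action making a module over a commutative ring a central bimodule. -/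
@[reducible] def opModule (B M : Type u) [CommRing B] [AddCommGroup M] [Module B M] :
    Module Bᵐᵒᵖ M :=
  Module.compHom _ ((RingHom.id B).fromOpposite mul_comm)

variable {I π}

set_option maxHeartbeats 800000 in
theorem exists_derivation_lift_of_hypAt {g : A} (H : HypAt I π g) (B : Type u) [CommRing B]
    [Algebra A B] [Algebra C B] [IsScalarTower A C B] (hg : IsUnit (algebraMap A B g))
    (hJB : ∀ c ∈ RingHom.ker π, algebraMap C B c = 0)
    {N₁ N₂ : Type u} [AddCommGroup N₁] [Module B N₁] [Module C N₁] [Module A N₁]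
    [IsScalarTower C B N₁] [IsScalarTower A C N₁]
    [AddCommGroup N₂] [Module B N₂] [Module C N₂] [Module A N₂]
    [IsScalarTower C B N₂] [IsScalarTower A C N₂]
    (p : N₁ →ₗ[B] N₂) (hp : Function.Surjective p) (d₂ : Derivation A C N₂) :
    ∃ d₁ : Derivation A C N₁, ∀ c, p (d₁ c) = d₂ c := by
  letI o₁ : Module Bᵐᵒᵖ N₁ := opModule B N₁
  letI o₂ : Module Bᵐᵒᵖ N₂ := opModule B N₂
  haveI c₁ : IsCentralScalar B N₁ := ⟨fun _ _ => rfl⟩
  haveI c₂ : IsCentralScalar B N₂ := ⟨fun _ _ => rfl⟩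
  letI a₁ : Algebra A (TrivSqZeroExt B N₁) :=
    ((TrivSqZeroExt.inlHom B N₁).comp (algebraMap A B)).toAlgebra
  letI a₂ : Algebra A (TrivSqZeroExt B N₂) :=
    ((TrivSqZeroExt.inlHom B N₂).comp (algebraMap A B)).toAlgebra
  have halg₁ : ∀ x : A, algebraMap A (TrivSqZeroExt B N₁) x = TrivSqZeroExt.inl (algebraMap A B x) :=
    fun _ => rfl
  have halg₂ : ∀ x : A, algebraMap A (TrivSqZeroExt B N₂) x = TrivSqZeroExt.inl (algebraMap A B x) :=
    fun _ => rfl
  -- the map `p̃`
  let pt : TrivSqZeroExt B N₁ →ₐ[A] TrivSqZeroExt B N₂ :=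
    { toRingHom := (TrivSqZeroExt.map p).toRingHom
      commutes' := fun x => by
        show TrivSqZeroExt.map p (TrivSqZeroExt.inl (algebraMap A B x)) = _
        rw [TrivSqZeroExt.map_inl]; rfl }
  have hpt : ∀ x, pt x = TrivSqZeroExt.map p x := fun _ => rfl
  have hpt_fst : ∀ x, (pt x).fst = x.fst := by
    intro x
    rw [hpt]
    induction x using TrivSqZeroExt.ind with
    | _ r m => simp [TrivSqZeroExt.map_inl, TrivSqZeroExt.map_inr]
  have hpt_snd : ∀ x, (pt x).snd = p x.snd := by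
    intro x
    rw [hpt]
    induction x using TrivSqZeroExt.ind with
    | _ r m => simp [TrivSqZeroExt.map_inl, TrivSqZeroExt.map_inr]
  have hpt_surj : Function.Surjective pt := by
    intro y
    obtain ⟨n, hn⟩ := hp y.snd
    refine ⟨TrivSqZeroExt.inl y.fst + TrivSqZeroExt.inr n, ?_⟩
    apply TrivSqZeroExt.ext
    · rw [hpt_fst]; simp
    · rw [hpt_snd]; simp [hn]
  -- the ring map `σ₂`
  let σ₂ : C →ₐ[A] TrivSqZeroExt B N₂ :=
    { toFun := fun c => TrivSqZeroExt.inl (algebraMap C B c) + TrivSqZeroExt.inr (d₂ c)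
      map_one' := by
        apply TrivSqZeroExt.ext <;> simp
      map_mul' := fun a b => by
        apply TrivSqZeroExt.ext
        · simp
        · simp only [TrivSqZeroExt.snd_add, TrivSqZeroExt.snd_inl, TrivSqZeroExt.snd_inr, zero_add,
            TrivSqZeroExt.snd_mul, TrivSqZeroExt.fst_add, TrivSqZeroExt.fst_inl,
            TrivSqZeroExt.fst_inr, add_zero, Derivation.leibniz]
          rw [algebraMap_smul]
          congr 1
          show _ = algebraMap C B b • d₂ a
          rw [algebraMap_smul]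
      map_zero' := by
        apply TrivSqZeroExt.ext <;> simp
      map_add' := fun a b => by
        apply TrivSqZeroExt.ext <;> simp [add_add_add_comm]
      commutes' := fun x => by
        rw [halg₂]
        apply TrivSqZeroExt.ext
        · simp [← IsScalarTower.algebraMap_apply]
        · simp }
  have hσ₂_fst : ∀ c, (σ₂ c).fst = algebraMap C B c := fun c => by
    show (TrivSqZeroExt.inl (algebraMap C B c) + TrivSqZeroExt.inr (d₂ c)).fst = _
    simp
  have hσ₂_snd : ∀ c, (σ₂ c).snd = d₂ c := fun c => by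
    show (TrivSqZeroExt.inl (algebraMap C B c) + TrivSqZeroExt.inr (d₂ c)).snd = _
    simp
  -- the square zero ideal
  let K₁ : Ideal (TrivSqZeroExt B N₁) := RingHom.ker (TrivSqZeroExt.fstHom B B N₁).toRingHom
  have hK₁mem : ∀ x, x ∈ K₁ ↔ x.fst = 0 := fun x => by
    show (TrivSqZeroExt.fstHom B B N₁) x = 0 ↔ _
    rfl
  have hK₁ : K₁ ^ 2 = ⊥ := by
    rw [eq_bot_iff, pow_two, Ideal.mul_le]
    intro x hx y hy
    rw [hK₁mem] at hx hy
    rw [Ideal.mem_bot]
    apply TrivSqZeroExt.ext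
    · simp [hx]
    · simp [hx, hy]
  have hker : RingHom.ker pt ≤ K₁ := by
    intro x hx
    rw [RingHom.mem_ker] at hx
    rw [hK₁mem, ← hpt_fst, hx]
    rfl
  have hgu : IsUnit (algebraMap A (TrivSqZeroExt B N₁) g) := by
    rw [halg₁]
    exact hg.map (TrivSqZeroExt.inlHom B N₁)
  have hσ₂J : ∀ c ∈ RingHom.ker π, σ₂ c ∈ K₁.map pt := by
    intro c hc
    obtain ⟨n, hn⟩ := hp (d₂ c)
    have : σ₂ c = pt (TrivSqZeroExt.inr n) := by
      apply TrivSqZeroExt.ext
      · rw [hσ₂_fst, hpt_fst, hJB c hc]; simp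
      · rw [hσ₂_snd, hpt_snd]; simp [hn]
    rw [this]
    apply Ideal.mem_map_of_mem
    rw [hK₁mem]; simp
  obtain ⟨σ₁, hσ₁⟩ := H (TrivSqZeroExt B N₁) (TrivSqZeroExt B N₂) pt hpt_surj K₁ hK₁ hker hgu σ₂
    hσ₂J
  have hσ₁_fst : ∀ c, (σ₁ c).fst = algebraMap C B c := fun c => by
    rw [← hpt_fst, ← hσ₂_fst, ← hσ₁]; rfl
  have hσ₁_snd : ∀ c, p (σ₁ c).snd = d₂ c := fun c => by
    rw [← hpt_snd, ← hσ₂_snd, ← hσ₁]; rfl
  refine ⟨Derivation.mk' 
    { toFun := fun c => (σ₁ c).snd
      map_add' := fun a b => by rw [map_add, TrivSqZeroExt.snd_add]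
      map_smul' := fun x c => by
        rw [Algebra.smul_def, map_mul, AlgHom.commutes, halg₁, RingHom.id_apply]
        simp only [TrivSqZeroExt.snd_mul, TrivSqZeroExt.fst_inl, TrivSqZeroExt.snd_inl]
        rw [smul_zero, add_zero, IsScalarTower.algebraMap_apply A C B, algebraMap_smul,
          algebraMap_smul] } ?_, hσ₁_snd⟩
  intro a b
  show (σ₁ (a * b)).snd = a • (σ₁ b).snd + b • (σ₁ a).snd
  rw [map_mul, TrivSqZeroExt.snd_mul, hσ₁_fst, hσ₁_fst, algebraMap_smul]
  congr 1
  show algebraMap C B b • (σ₁ a).snd = _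
  rw [algebraMap_smul]

end Core

end Groth.Agent.Lib.Helper31.RelLift
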