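/-
helper31: projectivity of modules is Zariski local (no finiteness), via Raynaud–Gruson descent
(helper54) along the faithfully flat map `R → ∏ R_{g_i}`.
-/
import Groth.Agent.Lib.Helper54.RGDescent2
import Mathlib.RingTheory.TensorProduct.Pi
import Mathlib.RingTheory.Localization.Away.Basic

set_option autoImplicit false
universe u

namespace Groth.Agent.Lib.Helper31.ZarProj

open TensorProduct

section Pi

variable {R : Type u} [CommRing R] {ι : Type u} [Fintype ι] [DecidableEq ι]
  (B : ι → Type u) [∀ i, CommRing (B i)] [∀ i, Algebra R (B i)]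
  (M : Type u) [AddCommGroup M] [Module R M]

/-- tensor product commutes with finite products on the left -/
noncomputable def piLeft : (∀ i, B i) ⊗[R] M ≃ₗ[R] ∀ i, B i ⊗[R] M :=
  (TensorProduct.comm R (∀ i, B i) M) ≪≫ₗ (TensorProduct.piRight R R M B) ≪≫ₗ
    (LinearEquiv.piCongrRight fun i => TensorProduct.comm R M (B i))

lemma piLeft_tmul (b : ∀ i, B i) (m : M) (i : ι) :
    piLeft B M (b ⊗ₜ[R] m) i = b i ⊗ₜ[R] m := by
  simp [piLeft]

variable {M} in
lemma piLeft_baseChange {N : Type u} [AddCommGroup N] [Module R N] (u : N →ₗ[R] M)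
    (x : (∀ i, B i) ⊗[R] N) (i : ι) :
    piLeft B M (LinearMap.baseChange (∀ i, B i) u x) i =
      LinearMap.baseChange (B i) u (piLeft B N x i) := by
  induction x with
  | zero => simp
  | add a b ha hb => simp only [map_add, Pi.add_apply, ha, hb]
  | tmul b n => simp [piLeft_tmul]

omit [DecidableEq ι] in
lemma flat_pi [∀ i, Module.Flat R (B i)] : Module.Flat R (∀ i, B i) :=
  Module.Flat.of_linearEquiv (DirectSum.linearEquivFunOnFintype R ι B).symm

theorem projective_pi (h : ∀ i, Module.Projective (B i) (B i ⊗[R] M)) :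
    Module.Projective (∀ i, B i) ((∀ i, B i) ⊗[R] M) := by
  classical
  let u : (M →₀ R) →ₗ[R] M := Finsupp.linearCombination R id
  have hu : Function.Surjective u := Finsupp.linearCombination_id_surjective R M
  have hs : ∀ i, Function.Surjective (LinearMap.baseChange (B i) u) := fun i =>
    LinearMap.baseChange_surjective _ hu  
  choose t ht using fun i =>
    Module.projective_lifting_property (LinearMap.baseChange (B i) u) LinearMap.id (hs i)
  let t₀ : M →ₗ[R] (∀ i, B i) ⊗[R] (M →₀ R) :=
    (piLeft B (M →₀ R)).symm.toLinearMap ∘ₗ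
      (LinearMap.pi fun i => ((t i).restrictScalars R) ∘ₗ (TensorProduct.mk R (B i) M 1))
  let tt : (∀ i, B i) ⊗[R] M →ₗ[∀ i, B i] (∀ i, B i) ⊗[R] (M →₀ R) :=
    LinearMap.liftBaseChange (∀ i, B i) t₀
  refine Module.Projective.of_split tt (LinearMap.baseChange (∀ i, B i) u) ?_
  apply TensorProduct.AlgebraTensorModule.curry_injective
  ext m
  simp only [TensorProduct.AlgebraTensorModule.curry_apply, LinearMap.restrictScalars_comp,
    TensorProduct.curry_apply, LinearMap.coe_comp, LinearMap.coe_restrictScalars,
    Function.comp_apply, LinearMap.id_coe, id_eq]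
  apply (piLeft B M).injective
  funext i
  have h1 : tt ((1 : ∀ i, B i) ⊗ₜ[R] m) = t₀ m := by
    simp [tt]
  rw [h1, piLeft_baseChange, piLeft_tmul]
  have h2 : piLeft B (M →₀ R) (t₀ m) i = t i ((1 : B i) ⊗ₜ[R] m) := by
    simp [t₀]
  rw [h2]
  have := congrArg (fun φ => φ ((1 : B i) ⊗ₜ[R] m)) (ht i)
  simpa using this

end Pi

section Away

variable {R : Type u} [CommRing R]

lemma faithfullyFlat_pi_away {ι : Type u} [Fintype ι] (f : ι → R)
    (hspan : Ideal.span (Set.range f) = ⊤) :
    Module.FaithfullyFlat R (∀ i, Localization.Away (f i)) := by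
  classical
  haveI : Module.Flat R (∀ i, Localization.Away (f i)) :=
    flat_pi (fun i => Localization.Away (f i))
  apply Module.FaithfullyFlat.of_comap_surjective
  intro p
  obtain ⟨i, hi⟩ : ∃ i, f i ∉ p.asIdeal := by
    by_contra hcon
    rw [not_exists] at hcon
    simp only [not_not] at hcon
    have : Ideal.span (Set.range f) ≤ p.asIdeal := by
      rw [Ideal.span_le]
      rintro _ ⟨i, rfl⟩
      exact hcon i
    rw [hspan] at this
    exact p.2.ne_top (top_le_iff.mp this)
  have hdisj : Disjoint (Submonoid.powers (f i) : Set R) (p.asIdeal : Set R) :=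
    (Ideal.disjoint_powers_iff_notMem _ p.2.isRadical).mpr hi
  have hP : (Ideal.map (algebraMap R (Localization.Away (f i))) p.asIdeal).IsPrime :=
    IsLocalization.isPrime_of_isPrime_disjoint (Submonoid.powers (f i)) _ p.asIdeal p.2 hdisj
  have hcomap : (Ideal.map (algebraMap R (Localization.Away (f i))) p.asIdeal).comap
      (algebraMap R (Localization.Away (f i))) = p.asIdeal :=
    IsLocalization.under_map_of_isPrime_disjoint (Submonoid.powers (f i)) _ p.2 hdisj
  refine ⟨⟨(Ideal.map (algebraMap R (Localization.Away (f i))) p.asIdeal).comap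
    (Pi.evalRingHom (fun i => Localization.Away (f i)) i), Ideal.comap_isPrime _ _⟩, ?_⟩
  ext1
  show Ideal.comap _ (Ideal.comap _ _) = _
  rw [Ideal.comap_comap]
  exact hcomap

/-- **Projectivity is Zariski local** (no finiteness hypotheses). -/
theorem projective_of_away (M : Type u) [AddCommGroup M] [Module R M] (s : Finset R)
    (hs : Ideal.span (s : Set R) = ⊤)
    (h : ∀ g ∈ s, Module.Projective (Localization.Away g) (Localization.Away g ⊗[R] M)) :
    Module.Projective R M := by
  classical
  let f : {x // x ∈ s} → R := Subtype.val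
  have hspan : Ideal.span (Set.range f) = ⊤ := by
    have : Set.range f = (s : Set R) := by
      ext x
      simp [f]
    rw [this]; exact hs
  haveI := faithfullyFlat_pi_away f hspan
  haveI : Module.Projective (∀ i : {x // x ∈ s}, Localization.Away (f i))
      ((∀ i : {x // x ∈ s}, Localization.Away (f i)) ⊗[R] M) :=
    projective_pi (fun i : {x // x ∈ s} => Localization.Away (f i)) M (fun i => h i.1 i.2)
  exact Groth.Agent.Lib.Helper54.RG.projective_of_faithfullyFlat_baseChange R
    (∀ i : {x // x ∈ s}, Localization.Away (f i)) M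

end Away

end Groth.Agent.Lib.Helper31.ZarProj
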