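/-
helper31: relative lifting property, part 3: projectivity of `(C ⧸ J) ⊗ Ω_{C/A}`.
-/
import Groth.Agent.Lib.Helper31.RelLift2
import Groth.Agent.Lib.Helper31.ZarProj

set_option autoImplicit false
universe u

namespace Groth.Agent.Lib.Helper31.RelLift

open TensorProduct KaehlerDifferential

section Proj

variable {A C : Type u} [CommRing A] [CommRing C] [Algebra A C] {I : Ideal A}
  {π : C →ₐ[A] A ⧸ I}

theorem projective_baseChange_of_hypAt {g : A} (H : HypAt I π g) (B : Type u) [CommRing B]
    [Algebra A B] [Algebra C B] [IsScalarTower A C B] (hg : IsUnit (algebraMap A B g))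
    (hJB : ∀ c ∈ RingHom.ker π, algebraMap C B c = 0) :
    Module.Projective B (B ⊗[C] Ω[C⁄A]) := by
  classical
  let pF : ((B ⊗[C] Ω[C⁄A]) →₀ B) →ₗ[B] (B ⊗[C] Ω[C⁄A]) := Finsupp.linearCombination B id
  have hpF : Function.Surjective pF := Finsupp.linearCombination_id_surjective B _
  let d₂ : Derivation A C (B ⊗[C] Ω[C⁄A]) :=
    (TensorProduct.mk C B Ω[C⁄A] 1).compDer (KaehlerDifferential.D A C)
  obtain ⟨d₁, hd₁⟩ := exists_derivation_lift_of_hypAt H B hg hJB pF hpF d₂
  let t : (B ⊗[C] Ω[C⁄A]) →ₗ[B] ((B ⊗[C] Ω[C⁄A]) →₀ B) :=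
    LinearMap.liftBaseChange B d₁.liftKaehlerDifferential
  refine Module.Projective.of_split t pF ?_
  have key : (pF.restrictScalars C) ∘ₗ d₁.liftKaehlerDifferential = TensorProduct.mk C B Ω[C⁄A] 1 := by
    apply Derivation.liftKaehlerDifferential_unique
    ext c
    simp only [Derivation.coe_comp, LinearMap.coe_comp, LinearMap.coe_restrictScalars,
      Derivation.coeFn_coe, Function.comp_apply, Derivation.liftKaehlerDifferential_comp_D]
    rw [hd₁]
    rfl
  apply LinearMap.ext
  intro x
  induction x with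
  | zero => simp
  | add a b ha hb => rw [map_add, ha, hb, map_add]
  | tmul b ω =>
    have := congrArg (fun f => f ω) key
    simp only [LinearMap.coe_comp, LinearMap.coe_restrictScalars, Function.comp_apply,
      TensorProduct.mk_apply] at this
    simp only [LinearMap.coe_comp, Function.comp_apply, LinearMap.id_coe, id_eq, t,
      LinearMap.liftBaseChange_tmul, map_smul, this]
    rw [TensorProduct.smul_tmul', smul_eq_mul, mul_one]

theorem projective_quotient_tensor (G : Set A) (hG : Ideal.span G = ⊤)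
    (H : ∀ g ∈ G, HypAt I π g) :
    Module.Projective (C ⧸ RingHom.ker π) ((C ⧸ RingHom.ker π) ⊗[C] Ω[C⁄A]) := by
  classical
  obtain ⟨T, hTG, hT⟩ := (Ideal.span_eq_top_iff_finite G).mp hG
  let s : Finset (C ⧸ RingHom.ker π) := T.image (algebraMap A (C ⧸ RingHom.ker π))
  have hs : Ideal.span (s : Set (C ⧸ RingHom.ker π)) = ⊤ := by
    have : (s : Set (C ⧸ RingHom.ker π)) = (algebraMap A (C ⧸ RingHom.ker π)) '' (T : Set A) := by
      simp [s]
    rw [this, ← Ideal.map_span, hT, Ideal.map_top]
  apply ZarProj.projective_of_away _ s hs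
  intro q hq
  obtain ⟨g, hgT, rfl⟩ := Finset.mem_image.mp hq
  have hg : IsUnit (algebraMap A (Localization.Away (algebraMap A (C ⧸ RingHom.ker π) g)) g) := by
    rw [IsScalarTower.algebraMap_apply A (C ⧸ RingHom.ker π)
      (Localization.Away (algebraMap A (C ⧸ RingHom.ker π) g))]
    exact IsLocalization.Away.algebraMap_isUnit (algebraMap A (C ⧸ RingHom.ker π) g)
  have hJB : ∀ c ∈ RingHom.ker π,
      algebraMap C (Localization.Away (algebraMap A (C ⧸ RingHom.ker π) g)) c = 0 := by
    intro c hc
    rw [IsScalarTower.algebraMap_apply C (C ⧸ RingHom.ker π)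
      (Localization.Away (algebraMap A (C ⧸ RingHom.ker π) g))]
    have : algebraMap C (C ⧸ RingHom.ker π) c = 0 := Ideal.Quotient.eq_zero_iff_mem.mpr hc
    rw [this, map_zero]
  have hP := projective_baseChange_of_hypAt (H g (hTG hgT))
    (Localization.Away (algebraMap A (C ⧸ RingHom.ker π) g)) hg hJB
  exact Module.Projective.of_equiv
    (AlgebraTensorModule.cancelBaseChange C (C ⧸ RingHom.ker π)
      (Localization.Away (algebraMap A (C ⧸ RingHom.ker π) g))
      (Localization.Away (algebraMap A (C ⧸ RingHom.ker π) g)) Ω[C⁄A]).symm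

end Proj

end Groth.Agent.Lib.Helper31.RelLift
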