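/-
helper31: the sheaf condition for a cover of `Spec R` by two basic opens, by hand.
-/
import Mathlib.RingTheory.Localization.Away.Basic
import Mathlib.RingTheory.Ideal.Maps
import Mathlib.RingTheory.Localization.Ideal

set_option autoImplicit false
universe u

namespace Groth.Agent.Lib.Helper31.Sheaf2

open IsLocalization.Away Localization

variable {R : Type u} [CommRing R]

/-- the restriction `R_g → R_{gh}` -/
noncomputable abbrev resL (g h : R) : Away g →+* Away (g * h) :=
  awayToAwayRight (S := Away g) (P := Away (g * h)) g h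

/-- the restriction `R_h → R_{gh}` -/
noncomputable abbrev resR (g h : R) : Away h →+* Away (g * h) :=
  awayToAwayLeft (S := Away h) (P := Away (g * h)) h g

lemma resL_algebraMap (g h : R) (a : R) :
    resL g h (algebraMap R (Away g) a) = algebraMap R (Away (g * h)) a :=
  awayToAwayRight_eq _ _ _

lemma resR_algebraMap (g h : R) (a : R) :
    resR g h (algebraMap R (Away h) a) = algebraMap R (Away (g * h)) a :=
  awayToAwayLeft_eq _ _ _

theorem exists_glue (g h : R) (hspan : Ideal.span ({g, h} : Set R) = ⊤)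
    (x : Away g) (y : Away h) (hxy : resL g h x = resR g h y) :
    ∃ r : R, algebraMap R (Away g) r = x ∧ algebraMap R (Away h) r = y := by
  obtain ⟨n, a, ha⟩ := IsLocalization.Away.surj g x
  obtain ⟨m, b, hb⟩ := IsLocalization.Away.surj h y
  have ha' : x * algebraMap R (Away g) g ^ (n + m) = algebraMap R (Away g) (a * g ^ m) := by
    rw [pow_add, ← mul_assoc, ha, map_mul, map_pow]
  have hb' : y * algebraMap R (Away h) h ^ (n + m) = algebraMap R (Away h) (b * h ^ n) := by
    rw [add_comm, pow_add, ← mul_assoc, hb, map_mul, map_pow]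
  have e1 : algebraMap R (Away (g * h)) (a * g ^ m * h ^ (n + m)) =
      algebraMap R (Away (g * h)) (b * h ^ n * g ^ (n + m)) := by
    have h1 := congrArg (resL g h) ha'
    have h2 := congrArg (resR g h) hb'
    simp only [map_mul, map_pow, resL_algebraMap, resR_algebraMap] at h1 h2
    rw [map_mul (algebraMap R (Away (g * h))) (a * g ^ m), map_mul (algebraMap R (Away (g * h))) (b * h ^ n), map_mul (algebraMap R (Away (g * h))) a,
      map_mul (algebraMap R (Away (g * h))) b, map_pow, map_pow, map_pow, map_pow, ← h1, ← h2, hxy]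
    ring
  obtain ⟨N, hN⟩ := IsLocalization.Away.exists_of_eq (S := Away (g * h)) (g * h) e1
  have rel : (a * g ^ m * g ^ N) * h ^ (n + m + N) = (b * h ^ n * h ^ N) * g ^ (n + m + N) := by
    calc (a * g ^ m * g ^ N) * h ^ (n + m + N)
        = (g * h) ^ N * (a * g ^ m * h ^ (n + m)) := by ring
      _ = (g * h) ^ N * (b * h ^ n * g ^ (n + m)) := hN
      _ = (b * h ^ n * h ^ N) * g ^ (n + m + N) := by ring
  have hx2 : x * algebraMap R (Away g) g ^ (n + m + N) =
      algebraMap R (Away g) (a * g ^ m * g ^ N) := by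
    rw [pow_add, ← mul_assoc, ha', map_mul (algebraMap R (Away g)) (a * g ^ m), map_pow]
  have hy2 : y * algebraMap R (Away h) h ^ (n + m + N) =
      algebraMap R (Away h) (b * h ^ n * h ^ N) := by
    rw [pow_add, ← mul_assoc, hb', map_mul (algebraMap R (Away h)) (b * h ^ n), map_pow]
  obtain ⟨α, β, hαβ⟩ : ∃ α β, α * g ^ (n + m + N) + β * h ^ (n + m + N) = 1 := by
    have h1 := Ideal.span_pow_eq_top _ hspan (n + m + N)
    rw [Set.image_pair] at h1
    exact Ideal.mem_span_pair.mp (h1 ▸ Submodule.mem_top)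
  refine ⟨α * (a * g ^ m * g ^ N) + β * (b * h ^ n * h ^ N), ?_, ?_⟩
  · have hu : IsUnit (algebraMap R (Away g) g ^ (n + m + N)) :=
      (IsLocalization.Away.algebraMap_isUnit g).pow _
    apply hu.mul_left_injective
    show _ * _ = x * _
    rw [hx2, ← map_pow, ← map_mul]
    congr 1
    calc (α * (a * g ^ m * g ^ N) + β * (b * h ^ n * h ^ N)) * g ^ (n + m + N)
        = α * g ^ (n + m + N) * (a * g ^ m * g ^ N) +
            β * ((b * h ^ n * h ^ N) * g ^ (n + m + N)) := by ring
      _ = α * g ^ (n + m + N) * (a * g ^ m * g ^ N) +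
            β * ((a * g ^ m * g ^ N) * h ^ (n + m + N)) := by rw [rel]
      _ = (α * g ^ (n + m + N) + β * h ^ (n + m + N)) * (a * g ^ m * g ^ N) := by ring
      _ = a * g ^ m * g ^ N := by rw [hαβ, one_mul]
  · have hu : IsUnit (algebraMap R (Away h) h ^ (n + m + N)) :=
      (IsLocalization.Away.algebraMap_isUnit h).pow _
    apply hu.mul_left_injective
    show _ * _ = y * _
    rw [hy2, ← map_pow, ← map_mul]
    congr 1
    calc (α * (a * g ^ m * g ^ N) + β * (b * h ^ n * h ^ N)) * h ^ (n + m + N)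
        = α * ((a * g ^ m * g ^ N) * h ^ (n + m + N)) +
            β * h ^ (n + m + N) * (b * h ^ n * h ^ N) := by ring
      _ = α * ((b * h ^ n * h ^ N) * g ^ (n + m + N)) +
            β * h ^ (n + m + N) * (b * h ^ n * h ^ N) := by rw [rel]
      _ = (α * g ^ (n + m + N) + β * h ^ (n + m + N)) * (b * h ^ n * h ^ N) := by ring
      _ = b * h ^ n * h ^ N := by rw [hαβ, one_mul]

/-- injectivity of `R → R_g × R_h` -/
theorem eq_of_eq (g h : R) (hspan : Ideal.span ({g, h} : Set R) = ⊤) (r r' : R)
    (h1 : algebraMap R (Away g) r = algebraMap R (Away g) r')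
    (h2 : algebraMap R (Away h) r = algebraMap R (Away h) r') : r = r' := by
  obtain ⟨n, hn⟩ := IsLocalization.Away.exists_of_eq (S := Away g) g h1
  obtain ⟨m, hm⟩ := IsLocalization.Away.exists_of_eq (S := Away h) h h2
  have hn' : g ^ (n + m) * r = g ^ (n + m) * r' := by
    rw [pow_add, mul_comm (g ^ n), mul_assoc, hn, mul_assoc]
  have hm' : h ^ (n + m) * r = h ^ (n + m) * r' := by
    rw [pow_add, mul_assoc, hm, mul_assoc]
  obtain ⟨α, β, hαβ⟩ : ∃ α β, α * g ^ (n + m) + β * h ^ (n + m) = 1 := by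
    have h1 := Ideal.span_pow_eq_top _ hspan (n + m)
    rw [Set.image_pair] at h1
    exact Ideal.mem_span_pair.mp (h1 ▸ Submodule.mem_top)
  calc r = (α * g ^ (n + m) + β * h ^ (n + m)) * r := by rw [hαβ, one_mul]
    _ = α * (g ^ (n + m) * r) + β * (h ^ (n + m) * r) := by ring
    _ = α * (g ^ (n + m) * r') + β * (h ^ (n + m) * r') := by rw [hn', hm']
    _ = (α * g ^ (n + m) + β * h ^ (n + m)) * r' := by ring
    _ = r' := by rw [hαβ, one_mul]

/-- the difference map `I R_g × I R_h → I R_{gh}` is surjective (for an ideal `K` of `R`) -/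
theorem exists_sub_eq (g h : R) (hspan : Ideal.span ({g, h} : Set R) = ⊤) (K : Ideal R)
    (z : Away (g * h)) (hz : z ∈ K.map (algebraMap R (Away (g * h)))) :
    ∃ x ∈ K.map (algebraMap R (Away g)), ∃ y ∈ K.map (algebraMap R (Away h)),
      resL g h x - resR g h y = z := by
  obtain ⟨⟨w, ⟨_, N, rfl⟩⟩, hw⟩ :=
    (IsLocalization.mem_map_algebraMap_iff (Submonoid.powers (g * h)) (Away (g * h))).mp hz
  -- `z * (gh)^N = w` with `w ∈ K`
  obtain ⟨α, β, hαβ⟩ : ∃ α β, α * g ^ N + β * h ^ N = 1 := by
    have h1 := Ideal.span_pow_eq_top _ hspan N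
    rw [Set.image_pair] at h1
    exact Ideal.mem_span_pair.mp (h1 ▸ Submodule.mem_top)
  -- `z = β w / g^N + α w / h^N`
  obtain ⟨ug, hug⟩ := (IsLocalization.Away.algebraMap_isUnit (S := Away g) g).pow N
  obtain ⟨uh, huh⟩ := (IsLocalization.Away.algebraMap_isUnit (S := Away h) h).pow N
  refine ⟨algebraMap R (Away g) (β * w) * ↑ug⁻¹, ?_, -(algebraMap R (Away h) (α * w) * ↑uh⁻¹), ?_, ?_⟩
  · exact Ideal.mul_mem_right _ _ (Ideal.mem_map_of_mem _ (K.mul_mem_left _ w.2))
  · exact neg_mem (Ideal.mul_mem_right _ _ (Ideal.mem_map_of_mem _ (K.mul_mem_left _ w.2)))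
  · have hu : IsUnit (algebraMap R (Away (g * h)) ((g * h) ^ N)) := by
      rw [map_pow]; exact (IsLocalization.Away.algebraMap_isUnit (g * h)).pow N
    apply hu.mul_left_injective
    simp only
    have hw' : z * algebraMap R (Away (g * h)) ((g * h) ^ N) = algebraMap R (Away (g * h)) w := hw
    rw [hw']
    have e1 : resL g h (↑ug⁻¹) * algebraMap R (Away (g * h)) (g ^ N) = 1 := by
      rw [← resL_algebraMap g h (g ^ N), ← map_mul, map_pow, ← hug, Units.inv_mul, map_one]
    have e2 : resR g h (↑uh⁻¹) * algebraMap R (Away (g * h)) (h ^ N) = 1 := by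
      rw [← resR_algebraMap g h (h ^ N), ← map_mul, map_pow, ← huh, Units.inv_mul, map_one]
    have hL : resL g h (algebraMap R (Away g) (β * w) * ↑ug⁻¹) =
        algebraMap R (Away (g * h)) (β * w) * resL g h ↑ug⁻¹ := by
      rw [map_mul, resL_algebraMap]
    have hR : resR g h (algebraMap R (Away h) (α * w) * ↑uh⁻¹) =
        algebraMap R (Away (g * h)) (α * w) * resR g h ↑uh⁻¹ := by
      rw [map_mul, resR_algebraMap]
    rw [map_neg, sub_neg_eq_add, hL, hR, mul_pow,
      map_mul (algebraMap R (Away (g * h))) (g ^ N)]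
    calc (algebraMap R (Away (g * h)) (β * w) * resL g h ↑ug⁻¹ +
          algebraMap R (Away (g * h)) (α * w) * resR g h ↑uh⁻¹) *
          (algebraMap R (Away (g * h)) (g ^ N) * algebraMap R (Away (g * h)) (h ^ N))
        = algebraMap R (Away (g * h)) (β * w) * algebraMap R (Away (g * h)) (h ^ N) *
            (resL g h ↑ug⁻¹ * algebraMap R (Away (g * h)) (g ^ N)) +
          algebraMap R (Away (g * h)) (α * w) * algebraMap R (Away (g * h)) (g ^ N) *
            (resR g h ↑uh⁻¹ * algebraMap R (Away (g * h)) (h ^ N)) := by ring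
      _ = algebraMap R (Away (g * h)) ((α * g ^ N + β * h ^ N) * w) := by
        rw [e1, e2, mul_one, mul_one, ← map_mul, ← map_mul, ← map_add]
        congr 1; ring
      _ = algebraMap R (Away (g * h)) w := by rw [hαβ, one_mul]

end Groth.Agent.Lib.Helper31.Sheaf2
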