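/-
helper31: relative lifting property, part 4: gluing two local lifts (binary cover).
-/
import Groth.Agent.Lib.Helper31.RelLift3
import Groth.Agent.Lib.Helper31.Sheaf2

set_option autoImplicit false
universe u

namespace Groth.Agent.Lib.Helper31.RelLift

open TensorProduct KaehlerDifferential Localization

section KMod

variable {A C : Type u} [CommRing A] [CommRing C] [Algebra A C]

/-- an ideal `K` of an `A`-algebra `D`, viewed as a `C`-module through `σ : C →ₐ[A] D` -/
def KMod {D : Type u} [CommRing D] [Algebra A D] (_σ : C →ₐ[A] D) (K : Ideal D) : Type u := ↥K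

namespace KMod

variable {D : Type u} [CommRing D] [Algebra A D] (σ : C →ₐ[A] D) (K : Ideal D)

instance : AddCommGroup (KMod σ K) := inferInstanceAs (AddCommGroup ↥K)
instance instModD : Module D (KMod σ K) := inferInstanceAs (Module D ↥K)
instance instModA : Module A (KMod σ K) := inferInstanceAs (Module A ↥K)
instance instModC : Module C (KMod σ K) := Module.compHom (KMod σ K) σ.toRingHom

/-- the underlying element -/
def val (n : KMod σ K) : D := Subtype.val n

variable {σ K}

lemma val_mem (n : KMod σ K) : n.val ∈ K := Subtype.property n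
@[simp] lemma val_add (m n : KMod σ K) : (m + n).val = m.val + n.val := rfl
@[simp] lemma val_zero : (0 : KMod σ K).val = 0 := rfl
@[simp] lemma val_smulC (c : C) (n : KMod σ K) : (c • n).val = σ c * n.val := rfl
@[simp] lemma val_smulA (x : A) (n : KMod σ K) : (x • n).val = x • n.val := rfl
@[ext] lemma ext {m n : KMod σ K} (h : m.val = n.val) : m = n := Subtype.ext h

/-- constructor -/
def mk (x : D) (hx : x ∈ K) : KMod σ K := ⟨x, hx⟩
@[simp] lemma val_mk (x : D) (hx : x ∈ K) : (mk (σ := σ) x hx).val = x := rfl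

instance : IsScalarTower A C (KMod σ K) := ⟨fun x c n => by
  ext
  simp only [val_smulC, val_smulA, map_smul, smul_mul_assoc]⟩

end KMod

variable {D : Type u} [CommRing D] [Algebra A D]

/-- modify an algebra map by a derivation into a square zero ideal -/
def subDer (σ : C →ₐ[A] D) (K : Ideal D) (hK : K ^ 2 = ⊥) (δ : Derivation A C (KMod σ K)) :
    C →ₐ[A] D where
  toFun c := σ c - (δ c).val
  map_one' := by simp [δ.map_one_eq_zero]
  map_mul' a b := by
    have h0 : (δ a).val * (δ b).val = 0 := by
      have : (δ a).val * (δ b).val ∈ K ^ 2 := by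
        rw [pow_two]; exact Ideal.mul_mem_mul (δ a).val_mem (δ b).val_mem
      rwa [hK, Ideal.mem_bot] at this
    rw [δ.leibniz]
    simp only [KMod.val_add, KMod.val_smulC, map_mul]
    linear_combination -h0
  map_zero' := by simp
  map_add' a b := by simp only [map_add, KMod.val_add]; ring
  commutes' x := by
    simp [δ.map_algebraMap]

@[simp] lemma subDer_apply (σ : C →ₐ[A] D) (K : Ideal D) (hK : K ^ 2 = ⊥)
    (δ : Derivation A C (KMod σ K)) (c : C) : subDer σ K hK δ c = σ c - (δ c).val := rfl

end KMod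

section Glue

variable {A C : Type u} [CommRing A] [CommRing C] [Algebra A C] (I : Ideal A)
  (π : C →ₐ[A] A ⧸ I)

/-- derivations of `C` lift along surjections of `C`-modules killed by `ker π` -/
def LP : Prop :=
  ∀ {N₁ N₂ : Type u} [AddCommGroup N₁] [Module C N₁] [Module A N₁] [IsScalarTower A C N₁]
    [AddCommGroup N₂] [Module C N₂] [Module A N₂] [IsScalarTower A C N₂],
    (∀ c ∈ RingHom.ker π, ∀ n : N₁, c • n = 0) → ∀ (p : N₁ →ₗ[C] N₂), Function.Surjective p →
    ∀ d₂ : Derivation A C N₂, ∃ d₁ : Derivation A C N₁, ∀ c, p (d₁ c) = d₂ c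

/-- a lift of `π` to the `A`-algebra `D` exists -/
def LiftExists (D : Type u) [CommRing D] [Algebra A D] : Prop :=
  ∃ σ : C →ₐ[A] D, ∀ c ∈ RingHom.ker π, σ c ∈ I.map (algebraMap A D)

variable {I π}

lemma map_sq_eq_bot (hI : I ^ 2 = ⊥) (D : Type u) [CommRing D] [Algebra A D] :
    (I.map (algebraMap A D)) ^ 2 = ⊥ := by
  rw [← Ideal.map_pow, hI, Ideal.map_bot]

lemma mul_eq_zero_of_mem {D : Type u} [CommRing D] {K : Ideal D} (hK : K ^ 2 = ⊥) {x y : D}
    (hx : x ∈ K) (hy : y ∈ K) : x * y = 0 := by
  have : x * y ∈ K ^ 2 := by rw [pow_two]; exact Ideal.mul_mem_mul hx hy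
  rwa [hK, Ideal.mem_bot] at this

lemma exists_pow_mul_mem {D : Type u} [CommRing D] (g : D) (K : Ideal D) (x : D)
    (hx : algebraMap D (Away g) x ∈ K.map (algebraMap D (Away g))) : ∃ n : ℕ, g ^ n * x ∈ K := by
  obtain ⟨⟨k, ⟨_, n, rfl⟩⟩, hk⟩ :=
    (IsLocalization.mem_map_algebraMap_iff (Submonoid.powers g) (Away g)).mp hx
  have hk' : algebraMap D (Away g) (x * g ^ n) = algebraMap D (Away g) k := by
    rw [map_mul]; exact hk
  obtain ⟨m, hm⟩ := IsLocalization.Away.exists_of_eq (S := Away g) g hk'
  refine ⟨m + n, ?_⟩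
  have : g ^ (m + n) * x = g ^ m * k := by rw [← hm]; ring
  rw [this]
  exact K.mul_mem_left _ k.2

/-- a lift congruent to `π` modulo `I`: `σ c - x ∈ I D` whenever `π c = x̄` -/
lemma sub_mem_of_liftExists {D : Type u} [CommRing D] [Algebra A D] (σ : C →ₐ[A] D)
    (hσ : ∀ c ∈ RingHom.ker π, σ c ∈ I.map (algebraMap A D)) (c : C) (x : A)
    (hx : π c = Ideal.Quotient.mk I x) : σ c - algebraMap A D x ∈ I.map (algebraMap A D) := by
  have : c - algebraMap A C x ∈ RingHom.ker π := by
    rw [RingHom.mem_ker, map_sub, hx, AlgHom.commutes]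
    exact sub_self _
  have h2 := hσ _ this
  rwa [map_sub, AlgHom.commutes] at h2

set_option maxHeartbeats 1600000 in
theorem liftExists_of_cover (hI : I ^ 2 = ⊥) (hLP : LP I π) (D : Type u) [CommRing D]
    [Algebra A D] (g h : D) (hspan : Ideal.span ({g, h} : Set D) = ⊤)
    (hg : LiftExists I π (Away g)) (hh : LiftExists I π (Away h)) : LiftExists I π D := by
  obtain ⟨σg, hσg⟩ := hg
  obtain ⟨σh, hσh⟩ := hh
  have hKg := map_sq_eq_bot hI (Away g)
  have hKh := map_sq_eq_bot hI (Away h)
  have hKgh := map_sq_eq_bot hI (Away (g * h))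
  -- restriction maps as `A`-algebra maps
  let ρg : Away g →ₐ[A] Away (g * h) :=
    { toRingHom := Sheaf2.resL g h
      commutes' := fun x => by
        show Sheaf2.resL g h (algebraMap A (Away g) x) = _
        rw [IsScalarTower.algebraMap_apply A D (Away g), Sheaf2.resL_algebraMap,
          ← IsScalarTower.algebraMap_apply] }
  let ρh : Away h →ₐ[A] Away (g * h) :=
    { toRingHom := Sheaf2.resR g h
      commutes' := fun x => by
        show Sheaf2.resR g h (algebraMap A (Away h) x) = _
        rw [IsScalarTower.algebraMap_apply A D (Away h), Sheaf2.resR_algebraMap,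
          ← IsScalarTower.algebraMap_apply] }
  have hρg : ∀ x, ρg x = Sheaf2.resL g h x := fun _ => rfl
  have hρh : ∀ x, ρh x = Sheaf2.resR g h x := fun _ => rfl
  have hρgK : ∀ x ∈ I.map (algebraMap A (Away g)), ρg x ∈ I.map (algebraMap A (Away (g * h))) := by
    intro x hx
    have h1 : ρg x ∈ (I.map (algebraMap A (Away g))).map ρg.toRingHom := Ideal.mem_map_of_mem _ hx
    rwa [Ideal.map_map, AlgHom.toRingHom_eq_coe, AlgHom.comp_algebraMap] at h1
  have hρhK : ∀ x ∈ I.map (algebraMap A (Away h)), ρh x ∈ I.map (algebraMap A (Away (g * h))) := by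
    intro x hx
    have h1 : ρh x ∈ (I.map (algebraMap A (Away h))).map ρh.toRingHom := Ideal.mem_map_of_mem _ hx
    rwa [Ideal.map_map, AlgHom.toRingHom_eq_coe, AlgHom.comp_algebraMap] at h1
  let τg : C →ₐ[A] Away (g * h) := ρg.comp σg
  let τh : C →ₐ[A] Away (g * h) := ρh.comp σh
  have hτg : ∀ c ∈ RingHom.ker π, τg c ∈ I.map (algebraMap A (Away (g * h))) :=
    fun c hc => hρgK _ (hσg c hc)
  have hτh : ∀ c ∈ RingHom.ker π, τh c ∈ I.map (algebraMap A (Away (g * h))) :=
    fun c hc => hρhK _ (hσh c hc)
  -- the difference lies in `I D_{gh}`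
  have hdiff : ∀ c, τg c - τh c ∈ I.map (algebraMap A (Away (g * h))) := by
    intro c
    obtain ⟨x, hx⟩ := Ideal.Quotient.mk_surjective (π c)
    have h1 := sub_mem_of_liftExists τg hτg c x hx.symm
    have h2 := sub_mem_of_liftExists τh hτh c x hx.symm
    have := sub_mem h1 h2
    rwa [sub_sub_sub_cancel_right] at this
  -- the derivation `d`
  let d : Derivation A C (KMod τg (I.map (algebraMap A (Away (g * h))))) :=
    Derivation.mk'
      { toFun := fun c => KMod.mk (τg c - τh c) (hdiff c)
        map_add' := fun a b => by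
          ext; simp only [KMod.val_mk, KMod.val_add, map_add]; ring
        map_smul' := fun x c => by
          ext; simp only [KMod.val_mk, KMod.val_smulA, map_smul, RingHom.id_apply, smul_sub] }
      (fun a b => by
        ext
        have h0 := mul_eq_zero_of_mem hKgh (hdiff a) (hdiff b)
        simp only [LinearMap.coe_mk, AddHom.coe_mk, KMod.val_mk, KMod.val_add, KMod.val_smulC,
          map_mul]
        linear_combination -h0)
  have hd : ∀ c, (d c).val = τg c - τh c := fun _ => rfl
  -- the surjection `p`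
  let p : (KMod σg (I.map (algebraMap A (Away g))) × KMod σh (I.map (algebraMap A (Away h))))
      →ₗ[C] KMod τg (I.map (algebraMap A (Away (g * h)))) :=
    { toFun := fun n => KMod.mk (ρg n.1.val - ρh n.2.val)
        (sub_mem (hρgK _ n.1.val_mem) (hρhK _ n.2.val_mem))
      map_add' := fun m n => by
        ext; simp only [Prod.fst_add, Prod.snd_add, KMod.val_mk, KMod.val_add, map_add]; ring
      map_smul' := fun c n => by
        ext
        have h0 := mul_eq_zero_of_mem hKgh (hdiff c) (hρhK _ n.2.val_mem)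
        simp only [Prod.smul_fst, Prod.smul_snd, KMod.val_mk, KMod.val_smulC, map_mul,
          RingHom.id_apply]
        show ρg (σg c) * ρg n.1.val - ρh (σh c) * ρh n.2.val =
          ρg (σg c) * (ρg n.1.val - ρh n.2.val)
        have e1 : ρg (σg c) = τg c := rfl
        have e2 : ρh (σh c) = τh c := rfl
        rw [e1, e2]
        linear_combination h0 }
  have hp_val : ∀ n, (p n).val = ρg n.1.val - ρh n.2.val := fun _ => rfl
  have hp : Function.Surjective p := by
    intro z
    obtain ⟨x, hx, y, hy, hxy⟩ := Sheaf2.exists_sub_eq g h hspan (I.map (algebraMap A D)) z.val (by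
      have := z.val_mem
      rwa [Ideal.map_map, ← IsScalarTower.algebraMap_eq])
    rw [Ideal.map_map, ← IsScalarTower.algebraMap_eq] at hx hy
    refine ⟨(KMod.mk x hx, KMod.mk y hy), ?_⟩
    ext
    rw [hp_val]
    exact hxy
  have hJN : ∀ c ∈ RingHom.ker π, ∀ n : (KMod σg (I.map (algebraMap A (Away g))) ×
      KMod σh (I.map (algebraMap A (Away h)))), c • n = 0 := by
    intro c hc n
    ext
    · simp only [Prod.smul_fst, KMod.val_smulC, Prod.fst_zero, KMod.val_zero]
      exact mul_eq_zero_of_mem hKg (hσg c hc) n.1.val_mem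
    · simp only [Prod.smul_snd, KMod.val_smulC, Prod.snd_zero, KMod.val_zero]
      exact mul_eq_zero_of_mem hKh (hσh c hc) n.2.val_mem
  obtain ⟨δ, hδ⟩ := hLP hJN p hp d
  let δg : Derivation A C (KMod σg (I.map (algebraMap A (Away g)))) :=
    (LinearMap.fst C _ _).compDer δ
  let δh : Derivation A C (KMod σh (I.map (algebraMap A (Away h)))) :=
    (LinearMap.snd C _ _).compDer δ
  have hδg : ∀ c, δg c = (δ c).1 := fun _ => rfl
  have hδh : ∀ c, δh c = (δ c).2 := fun _ => rfl
  let σg' := subDer σg _ hKg δg
  let σh' := subDer σh _ hKh δh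
  have hcompat : ∀ c, Sheaf2.resL g h (σg' c) = Sheaf2.resR g h (σh' c) := by
    intro c
    have h1 : (p (δ c)).val = (d c).val := congrArg (fun n => KMod.val _ _ n) (hδ c)
    rw [hp_val, hd] at h1
    rw [← hρg, ← hρh, subDer_apply, subDer_apply, map_sub, map_sub, hδg, hδh]
    show τg c - _ = τh c - _
    linear_combination -h1
  choose r hr1 hr2 using fun c => Sheaf2.exists_glue g h hspan (σg' c) (σh' c) (hcompat c)
  refine ⟨{ toFun := r
            map_one' := ?_
            map_mul' := ?_
            map_zero' := ?_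
            map_add' := ?_
            commutes' := ?_ }, ?_⟩
  · apply Sheaf2.eq_of_eq g h hspan
    · rw [hr1, map_one, map_one]
    · rw [hr2, map_one, map_one]
  · intro a b
    apply Sheaf2.eq_of_eq g h hspan
    · rw [hr1, map_mul, map_mul, hr1, hr1]
    · rw [hr2, map_mul, map_mul, hr2, hr2]
  · apply Sheaf2.eq_of_eq g h hspan
    · rw [hr1, map_zero, map_zero]
    · rw [hr2, map_zero, map_zero]
  · intro a b
    apply Sheaf2.eq_of_eq g h hspan
    · rw [hr1, map_add, map_add, hr1, hr1]
    · rw [hr2, map_add, map_add, hr2, hr2]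
  · intro x
    apply Sheaf2.eq_of_eq g h hspan
    · show algebraMap D (Away g) (r (algebraMap A C x)) = _
      rw [hr1, AlgHom.commutes, ← IsScalarTower.algebraMap_apply]
    · show algebraMap D (Away h) (r (algebraMap A C x)) = _
      rw [hr2, AlgHom.commutes, ← IsScalarTower.algebraMap_apply]
  · intro c hc
    show r c ∈ I.map (algebraMap A D)
    apply Submodule.mem_of_span_eq_top_of_smul_pow_mem _ ({g, h} : Set D) hspan
    rintro ⟨a, ha⟩
    rcases ha with rfl | ha
    · apply exists_pow_mul_mem
      rw [hr1, Ideal.map_map, ← IsScalarTower.algebraMap_eq, subDer_apply]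
      exact sub_mem (hσg c hc) (δg c).val_mem
    · rw [Set.mem_singleton_iff] at ha
      subst ha
      apply exists_pow_mul_mem
      rw [hr2, Ideal.map_map, ← IsScalarTower.algebraMap_eq, subDer_apply]
      exact sub_mem (hσh c hc) (δh c).val_mem

end Glue

end Groth.Agent.Lib.Helper31.RelLift
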