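/-
helper31: relative lifting property, part 5: the relative lifting property is Zariski local on the
base (main ring-level theorem `exists_lift`).
-/
import Groth.Agent.Lib.Helper31.RelLift4

set_option autoImplicit false
universe u

namespace Groth.Agent.Lib.Helper31.RelLift

open TensorProduct KaehlerDifferential Localization

section Main

variable {A C : Type u} [CommRing A] [CommRing C] [Algebra A C] {I : Ideal A}
  {π : C →ₐ[A] A ⧸ I}

lemma liftExists_of_algHom {D D' : Type u} [CommRing D] [CommRing D'] [Algebra A D]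
    [Algebra A D'] (φ : D →ₐ[A] D') (h : LiftExists I π D) : LiftExists I π D' := by
  obtain ⟨σ, hσ⟩ := h
  refine ⟨φ.comp σ, fun c hc => ?_⟩
  have h1 : φ (σ c) ∈ (I.map (algebraMap A D)).map φ.toRingHom :=
    Ideal.mem_map_of_mem _ (hσ c hc)
  rwa [Ideal.map_map, AlgHom.toRingHom_eq_coe, AlgHom.comp_algebraMap] at h1

lemma liftExists_away_of_hypAt (hI : I ^ 2 = ⊥) {g : A} (H : HypAt I π g) :
    LiftExists I π (Away g) := by
  have hK := map_sq_eq_bot hI (Away g)
  have h0 : ∀ a ∈ I, ((Ideal.Quotient.mkₐ A (I.map (algebraMap A (Away g)))).comp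
      (Algebra.ofId A (Away g))) a = 0 := by
    intro a ha
    show Ideal.Quotient.mk _ (algebraMap A (Away g) a) = 0
    exact Ideal.Quotient.eq_zero_iff_mem.mpr (Ideal.mem_map_of_mem _ ha)
  let σ₂ : C →ₐ[A] (Away g ⧸ I.map (algebraMap A (Away g))) :=
    (Ideal.Quotient.liftₐ I _ h0).comp π
  obtain ⟨σ₁, hσ₁⟩ := H (Away g) (Away g ⧸ I.map (algebraMap A (Away g)))
    (Ideal.Quotient.mkₐ A _) (Ideal.Quotient.mkₐ_surjective A _) (I.map (algebraMap A (Away g))) hK
    (by intro x hx; exact Ideal.Quotient.eq_zero_iff_mem.mp ((RingHom.mem_ker).mp hx))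
    (IsLocalization.Away.algebraMap_isUnit g) σ₂
    (fun c hc => by
      have : σ₂ c = 0 := by
        show (Ideal.Quotient.liftₐ I _ h0) (π c) = 0
        rw [(RingHom.mem_ker).mp hc, map_zero]
      rw [this]; exact zero_mem _)
  refine ⟨σ₁, fun c hc => ?_⟩
  have h1 : (Ideal.Quotient.mkₐ A (I.map (algebraMap A (Away g)))) (σ₁ c) = σ₂ c :=
    congrArg (fun f => f c) hσ₁
  have h2 : σ₂ c = 0 := by
    show (Ideal.Quotient.liftₐ I _ h0) (π c) = 0
    rw [(RingHom.mem_ker).mp hc, map_zero]
  rw [h2] at h1
  exact Ideal.Quotient.eq_zero_iff_mem.mp h1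

theorem lp_of_hyp (G : Set A) (hG : Ideal.span G = ⊤) (H : ∀ g ∈ G, HypAt I π g) : LP I π := by
  intro N₁ N₂ _ _ _ _ _ _ _ _ hJ p hp d₂
  haveI := projective_quotient_tensor G hG H
  exact exists_derivation_lift (RingHom.ker π) hJ p hp d₂

theorem liftExists_self (hI : I ^ 2 = ⊥) (G : Set A) (hG : Ideal.span G = ⊤)
    (H : ∀ g ∈ G, HypAt I π g) : LiftExists I π A := by
  have hLP : LP I π := lp_of_hyp G hG H
  have h1 : (1 : A) ∈ Ideal.span G := by rw [hG]; trivial
  have key : LiftExists I π (Away (1 : A)) := by
    refine Submodule.span_induction (p := fun x _ => LiftExists I π (Away x)) ?_ ?_ ?_ ?_ h1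
    · intro x hx
      exact liftExists_away_of_hypAt hI (H x hx)
    · haveI : Subsingleton (Away (0 : A)) :=
        IsLocalization.subsingleton (M := Submonoid.powers (0 : A)) ⟨1, pow_one 0⟩
      exact ⟨{ toFun := fun _ => 0
               map_one' := Subsingleton.elim _ _
               map_mul' := fun _ _ => Subsingleton.elim _ _
               map_zero' := rfl
               map_add' := fun _ _ => Subsingleton.elim _ _
               commutes' := fun _ => Subsingleton.elim _ _ }, fun c _ => by
                 show (0 : Away (0 : A)) ∈ _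
                 exact zero_mem _⟩
    · intro x y _ _ hx hy
      -- binary gluing over `D = A_{x+y}`
      have hu : IsUnit (algebraMap A (Away (x + y)) (x + y)) :=
        IsLocalization.Away.algebraMap_isUnit _
      have hspan : Ideal.span ({algebraMap A (Away (x + y)) x, algebraMap A (Away (x + y)) y} :
          Set (Away (x + y))) = ⊤ := by
        apply Ideal.eq_top_of_isUnit_mem _ _ hu
        rw [map_add]
        exact add_mem (Ideal.subset_span (by simp)) (Ideal.subset_span (by simp))
      apply liftExists_of_cover hI hLP (Away (x + y)) _ _ hspan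
      · have hux : IsUnit ((Algebra.ofId A (Away (algebraMap A (Away (x + y)) x))) x) := by
          show IsUnit (algebraMap A (Away (algebraMap A (Away (x + y)) x)) x)
          rw [IsScalarTower.algebraMap_apply A (Away (x + y))
            (Away (algebraMap A (Away (x + y)) x)) x]
          exact IsLocalization.Away.algebraMap_isUnit _
        exact liftExists_of_algHom (IsLocalization.Away.liftAlgHom (S := Away x) x hux) hx
      · have huy : IsUnit ((Algebra.ofId A (Away (algebraMap A (Away (x + y)) y))) y) := by
          show IsUnit (algebraMap A (Away (algebraMap A (Away (x + y)) y)) y)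
          rw [IsScalarTower.algebraMap_apply A (Away (x + y))
            (Away (algebraMap A (Away (x + y)) y)) y]
          exact IsLocalization.Away.algebraMap_isUnit _
        exact liftExists_of_algHom (IsLocalization.Away.liftAlgHom (S := Away y) y huy) hy
    · intro a x _ hx
      have hux : IsUnit ((Algebra.ofId A (Away (a • x))) x) := by
        show IsUnit (algebraMap A (Away (a • x)) x)
        exact IsLocalization.Away.isUnit_of_dvd (a • x) ⟨a, by rw [smul_eq_mul, mul_comm]⟩
      exact liftExists_of_algHom (IsLocalization.Away.liftAlgHom (S := Away x) x hux) hx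
  have hu1 : IsUnit ((AlgHom.id A A) (1 : A)) := isUnit_one
  exact liftExists_of_algHom (IsLocalization.Away.liftAlgHom (S := Away (1 : A)) 1 hu1) key

/-- **The relative lifting property is Zariski local on the base.** -/
theorem exists_lift (hI : I ^ 2 = ⊥) (G : Set A) (hG : Ideal.span G = ⊤)
    (H : ∀ g ∈ G, HypAt I π g) : ∃ σ : C →ₐ[A] A, (Ideal.Quotient.mkₐ A I).comp σ = π := by
  obtain ⟨σ, hσ⟩ := liftExists_self hI G hG H
  refine ⟨σ, ?_⟩
  ext c
  obtain ⟨x, hx⟩ := Ideal.Quotient.mk_surjective (π c)
  have h1 := sub_mem_of_liftExists σ hσ c x hx.symm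
  rw [Algebra.algebraMap_self, Ideal.map_id, RingHom.id_apply] at h1
  show Ideal.Quotient.mk I (σ c) = π c
  rw [← hx]
  exact Ideal.Quotient.eq.mpr h1

end Main

end Groth.Agent.Lib.Helper31.RelLift
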